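import Cfsg.Agent.H7.T3Cx
import Cfsg.Agent.H77.T3Rt
import Cfsg.Agent.H62.T3Ba1
import Cfsg.Agent.H3.T3Ba3
import Cfsg.Agent.H19.T3Free
import Cfsg.Agent.H32.T3Com
import Cfsg.Agent.H20.T3Res
import Cfsg.Agent.H44.T3Pce
import Cfsg.Agent.H83.T3Stp0
import Cfsg.Agent.H3.T3Stp
import Cfsg.Agent.H33.T3Win
import Cfsg.Agent.H15.T3Qa

/-!
# The window of four root groups inside an arbitrary Moufang residue
-/

set_option autoImplicit false

namespace Cfsg.Agent.H52.CksWin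

open Cfsg.Agent.H35 Cfsg.Agent.Lead.T3 Cfsg.Agent.H33.T3Win Equiv

universe u

theorem cx : CxStmt := H7.T3Cx.cxStmt
theorem rt : RtStmt := H77.T3Rt.rtStmt
theorem ba1 : Ba1Stmt.{u} := @H62.T3B.ba1Stmt.{u}
theorem ba3 : Ba3Stmt.{u} := @H3.T3Ba3.ba3Stmt.{u} @cx @ba1.{u}
theorem free : FreeStmt.{u} := @H19.T3Free.freeStmt.{u} @cx @rt @ba1.{u} @ba3.{u}
theorem mel : MelStmt.{u} := @H19.T3Free.melStmt.{u} @cx @rt @ba1.{u} @ba3.{u}
theorem com : ComStmt.{u} := @H32.T3C.comStmt.{u} @cx @rt @ba1.{u} @free.{u}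
theorem res : ResStmt.{u} := @H20.T3.resStmt.{u} @free.{u}
theorem pce : PceStmt.{u} := @H44.T3Pce.pceStmt.{u}
theorem stp0 : Stp0Stmt.{u} := @H83.T3S.stp0Stmt.{u} @free.{u}
theorem stp : StpStmt.{u} :=
  @H3.T3Stp.stpStmt.{u} @free.{u} @mel.{u} @com.{u} @res.{u} @stp0.{u}
theorem sth : SthStmt.{u} := @H3.T3Stp.sthStmt.{u}
theorem qa : QaStmt.{u} := @H15.T3Q.qaStmt.{u}

/-- The window in a Moufang residue of any type `K` containing the triple. -/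
theorem winK {I W : Type} [Group W] [Finite W] {X : Cox I W} {C : Type u} [Finite C] (B : Bld X C)
    (σ : W → C) (K : Set I) (i j k : I) (F : Type) [Field F] (κ κ' : C → F)
    (x : Fin 3 → Fin 3 → F → Perm C) (hσ : B.Apt σ) (hT : X.Tri 4 i j k) (iK : i ∈ K)
    (jK : j ∈ K) (kK : k ∈ K) (hM : B.Mou K (σ 1)) (hP : StP B σ K i j κ κ' x) :
    ∃ x3 x3', Win (B.R σ K 1 j) (B.R σ K (X.s j) k)
      (B.R σ K (X.s j * X.s k) j) (B.R σ K 1 k) (x 1 2) x3 x3' (hh x 1 0) (hh x 2 0) := by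
  have hC : CxStmt := @CksWin.cx
  have hR : RtStmt := @CksWin.rt
  have hF : FreeStmt.{u} := @CksWin.free.{u}
  have hMel : MelStmt.{u} := @CksWin.mel.{u}
  have hCom : ComStmt.{u} := @CksWin.com.{u}
  have hS : SthStmt.{u} := @CksWin.sth.{u}
  obtain ⟨hij, hjk, hik⟩ := hT
  have hji : X.m j i = 3 := by rw [m_symm, hij]
  have hkj : X.m k j = 4 := by rw [m_symm, hjk]
  have hki : X.m k i = 2 := by rw [m_symm, hik]
  have oK : (1 : W) ∈ X.WJ K := one_mem _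
  have aK := s_mem X iK
  have bK := s_mem X jK
  have cK := s_mem X kK
  obtain ⟨free, conj, -, -⟩ := hF B σ K hσ
  have mel := hMel B σ K hσ hM
  have com := hCom B σ K hσ hM
  have sth := hS x hP.rel
  have gk : ∃ t ∈ K, 3 ≤ X.m k t := ⟨j, jK, by omega⟩
  have gj : ∃ t ∈ K, 3 ≤ X.m j t := ⟨k, kK, by omega⟩
  -- the parametrised root groups
  have m01 : ∀ t, x 0 1 t ∈ B.R σ K 1 i := fun t => (hP.mem 0 1 (by decide) _).2 ⟨t, rfl⟩
  have m10 : ∀ t, x 1 0 t ∈ B.R σ K (X.s i) i := fun t => (hP.mem 1 0 (by decide) _).2 ⟨t, rfl⟩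
  have m02 : ∀ t, x 0 2 t ∈ B.R σ K (X.s i) j := fun t => (hP.mem 0 2 (by decide) _).2 ⟨t, rfl⟩
  have m20 : ∀ t, x 2 0 t ∈ B.R σ K (X.s i * X.s j) j :=
    fun t => (hP.mem 2 0 (by decide) _).2 ⟨t, rfl⟩
  have m12 : ∀ g, g ∈ B.R σ K 1 j ↔ ∃ t, x 1 2 t = g := hP.mem 1 2 (by decide)
  have m21 : ∀ g, g ∈ B.R σ K (X.s j) j ↔ ∃ t, x 2 1 t = g := hP.mem 2 1 (by decide)
  -- identifications of roots
  have v2i : ∀ v, B.R σ K (v * X.s k) i = B.R σ K v i :=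
    fun v => congrArg (B.U σ K) (mv2 X hC hR hki v)
  have v2k : ∀ v, B.R σ K (v * X.s i) k = B.R σ K v k :=
    fun v => congrArg (B.U σ K) (mv2 X hC hR hik v)
  have v3 : ∀ v, B.R σ K (v * (X.s i * X.s j)) i = B.R σ K v j :=
    fun v => congrArg (B.U σ K) (mv3 X hC hR hij v)
  have v4k : ∀ v, B.R σ K (v * (X.s j * (X.s k * X.s j))) k = B.R σ K v k :=
    fun v => congrArg (B.U σ K) (mv4 X hC hR hjk v)
  have v4j : ∀ v, B.R σ K (v * (X.s k * (X.s j * X.s k))) j = B.R σ K v j :=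
    fun v => congrArg (B.U σ K) (mv4 X hC hR hkj v)
  have e3 : B.R σ K (X.s j * X.s k) j = B.R σ K (X.s k) j := by
    rw [← v4j (X.s k), X.s_mul_s_cancel_left]
  have e4 : B.R σ K (X.s j * X.s k * X.s j) k = B.R σ K 1 k := by
    rw [← v4k 1, one_mul, mul_assoc]
  have e5 : B.R σ K (X.s j * X.s k * X.s j * X.s k) j = B.R σ K (X.s j) j := by
    rw [← v4j (X.s j)]
    simp only [mul_assoc]
  have e02 : B.R σ K (X.s i) j = B.R σ K (X.s j) i := by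
    rw [← v3 (X.s i), X.s_mul_s_cancel_left]
  have e20 : B.R σ K (X.s i * X.s j) j = B.R σ K (X.s j * X.s i) i := by
    rw [← v3 (X.s i * X.s j)]
    congr 1
    have := br3 X hij
    calc X.s i * X.s j * (X.s i * X.s j) = X.s i * (X.s j * X.s i) * X.s j := by group
      _ = X.s j * X.s i := by rw [this, mul_assoc, X.s_mul_s_cancel_right]
  -- orthogonal roots
  have orth : ∀ v ∈ X.WJ K, ∀ p, (p ∈ B.R σ K v i ∨ p ∈ B.R σ K (v * X.s i) i) →
      ∀ q, (q ∈ B.R σ K v k ∨ q ∈ B.R σ K (v * X.s k) k) → Commute p q := by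
    have hac : ∀ v : W, v * X.s i * X.s k = v * X.s k * X.s i := fun v => by
      rw [mul_assoc, br2 X hik, mul_assoc]
    rintro v hv p (hp | hp) q (hq | hq)
    · exact (com v hv i iK k kK).1 hik p hp q hq
    · exact (com _ (mul_mem hv cK) i iK k kK).1 hik p (by rwa [v2i]) q hq
    · exact (com _ (mul_mem hv aK) i iK k kK).1 hik p hp q (by rwa [v2k])
    · exact (com _ (mul_mem (mul_mem hv aK) cK) i iK k kK).1 hik p (by rwa [v2i]) q
        (by rwa [hac, v2k])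
  have cH : ∀ t q, (q ∈ B.R σ K 1 k ∨ q ∈ B.R σ K (1 * X.s k) k) → Commute (hh x 1 0 t) q :=
    fun t q hq => comm_hh x 1 0 q
      (fun s => orth 1 oK _ (Or.inr (by rw [one_mul]; exact m10 s)) q hq)
      (fun s => orth 1 oK _ (Or.inl (m01 s)) q hq) t
  have cH' : ∀ t q, (q ∈ B.R σ K (X.s j) k ∨ q ∈ B.R σ K (X.s j * X.s k) k) →
      Commute (hh x 2 0 t) q :=
    fun t q hq => comm_hh x 2 0 q
      (fun s => orth _ bK _ (Or.inr (by rw [← e20]; exact m20 s)) q hq)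
      (fun s => orth _ bK _ (Or.inl (by rw [← e02]; exact m02 s)) q hq) t
  -- the tori normalise all root groups
  have tor : ∀ (a b : Fin 3), a ≠ b → (prt X i j a b).1 ∈ X.WJ K → (prt X i j a b).2 ∈ K →
      ∀ t, t ≠ 0 → ∀ v l, ∀ g ∈ B.R σ K v l, hh x a b t * g * (hh x a b t)⁻¹ ∈ B.R σ K v l := by
    intro a b hab h1 h2 t ht v l g hg
    have hx : ∀ a b : Fin 3, a ≠ b → ∀ t, x a b t ∈ B.Aut K (σ 1) :=
      fun a b hab t => ((hP.mem a b hab _).2 ⟨t, rfl⟩).1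
    have hn : ∀ t, nn x a b t ∈ B.Aut K (σ 1) := fun t =>
      mul_mem (mul_mem (hx a b hab _) (hx b a hab.symm _)) (hx a b hab _)
    have hr := rf_mem X h1 h2
    have := conj (hh x a b t) (mul_mem (hn t) (inv_mem (hn 1))) 1 oK (fun w hw => by
      show nn x a b t ((nn x a b 1)⁻¹ (σ w)) = _
      rw [inv_apt hr (rf_sq X _ _) (hP.nσ a b hab 1 one_ne_zero) w hw,
        hP.nσ a b hab t ht _ (mul_mem hr hw), ← mul_assoc, rf_sq]) v l g hg
    rwa [one_mul] at this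
  have torH := tor 1 0 (by decide) aK iK
  have torH' := tor 2 0 (by decide) (mul_mem aK bK) jK
  -- conjugation by the elements `m(u)`
  have cm : ∀ v ∈ X.WJ K, ∀ l ∈ K, ∀ n ∈ B.Aut K (σ 1),
      (∀ w ∈ X.WJ K, n (σ w) = σ (X.rf v l * w)) → ∀ v' l',
        (∀ g ∈ B.R σ K v' l', n * g * n⁻¹ ∈ B.R σ K (X.rf v l * v') l') ∧
        ∀ g ∈ B.R σ K (X.rf v l * v') l', n⁻¹ * g * n ∈ B.R σ K v' l' := by
    intro v hv l hl n hn h v' l'
    have hr := rf_mem X hv hl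
    refine ⟨conj n hn _ hr h v' l', fun g hg => ?_⟩
    have := conj n⁻¹ (inv_mem hn) _ hr (inv_apt hr (rf_sq X _ _) h) _ l' g hg
    rwa [inv_inv, ← mul_assoc, rf_sq, one_mul] at this
  have rf1 : ∀ l, X.rf 1 l = X.s l := fun l => by simp [Cox.rf]
  -- the two parametrisations of the third root group
  obtain ⟨y0, hy0, hy0'⟩ := exists_ne_one hσ hM oK kK
  obtain ⟨a0, ha0, b0, hb0, hm0⟩ := mel 1 oK k kK gk y0 hy0 hy0'
  have cm0 := cm 1 oK k kK _ (mul_mem (mul_mem ha0.1 hy0.1) hb0.1) hm0 1 j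
  rw [rf1, mul_one, ← e3] at cm0
  have cH0 : ∀ t, Commute (hh x 1 0 t) (a0 * y0 * b0) := fun t =>
    ((cH t _ (Or.inr ha0)).mul_right (cH t _ (Or.inl hy0))).mul_right (cH t _ (Or.inr hb0))
  generalize a0 * y0 * b0 = m0 at cm0 cH0
  obtain ⟨y1, hy1, hy1'⟩ := exists_ne_one hσ hM bK kK
  obtain ⟨a1, ha1, b1, hb1, hm1⟩ := mel _ bK k kK gk y1 hy1 hy1'
  have cm1 := cm _ bK k kK _ (mul_mem (mul_mem ha1.1 hy1.1) hb1.1) hm1 (X.s j) j
  rw [rf_mul] at cm1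
  have cH1 : ∀ t, Commute (hh x 2 0 t) (a1 * y1 * b1) := fun t =>
    ((cH' t _ (Or.inr ha1)).mul_right (cH' t _ (Or.inl hy1))).mul_right (cH' t _ (Or.inr hb1))
  generalize a1 * y1 * b1 = m1 at cm1 cH1
  have inj12 : Function.Injective (x 1 2) :=
    inj_of_add (hP.rel.add 1 2 (by decide)) (hP.rel.inj 1 2 (by decide))
  have inj21 : Function.Injective (x 2 1) :=
    inj_of_add (hP.rel.add 2 1 (by decide)) (hP.rel.inj 2 1 (by decide))
  have mem3' : ∀ g, g ∈ B.R σ K (X.s j * X.s k) j ↔ ∃ t, m1 * x 2 1 t * m1⁻¹ = g := by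
    intro g
    constructor
    · intro hg
      obtain ⟨t, ht⟩ := (m21 _).1 (cm1.2 g hg)
      exact ⟨t, by rw [ht]; group⟩
    · rintro ⟨t, rfl⟩
      exact cm1.1 _ ((m21 _).2 ⟨t, rfl⟩)
  have k3 : ∀ t, t ≠ 0 → ∀ s, hh x 2 0 t * (m1 * x 2 1 s * m1⁻¹) * (hh x 2 0 t)⁻¹ =
      m1 * x 2 1 (t * s) * m1⁻¹ := fun t ht s =>
    conj_conj (cH1 t) (sth 2 0 1 (by decide) (by decide) (by decide) t ht s).1
  -- commutator relations
  have c14 : ∀ p ∈ B.R σ K 1 j, ∀ q ∈ B.R σ K 1 k, ∃ y ∈ B.R σ K (X.s j) k,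
      ∃ z ∈ B.R σ K (X.s j * X.s k) j, p * q * p⁻¹ * q⁻¹ = y * z := by
    have := (com 1 oK j jK k kK).2.2.2.2 hjk
    simpa only [one_mul] using this
  -- fixed chambers
  have bcK := mul_mem bK cK
  have cbK := mul_mem cK bK
  have f3 : ∀ g ∈ B.R σ K (X.s j * X.s k) j, g (σ (X.s j * X.s k)) = σ (X.s j * X.s k) :=
    fun g hg => hg.2.1 _ bcK ((hR X).1 _ _)
  have f4 : ∀ g ∈ B.R σ K 1 k, g (σ (X.s j * X.s k)) = σ (X.s j * X.s k) := fun g hg =>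
    hg.2.1 _ bcK (by
      show X.len (1⁻¹ * _) < X.len (_ * (1⁻¹ * _))
      rw [inv_one, one_mul, len2 X hC (by omega), len3 X hC (by omega)]
      omega)
  have f1 : ∀ g ∈ B.R σ K 1 j, g (σ (X.s k * X.s j)) = σ (X.s k * X.s j) := fun g hg =>
    hg.2.1 _ cbK (by
      show X.len (1⁻¹ * _) < X.len (_ * (1⁻¹ * _))
      rw [inv_one, one_mul, len2 X hC (by omega), len3 X hC (by omega)]
      omega)
  have f2 : ∀ g ∈ B.R σ K (X.s j) k, g (σ (X.s k * X.s j)) = σ (X.s k * X.s j) := fun g hg =>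
    hg.2.1 _ cbK (by
      show X.len ((X.s j)⁻¹ * _) < X.len (_ * ((X.s j)⁻¹ * _))
      rw [InvGen.inv_s, len3 X hC (by omega), len4 X hC (by omega)]
      omega)
  have free2 : ∀ g ∈ B.R σ K (X.s j) k, g (σ (X.s j * X.s k)) = σ (X.s j * X.s k) → g = 1 :=
    fun g hg h => free _ bK k kK gk g hg _ (apt_pan hσ _ _) h
  have free3 : ∀ g ∈ B.R σ K (X.s k) j, g (σ (X.s k * X.s j)) = σ (X.s k * X.s j) → g = 1 :=
    fun g hg h => free _ cK j jK gj g hg _ (apt_pan hσ _ _) h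
  have hg1 : x 1 2 1 ∈ B.R σ K 1 j := (m12 _).2 ⟨1, rfl⟩
  have hg1' : x 1 2 1 ≠ 1 := fun h => one_ne_zero (hP.rel.inj 1 2 (by decide) 1 h)
  refine ⟨fun t => m0 * x 1 2 t * m0⁻¹, fun t => m1 * x 2 1 t * m1⁻¹,
    { add1 := hP.rel.add 1 2 (by decide)
      inj1 := inj12
      mem1 := m12
      add3 := fun s t => by rw [hP.rel.add 1 2 (by decide)]; group
      inj3 := fun s t h => inj12 (by simpa using h)
      mem3 := fun g => ⟨fun hg => ?_, ?_⟩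
      add3' := fun s t => by rw [hP.rel.add 2 1 (by decide)]; group
      inj3' := fun s t h => inj21 (by simpa using h)
      mem3' := mem3'
      c12 := by simpa only [one_mul] using (com 1 oK j jK k kK).2.1 (Or.inr hjk)
      c23 := (com _ bK k kK j jK).2.1 (Or.inr hkj)
      c34 := by rw [← e4]; exact (com _ bcK j jK k kK).2.1 (Or.inr hjk)
      c13 := by simpa only [one_mul] using (com 1 oK j jK k kK).2.2.2.1 hjk
      c24 := by rw [← e4]; exact (com _ bK k kK j jK).2.2.2.1 hkj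
      c14 := c14
      i23 := ?_
      bij := ?_
      ne3 := ?_
      h1 := fun t ht s => (sth 1 0 2 (by decide) (by decide) (by decide) t ht s).1
      h2 := fun t ht => torH t ht _ _
      h3 := fun t ht s =>
        conj_conj (cH0 t) (sth 1 0 2 (by decide) (by decide) (by decide) t ht s).1
      h4 := fun t _ g hg => by rw [(cH t g (Or.inl hg)).eq]; group
      k1 := fun t ht s => (sth 2 0 1 (by decide) (by decide) (by decide) t ht s).2.1
      k2 := fun t _ g hg => by rw [(cH' t g (Or.inl hg)).eq]; group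
      k3 := k3
      k4 := fun t ht => torH' t ht _ _
      hk := ?_ }⟩
  · obtain ⟨t, ht⟩ := (m12 _).1 (cm0.2 g hg)
    exact ⟨t, by rw [ht]; group⟩
  · rintro ⟨t, rfl⟩
    exact cm0.1 _ ((m12 _).2 ⟨t, rfl⟩)
  · rw [eq_bot_iff]
    intro g hg
    exact free2 g hg.1 (f3 g hg.2)
  · obtain ⟨α, hα, β, hβ, hn⟩ := mel 1 oK j jK gj _ hg1 hg1'
    rw [one_mul] at hα hβ
    have cn := cm 1 oK j jK _ (mul_mem (mul_mem hα.1 hg1.1) hβ.1) hn 1 k
    rw [rf1, mul_one] at cn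
    have c45 : ∀ p ∈ B.R σ K 1 k, ∀ q ∈ B.R σ K (X.s j) j, p * q = q * p := by
      rw [← e4, ← e5]
      exact (com _ (mul_mem bcK bK) k kK j jK).2.1 (Or.inr hkj)
    have key : ∀ y ∈ B.R σ K 1 k, ∀ p ∈ B.R σ K (X.s j) k, ∀ q ∈ B.R σ K (X.s j * X.s k) j,
        x 1 2 1 * y * (x 1 2 1)⁻¹ * y⁻¹ = p * q →
        p = α * x 1 2 1 * β * y * (α * x 1 2 1 * β)⁻¹ := by
      intro y hy p hp q hq e
      have hc := cn.1 y hy
      have e1 : α * x 1 2 1 * β * y * (α * x 1 2 1 * β)⁻¹ =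
          α * (x 1 2 1 * y * (x 1 2 1)⁻¹) * α⁻¹ := by
        rw [mul_assoc (α * x 1 2 1) β y, ← c45 y hy β hβ]
        group
      generalize α * x 1 2 1 * β * y * (α * x 1 2 1 * β)⁻¹ = cc at hc e1
      obtain ⟨z, hz, y', hy', e2⟩ := (com _ bK k kK j jK).2.2.2.2 hkj _ (inv_mem hc) _ (inv_mem hα)
      rw [e4] at hy'
      have e3 : cc⁻¹ * p = z * y' * y⁻¹ * q⁻¹ := by
        rw [← e2, eq_mul_inv_of_mul_eq e.symm]
        have : x 1 2 1 * y * (x 1 2 1)⁻¹ = α⁻¹ * cc * α := by rw [e1]; group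
        rw [this]
        group
      have := free2 _ (mul_mem (inv_mem hc) hp) (by
        rw [e3, Perm.mul_apply, Perm.mul_apply, Perm.mul_apply, f3 _ (inv_mem hq),
          f4 _ (inv_mem hy), f4 _ hy', f3 _ hz])
      exact (inv_mul_eq_one.1 this).symm
    intro p hp
    have hb := cn.2 p hp
    obtain ⟨p', hp', q, hq, e⟩ := c14 _ hg1 _ hb
    have hpp : p' = p := by rw [key _ hb p' hp' q hq e]; group
    refine ⟨_, ⟨hb, q, hq, by rw [e, hpp]⟩, ?_⟩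
    rintro y ⟨hy, q', hq', e'⟩
    rw [key y hy p hp q' hq' e']
    group
  · intro y hy hp
    by_contra hy1
    obtain ⟨α, hα, β, hβ, hn⟩ := mel 1 oK k kK gk _ hy hy1
    rw [one_mul] at hα hβ
    have cn := (cm 1 oK k kK _ (mul_mem (mul_mem hα.1 hy.1) hβ.1) hn 1 j).1 _ (inv_mem hg1)
    rw [rf1, mul_one] at cn
    have c01 : ∀ p ∈ B.R σ K (X.s k) k, ∀ q ∈ B.R σ K 1 j, p * q = q * p := by
      have := (com _ cK k kK j jK).2.1 (Or.inr hkj)
      rwa [X.s_mul_s] at this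
    have e1 : α * y * β * (x 1 2 1)⁻¹ * (α * y * β)⁻¹ = α * (y * (x 1 2 1)⁻¹ * y⁻¹) * α⁻¹ := by
      rw [mul_assoc (α * y) β, c01 β hβ _ (inv_mem hg1)]
      group
    rw [e1] at cn
    obtain ⟨z, hz, y', hy', e2⟩ := (com _ cK k kK j jK).2.2.2.2 hkj _ (inv_mem hα) _ cn
    rw [X.s_mul_s] at hz
    rw [X.s_mul_s, one_mul] at hy'
    have e3 : α * (y * (x 1 2 1)⁻¹ * y⁻¹) * α⁻¹ =
        y'⁻¹ * z⁻¹ * (x 1 2 1)⁻¹ * (x 1 2 1 * y * (x 1 2 1)⁻¹ * y⁻¹) := by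
      rw [← mul_inv_rev, ← e2]
      group
    have := free3 _ cn (by
      rw [e3, Perm.mul_apply, Perm.mul_apply, Perm.mul_apply, f2 _ hp, f1 _ (inv_mem hg1),
        f1 _ (inv_mem hz), f2 _ (inv_mem hy')])
    apply hg1'
    have h2 : x 1 2 1 = y⁻¹ * α⁻¹ * (α * (y * (x 1 2 1)⁻¹ * y⁻¹) * α⁻¹)⁻¹ * α * y := by group
    rw [h2, this]
    group
  · intro t r ht hr g hg
    obtain ⟨s, hs⟩ := (mem3' _).1 (torH t ht _ _ g hg)
    have e := ((sth 1 0 2 (by decide) (by decide) (by decide) t ht 0).2.2.2.2 r hr).2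
    have e1 : hh x 1 0 t * (hh x 2 0 r * g * (hh x 2 0 r)⁻¹) * (hh x 1 0 t)⁻¹ =
        (hh x 1 0 t * hh x 2 0 r * (hh x 1 0 t)⁻¹) * (hh x 1 0 t * g * (hh x 1 0 t)⁻¹) *
          (hh x 1 0 t * hh x 2 0 r * (hh x 1 0 t)⁻¹)⁻¹ := by group
    have e2 := k3 t ht (t⁻¹ * s)
    rw [mul_inv_cancel_left₀ ht] at e2
    have e4 := k3 (t * r) (mul_ne_zero ht hr) (t⁻¹ * s)
    rw [show t * r * (t⁻¹ * s) = r * s by field_simp] at e4
    rw [e1, e, ← hs, k3 r hr, ← e4, ← e2]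
    group

end Cfsg.Agent.H52.CksWin
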