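import Cfsg.Agent.H74.CksDefs
import Cfsg.Agent.H52.CksWin

/-!
# Windows for the double bonds of a split `BN`-pair (piece QDX of the project CKS)
-/

set_option autoImplicit false

namespace Cfsg.Agent.H52.CksQdx

open Cfsg.Agent.H35 Cfsg.Agent.Lead.T3 Cfsg.Agent.H74.Cks Cfsg.Agent.H33.T3Win Equiv

section grp

variable {F G Γ : Type} [Field F] [Group G] [Group Γ]

theorem mem_cn {g x : G} {K : Subgroup G} : x ∈ cn g K ↔ g⁻¹ * x * g ∈ K := by
  constructor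
  · rintro ⟨y, hy, rfl⟩
    simpa [mul_assoc] using hy
  · intro h
    exact ⟨_, h, by simp [mul_assoc]⟩

theorem cn_cn (g h : G) (K : Subgroup G) : cn g (cn h K) = cn (g * h) K := by
  ext x
  simp only [mem_cn, mul_inv_rev, mul_assoc]

theorem cn_one (K : Subgroup G) : cn 1 K = K := by
  ext x
  simp only [mem_cn, inv_one, one_mul, mul_one]

/-- A window pulls back along an injective homomorphism. -/
theorem pull (ψ : G →* Γ) (hψ : Function.Injective ψ) {V1 V2 V3 V4 : Subgroup G}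
    {x1 x3 x3' h h' : F → Γ} {y1 y3 y3' k k' : F → G}
    (w : Win (V1.map ψ) (V2.map ψ) (V3.map ψ) (V4.map ψ) x1 x3 x3' h h')
    (e1 : ∀ t, ψ (y1 t) = x1 t) (e3 : ∀ t, ψ (y3 t) = x3 t) (e3' : ∀ t, ψ (y3' t) = x3' t)
    (eh : ∀ t, ψ (k t) = h t) (eh' : ∀ t, ψ (k' t) = h' t) :
    Win V1 V2 V3 V4 y1 y3 y3' k k' := by
  have mm : ∀ {V : Subgroup G} {g : G}, ψ g ∈ V.map ψ ↔ g ∈ V := Subgroup.mem_map_iff_mem hψ
  have mem : ∀ {V : Subgroup G} {x : F → Γ} {y : F → G}, (∀ t, ψ (y t) = x t) →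
      (∀ g, g ∈ V.map ψ ↔ ∃ t, x t = g) → ∀ g, g ∈ V ↔ ∃ t, y t = g := by
    intro V x y e hm g
    rw [← mm, hm]
    exact exists_congr fun t => by rw [← e, hψ.eq_iff]
  refine
    { add1 := fun s t => hψ (by rw [map_mul, e1, e1, e1, w.add1])
      inj1 := fun s t e => w.inj1 (by rw [← e1, ← e1, e])
      mem1 := mem e1 w.mem1
      add3 := fun s t => hψ (by rw [map_mul, e3, e3, e3, w.add3])
      inj3 := fun s t e => w.inj3 (by rw [← e3, ← e3, e])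
      mem3 := mem e3 w.mem3
      add3' := fun s t => hψ (by rw [map_mul, e3', e3', e3', w.add3'])
      inj3' := fun s t e => w.inj3' (by rw [← e3', ← e3', e])
      mem3' := mem e3' w.mem3'
      c12 := fun a ha b hb => hψ (by rw [map_mul, map_mul, w.c12 _ (mm.2 ha) _ (mm.2 hb)])
      c23 := fun a ha b hb => hψ (by rw [map_mul, map_mul, w.c23 _ (mm.2 ha) _ (mm.2 hb)])
      c34 := fun a ha b hb => hψ (by rw [map_mul, map_mul, w.c34 _ (mm.2 ha) _ (mm.2 hb)])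
      c13 := fun a ha b hb => mm.1 (by simpa using w.c13 _ (mm.2 ha) _ (mm.2 hb))
      c24 := fun a ha b hb => mm.1 (by simpa using w.c24 _ (mm.2 ha) _ (mm.2 hb))
      c14 := fun a ha b hb => ?_
      i23 := ?_
      bij := fun a ha => ?_
      ne3 := fun b hb hc => hψ (by
        rw [map_one]
        exact w.ne3 _ (mm.2 hb) (by simpa [e1] using mm.2 hc))
      h1 := fun t ht s => hψ (by simp only [map_mul, map_inv, eh, e1, w.h1 t ht])
      h2 := fun t ht g hg => mm.1 (by simpa only [map_mul, map_inv, eh] using w.h2 t ht _ (mm.2 hg))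
      h3 := fun t ht s => hψ (by simp only [map_mul, map_inv, eh, e3, w.h3 t ht])
      h4 := fun t ht g hg => hψ (by simp only [map_mul, map_inv, eh, w.h4 t ht _ (mm.2 hg)])
      k1 := fun t ht s => hψ (by simp only [map_mul, map_inv, eh', e1, w.k1 t ht])
      k2 := fun t ht g hg => hψ (by simp only [map_mul, map_inv, eh', w.k2 t ht _ (mm.2 hg)])
      k3 := fun t ht s => hψ (by simp only [map_mul, map_inv, eh', e3', w.k3 t ht])
      k4 := fun t ht g hg => mm.1 (by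
        simpa only [map_mul, map_inv, eh'] using w.k4 t ht _ (mm.2 hg))
      hk := fun t r ht hr g hg => hψ (by
        simp only [map_mul, map_inv, eh, eh', w.hk t r ht hr _ (mm.2 hg)]) }
  · obtain ⟨_, ⟨x, hx, rfl⟩, _, ⟨y, hy, rfl⟩, e⟩ := w.c14 _ (mm.2 ha) _ (mm.2 hb)
    exact ⟨x, hx, y, hy, hψ (by simpa using e)⟩
  · rw [eq_bot_iff]
    intro g hg
    have : ψ g ∈ V2.map ψ ⊓ V3.map ψ := ⟨mm.2 hg.1, mm.2 hg.2⟩
    rw [w.i23, Subgroup.mem_bot] at this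
    exact hψ (by rw [this, map_one])
  · obtain ⟨_, ⟨⟨b, hb, rfl⟩, _, ⟨y, hy, rfl⟩, e⟩, hu⟩ := w.bij _ (mm.2 ha)
    refine ⟨b, ⟨hb, y, hy, hψ (by simpa [e1] using e)⟩, ?_⟩
    rintro b' ⟨hb', y', hy', e'⟩
    exact hψ (hu _ ⟨mm.2 hb', _, mm.2 hy', by simpa [e1] using congrArg ψ e'⟩)

/-- The action of the two tori on the coordinates of a window. -/
theorem tori {U1 U2 U3 U4 : Subgroup G} {x1 x3 x3' h h' : F → G}
    (w : Win U1 U2 U3 U4 x1 x3 x3' h h') {d : QD F U4} {a : U4 →* G}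
    (r : QRel U1 U2 U3 U4 d x1 x3 a) (h4 : U4 ≠ ⊥) :
    (∀ t, t ≠ 0 → ∀ y, h t * a y * (h t)⁻¹ = a (d.sm t y)) ∧
    (∀ t, t ≠ 0 → ∀ s, h' t * x3 s * (h' t)⁻¹ = x3 (d.σ t * s)) ∧
    ∀ t, t ≠ 0 → ∀ y : U4, h' t * y * (h' t)⁻¹ = d.sm t y := by
  have m2 : ∀ y, a y ∈ U2 := fun y => r.mem2 ▸ ⟨y, rfl⟩
  have m3 : ∀ t, x3 t ∈ U3 := fun t => (r.mem3 _).2 ⟨t, rfl⟩
  have k3 : ∀ t, t ≠ 0 → ∀ g ∈ U3, h' t * g * (h' t)⁻¹ ∈ U3 := fun t ht g hg => by
    obtain ⟨s, rfl⟩ := (w.mem3' g).1 hg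
    rw [w.k3 t ht]
    exact (w.mem3' _).2 ⟨_, rfl⟩
  have key : ∀ t, t ≠ 0 → ∀ y : U4, h' t * y * (h' t)⁻¹ = d.sm t y ∧
      h' t * x3 (t * d.Q y) * (h' t)⁻¹ = x3 (t * d.σ t * d.Q y) := by
    intro t ht y
    have e := H15.T3Q.cjF (h' t) (r.r14 t y)
    rw [w.k1 t ht, inv_mul_cancel₀ ht, w.k2 t ht _ (m2 _)] at e
    have e' := r.r14 1 ⟨_, w.k4 t ht y y.2⟩
    rw [d.sm_one, one_mul] at e'
    have e2 := mul_right_cancel (e'.symm.trans e)
    have e3 : (a (d.sm t y))⁻¹ * a ⟨_, w.k4 t ht y y.2⟩ =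
        h' t * x3 (t * d.Q y) * (h' t)⁻¹ * (x3 (d.Q ⟨_, w.k4 t ht y y.2⟩))⁻¹ := by
      rw [inv_mul_eq_iff_eq_mul, ← mul_assoc, ← e2, mul_inv_cancel_right]
    have e4 : (a (d.sm t y))⁻¹ * a ⟨_, w.k4 t ht y y.2⟩ ∈ U2 ⊓ U3 :=
      Subgroup.mem_inf.2 ⟨mul_mem (inv_mem (m2 _)) (m2 _),
        e3 ▸ mul_mem (k3 t ht _ (m3 _)) (inv_mem (m3 _))⟩
    rw [w.i23, Subgroup.mem_bot, inv_mul_eq_one] at e4
    have e5 := r.inj2 e4
    rw [← e5] at e2
    refine ⟨(congrArg Subtype.val e5).symm, ?_⟩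
    rw [← d.Q_sm]
    exact (mul_left_cancel e2).symm
  refine ⟨fun t ht y => ?_, fun t ht s => ?_, fun t ht y => (key t ht y).1⟩
  · have e := H15.T3Q.cjF (h t) (r.r14 1 y)
    rw [w.h1 t ht, w.h4 t ht _ y.2, w.h3 t ht, mul_one, one_mul, d.sm_one, r.r14] at e
    exact (mul_right_cancel (mul_right_cancel e)).symm
  · by_cases hs : s = 0
    · rw [hs, mul_zero, H15.T3Q.zero_of_add r.add3, mul_one, mul_inv_cancel]
    obtain ⟨y, hy⟩ : ∃ y : U4, y ≠ 1 := Subgroup.ne_bot_iff_exists_ne_one.1 h4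
    have hq : t * d.Q y ≠ 0 := mul_ne_zero ht fun e => hy (d.Q_ne y e)
    have hq' : d.Q y ≠ 0 := fun e => hy (d.Q_ne y e)
    have hc := div_ne_zero hs hq
    have e := w.hk _ t hc ht _ (m3 (t * d.Q y))
    rw [(key t ht y).2, w.h3 _ hc, w.h3 _ hc, div_mul_cancel₀ _ hq] at e
    rw [← e]
    congr 1
    field_simp

theorem hh_mem (x : Fin 3 → Fin 3 → F → G) (a b : Fin 3) (M : Subgroup G)
    (h1 : ∀ t, x a b t ∈ M) (h2 : ∀ t, x b a t ∈ M) (t : F) : hh x a b t ∈ M := by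
  have hn : ∀ t, nn x a b t ∈ M := fun t => mul_mem (mul_mem (h1 _) (h2 _)) (h1 _)
  exact mul_mem (hn t) (inv_mem (hn 1))

end grp

section sys

variable {G : Type} [Group G] {p n : ℕ} (S : Sys G p n)

theorem s_N (i : Fin n) : S.s i ∈ S.bn.N := S.bn.subset (S.e i).2

theorem X_le (i : Fin n) : S.X i ≤ S.U := le_sup_left.trans (S.X_sup i).le

theorem U_le : S.U ≤ S.B := S.sp.U_le ∅

theorem s_P {J : Finset (Fin n)} {i : Fin n} (hi : i ∈ J) : S.s i ∈ S.P J :=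
  BN.mem_parabolic_of_mem ⟨S.e i, by simpa using hi, rfl⟩

theorem step (m g : G) (i : Fin n) (hg : m⁻¹ * g * m ∈ S.B) :
    ∃ a ∈ cn m (S.X i), (m * S.s i)⁻¹ * (a⁻¹ * g) * (m * S.s i) ∈ S.B := by
  obtain ⟨y, hy, h⟩ := S.cell i (m⁻¹ * g * m * S.s i)
    (BN.mul_mem_cell_left hg (BN.s_mem_cell _))
  refine ⟨m * y * m⁻¹, mem_cn.2 (by simpa [mul_assoc] using hy), ?_⟩
  have := inv_mem h
  convert this using 1
  group

theorem Y_le {j k : Fin n} (h : j ≠ k) : S.Y j k ≤ S.U := by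
  intro g hg
  have e : BN.mkW S.bn (S.s k)⁻¹ (inv_mem (s_N S k)) = S.w k := by
    rw [BN.mkW_inv]
    exact (BN.gens S.bn).inv_s (S.e k)
  have := S.conj j (S.s k)⁻¹ (inv_mem (s_N S k)) (by
    rw [e, BN.len_s_mul_s (S.e.injective.ne h), (BN.exchange S.bn).len_s]
    omega) ∅ (by
    rw [e]
    intro hw
    have h1 : (S.w k)⁻¹ * S.w j * S.w k = 1 := by simpa [BN.WJ] using hw
    apply BN.gens_s_ne_one (S.e j)
    calc S.w j = S.w k * ((S.w k)⁻¹ * S.w j * S.w k) * (S.w k)⁻¹ := by group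
      _ = 1 := by rw [h1]; group) _ (mem_cn.1 hg)
  simpa [mul_assoc] using this

theorem mem_T {g : G} (h : ∀ m ∈ S.bn.N, m⁻¹ * g * m ∈ S.B) : g ∈ S.T := by
  classical
  obtain ⟨m, hm, -, h1⟩ := S.sp.exists_n (Finset.univ.map S.e.toEmbedding)
  have := h1 g (by simpa using h 1 (one_mem _)) (h m hm)
  rwa [S.sp.U_univ _ (fun i => by simp), bot_sup_eq] at this

theorem mem_Q (hUT : S.U ⊓ S.T = ⊥) {J : Finset (Fin n)} (hQ : S.Q J ≤ S.U) {m : G}
    (hm : m ∈ S.bn.N)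
    (hl : (BN.gens S.bn).IsLongest (J.map S.e.toEmbedding : Finset S.bn.S) (BN.mkW S.bn m hm))
    {g : G} (hg : g ∈ S.U) (h : m⁻¹ * g * m ∈ S.B) : g ∈ S.Q J := by
  have h1 : m⁻¹ * BN.rep S.bn (BN.mkW S.bn m hm) ∈ S.B := by
    rw [← BN.mkW_eq_iff hm (BN.rep_mem _), BN.mkW_rep]
  have h2 : g ∈ S.Q J ⊔ S.T := by
    rw [← S.sp.B_inf_cj hl]
    refine ⟨U_le S hg, mem_cj.2 ?_⟩
    have := mul_mem (mul_mem (inv_mem h1) h) h1
    convert this using 1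
    group
  have h3 : S.T ≤ Subgroup.normalizer (S.Q J : Set G) :=
    (inf_le_left.trans (BN.B_le_parabolic _)).trans (S.sp.U_normal _)
  have h4 : g ∈ ((S.Q J ⊔ S.T : Subgroup G) : Set G) := h2
  rw [Subgroup.coe_mul_of_right_le_normalizer_left _ _ h3] at h4
  obtain ⟨q, hq, t, ht, rfl⟩ := h4
  have h5 : t ∈ S.U ⊓ S.T := ⟨by simpa using mul_mem (inv_mem (hQ hq)) hg, ht⟩
  rw [hUT, Subgroup.mem_bot] at h5
  simpa [h5] using hq

end sys

/-- **QDX** -/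
theorem qdxStmt (hB : Bas1Stmt) (hG : RgxStmt) : QdxStmt := by
  intro G _ _ _ p n _ S hc i j k hij hjk hik
  classical
  obtain ⟨W, _, _, X, T, hTe, hm, hψ, -, σ, hσ, hM, hσm, hRm⟩ := hG S hc (Fin.pos i)
  obtain ⟨-, -, -, -, hUT, -, -, -, -, hQ, hX, -, -, hrig, -⟩ := hB S
  set ψ := MulAction.toPermHom G (G ⧸ S.bn.B) with hψdef
  rw [← hm] at hij hjk hik
  have hkj : X.m k j = 4 := by rw [m_symm, hjk]
  have hne : j ≠ k := ne_of_m X (by omega)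
  have φs : ∀ a, T.φ (BN.mkW S.bn (S.s a) (s_N S a)) = X.s a := fun a => by
    rw [← T.φ_s a, hTe]
    rfl
  have R0 : ∀ l, T.bld.R σ Set.univ 1 l = (S.X l).map ψ := fun l => by
    have := hRm 1 (one_mem _) l
    rwa [BN.mkW_one, map_one, cn_one] at this
  have R1 : ∀ a l, T.bld.R σ Set.univ (X.s a) l = (cn (S.s a) (S.X l)).map ψ := fun a l => by
    have := hRm _ (s_N S a) l
    rwa [φs] at this
  have R2 : ∀ a b l, T.bld.R σ Set.univ (X.s a * X.s b) l =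
      (cn (S.s a) (cn (S.s b) (S.X l))).map ψ := fun a b l => by
    have := hRm _ (mul_mem (s_N S a) (s_N S b)) l
    rwa [BN.mkW_mul (s_N S a) (s_N S b), map_mul, φs, φs, ← cn_cn] at this
  have v4 : ∀ a b, X.m a b = 4 → cn (S.s a) (S.Y a b) = S.Y a b := fun a b hab => by
    apply Subgroup.map_injective hψ
    rw [← R2, ← R1]
    have := congrArg (T.bld.U σ Set.univ)
      (mv4 X @CksWin.cx @CksWin.rt (show X.m b a = 4 by rw [m_symm, hab]) (X.s b))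
    rwa [X.s_mul_s_cancel_left] at this
  have wj := v4 j k hjk
  have wk := v4 k j hkj
  have e4 : cn (S.s j) (S.Y k j) = S.X k := by
    have hs : S.s j * S.s j ∈ S.T := ⟨S.bn.sq_mem _ (S.e j).2, mul_mem (s_N S j) (s_N S j)⟩
    rw [cn_cn]
    ext g
    rw [mem_cn]
    simpa using (Subgroup.mem_normalizer_iff.1 (S.X_T k (inv_mem hs)) g).symm
  -- the Steinberg generators
  obtain ⟨F, _, _, κ, κ', hPC⟩ := CksWin.pce T.bld σ i j hσ hij
    ((CksWin.res T.bld).1 _ _ _ (Set.subset_univ _) hM)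
  obtain ⟨x, hP⟩ := CksWin.stp T.bld σ Set.univ i j F κ κ' hσ trivial trivial hM hPC
  obtain ⟨x3, x3', w⟩ := CksWin.winK T.bld σ Set.univ i j k F κ κ' x hσ ⟨hij, hjk, hik⟩ trivial
    trivial trivial hM hP
  rw [R0, R0, R1, R2, wj] at w
  have inv : ∀ {V : Subgroup G} {g}, g ∈ V.map ψ → ψ (Function.invFun ψ g) = g :=
    fun ⟨y, _, hy⟩ => Function.invFun_eq ⟨y, hy⟩
  have mm : ∀ {V : Subgroup G} {g : G}, ψ g ∈ V.map ψ ↔ g ∈ V := Subgroup.mem_map_iff_mem hψ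
  let y : Fin 3 → Fin 3 → F → G := fun a b t => Function.invFun ψ (x a b t)
  have m01 : ∀ t, x 0 1 t ∈ (S.X i).map ψ := fun t => R0 i ▸ (hP.mem 0 1 (by decide) _).2 ⟨t, rfl⟩
  have m12 : ∀ t, x 1 2 t ∈ (S.X j).map ψ := fun t => R0 j ▸ (hP.mem 1 2 (by decide) _).2 ⟨t, rfl⟩
  have m10 : ∀ t, x 1 0 t ∈ (cn (S.s i) (S.X i)).map ψ :=
    fun t => R1 i i ▸ (hP.mem 1 0 (by decide) _).2 ⟨t, rfl⟩
  have m21 : ∀ t, x 2 1 t ∈ (cn (S.s j) (S.X j)).map ψ :=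
    fun t => R1 j j ▸ (hP.mem 2 1 (by decide) _).2 ⟨t, rfl⟩
  have m02 : ∀ t, x 0 2 t ∈ (cn (S.s i) (S.X j)).map ψ :=
    fun t => R1 i j ▸ (hP.mem 0 2 (by decide) _).2 ⟨t, rfl⟩
  have m20 : ∀ t, x 2 0 t ∈ (cn (S.s i) (cn (S.s j) (S.X j))).map ψ :=
    fun t => R2 i j j ▸ (hP.mem 2 0 (by decide) _).2 ⟨t, rfl⟩
  have y01 : ∀ t, ψ (y 0 1 t) = x 0 1 t := fun t => inv (m01 t)
  have y12 : ∀ t, ψ (y 1 2 t) = x 1 2 t := fun t => inv (m12 t)
  have y10 : ∀ t, ψ (y 1 0 t) = x 1 0 t := fun t => inv (m10 t)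
  have y21 : ∀ t, ψ (y 2 1 t) = x 2 1 t := fun t => inv (m21 t)
  have y02 : ∀ t, ψ (y 0 2 t) = x 0 2 t := fun t => inv (m02 t)
  have y20 : ∀ t, ψ (y 2 0 t) = x 2 0 t := fun t => inv (m20 t)
  have yh : ∀ a b, (∀ t, ψ (y a b t) = x a b t) → (∀ t, ψ (y b a t) = x b a t) →
      ∀ t, ψ (hh y a b t) = hh x a b t := fun a b h1 h2 t => by
    simp only [hh, nn, map_mul, map_inv, h1, h2]
  have w' := pull ψ hψ w y12 (y3 := fun t => Function.invFun ψ (x3 t))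
    (y3' := fun t => Function.invFun ψ (x3' t))
    (fun t => inv ((w.mem3 _).2 ⟨t, rfl⟩)) (fun t => inv ((w.mem3' _).2 ⟨t, rfl⟩))
    (yh 1 0 y10 y01) (yh 2 0 y20 y02)
  obtain ⟨d, a, r⟩ := CksWin.qa _ _ _ _ _ _ _ _ _ w'
  obtain ⟨t2, t3, t4⟩ := tori w' r (hX k).2.2.1
  -- the tori
  have l01 : ∀ t, y 0 1 t ∈ S.L i ⊔ S.L j := fun t =>
    Subgroup.mem_sup_left (Subgroup.mem_sup_left (mm.1 (y01 t ▸ m01 t)))
  have l10 : ∀ t, y 1 0 t ∈ S.L i ⊔ S.L j := fun t =>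
    Subgroup.mem_sup_left (Subgroup.mem_sup_right (mm.1 (y10 t ▸ m10 t)))
  have l12 : ∀ t, y 1 2 t ∈ S.L i ⊔ S.L j := fun t =>
    Subgroup.mem_sup_right (Subgroup.mem_sup_left (mm.1 (y12 t ▸ m12 t)))
  have l21 : ∀ t, y 2 1 t ∈ S.L i ⊔ S.L j := fun t =>
    Subgroup.mem_sup_right (Subgroup.mem_sup_right (mm.1 (y21 t ▸ m21 t)))
  have l02 : ∀ t, y 0 2 t ∈ S.L i ⊔ S.L j := fun t => by
    have : y 0 2 t = y 0 1 t * y 1 2 1 * (y 0 1 t)⁻¹ * (y 1 2 1)⁻¹ := hψ (by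
      simp only [map_mul, map_inv, y01, y12, y02]
      rw [hP.rel.com 0 1 2 (by decide) (by decide) (by decide), mul_one])
    rw [this]
    exact mul_mem (mul_mem (mul_mem (l01 _) (l12 _)) (inv_mem (l01 _))) (inv_mem (l12 _))
  have l20 : ∀ t, y 2 0 t ∈ S.L i ⊔ S.L j := fun t => by
    have : y 2 0 t = y 2 1 t * y 1 0 1 * (y 2 1 t)⁻¹ * (y 1 0 1)⁻¹ := hψ (by
      simp only [map_mul, map_inv, y21, y10, y20]
      rw [hP.rel.com 2 1 0 (by decide) (by decide) (by decide), mul_one])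
    rw [this]
    exact mul_mem (mul_mem (mul_mem (l21 _) (l10 _)) (inv_mem (l21 _))) (inv_mem (l10 _))
  have hW : ∀ v, v ∈ X.WJ Set.univ := fun v => by
    rw [Cox.WJ, Set.image_univ, X.closure_eq]
    trivial
  have tor : ∀ a b : Fin 3, a ≠ b → ∀ t, t ≠ 0 → ∀ g, ψ g = hh x a b t → g ∈ S.T := by
    intro a b hab t ht g hg
    refine mem_T S fun m hm => ?_
    have h1 : hh x a b t (σ (T.φ (BN.mkW S.bn m hm))) = σ (T.φ (BN.mkW S.bn m hm)) := by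
      show nn x a b t ((nn x a b 1)⁻¹ (σ _)) = _
      rw [inv_apt (hW _) (rf_sq X _ _) (hP.nσ a b hab 1 one_ne_zero) _ (hW _),
        hP.nσ a b hab t ht _ (hW _), ← mul_assoc, rf_sq, one_mul]
    rw [← hg, hσm] at h1
    have h2 : ((g * m : G) : G ⧸ S.bn.B) = (m : G) := h1
    have := inv_mem (QuotientGroup.eq.1 h2)
    simpa [mul_assoc] using this
  -- normal forms
  have mU1 : ∀ s, y 1 2 s ∈ S.X j := fun s => (r.mem1 _).2 ⟨s, rfl⟩
  have mU2 : ∀ v, a v ∈ S.Y k j := fun v => r.mem2.le ⟨v, rfl⟩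
  have mU3 : ∀ s, Function.invFun ψ (x3 s) ∈ S.Y j k := fun s => (r.mem3 _).2 ⟨s, rfl⟩
  have Ykj := Y_le S hne.symm
  have Yjk := Y_le S hne
  have c2 : cn (S.s j * S.s k) (S.X j) = S.Y j k := by rw [← cn_cn, wj]
  have c3 : cn (S.s j * S.s k * S.s j) (S.X k) = S.X k := by
    rw [← cn_cn, ← cn_cn, wk, e4]
  have c3' : cn (S.s j * S.s k) (S.Y k j) = S.X k := by rw [← cn_cn, wk, e4]
  have hN : S.s j * S.s k * S.s j * S.s k ∈ S.bn.N :=
    mul_mem (mul_mem (mul_mem (s_N S j) (s_N S k)) (s_N S j)) (s_N S k)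
  have hl : (BN.gens S.bn).IsLongest
      (({j, k} : Finset (Fin n)).map S.e.toEmbedding : Finset S.bn.S) (BN.mkW S.bn _ hN) := by
    have e : BN.mkW S.bn _ hN = S.w j * S.w k * S.w j * S.w k := rfl
    have φw : ∀ a, T.φ (S.w a) = X.s a := φs
    have sj : S.w j ∈ Subgroup.closure ((BN.gens S.bn).s ''
        (({j, k} : Finset (Fin n)).map S.e.toEmbedding : Finset S.bn.S)) :=
      InvGen.s_mem_closure (by simp)
    have sk : S.w k ∈ Subgroup.closure ((BN.gens S.bn).s ''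
        (({j, k} : Finset (Fin n)).map S.e.toEmbedding : Finset S.bn.S)) :=
      InvGen.s_mem_closure (by simp)
    rw [e]
    refine (BN.exchange S.bn).isLongest_of_left (mul_mem (mul_mem (mul_mem sj sk) sj) sk) ?_
    intro l hl
    have l4 : (BN.gens S.bn).len (S.w j * S.w k * S.w j * S.w k) = 4 := by
      rw [← T.len]
      simp only [map_mul, φw, mul_assoc]
      exact len4 X @CksWin.cx (by omega)
    rw [l4, ← T.len]
    have : l = S.e j ∨ l = S.e k := by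
      simp only [Finset.map_insert, Finset.map_singleton, Finset.coe_insert, Finset.coe_singleton,
        Set.mem_insert_iff, Set.mem_singleton_iff] at hl
      exact hl
    rcases this with rfl | rfl
    · simp only [map_mul, φw, mul_assoc, X.s_mul_s_cancel_left]
      rw [len3 X @CksWin.cx (by omega)]
      omega
    · simp only [map_mul, φw, mul_assoc]
      rw [br4 X hjk, X.s_mul_s_cancel_left, len3 X @CksWin.cx (by omega)]
      omega
  have rig : ∀ (m : G) (l : Fin n) (g : G), g ∈ cn m (S.X l) →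
      (m * S.s l)⁻¹ * g * (m * S.s l) ∈ S.B → g = 1 := fun m l g hg h => by
    have := hrig l _ (mem_cn.1 hg) (by simpa [mul_assoc] using h)
    calc g = m * (m⁻¹ * g * m) * m⁻¹ := by group
      _ = 1 := by rw [this]; group
  have inB : ∀ {m g : G} {V : Subgroup G}, V ≤ S.U → g ∈ cn m V → m⁻¹ * g * m ∈ S.B :=
    fun hV hg => U_le S (hV (mem_cn.1 hg))
  have cut : ∀ {m g g' : G}, m⁻¹ * (g * g') * m ∈ S.B → m⁻¹ * g' * m ∈ S.B →
      m⁻¹ * g * m ∈ S.B := fun {m g g'} h h' => by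
    have := mul_mem h (inv_mem h')
    convert this using 1
    group
  refine ⟨F, inferInstance, inferInstance, ⟨
    { d := d, x1 := y 1 2, x3 := _, a := a, rel := r, wj := wj, wk := wk
      nf := fun u hu => ?_
      uniq := fun s v t v' h => ?_
      h := hh y 1 0, h' := hh y 2 0
      hT := fun t ht => ⟨⟨tor 1 0 (by decide) t ht _ (yh 1 0 y10 y01 t), hh_mem y 1 0 _ l10 l01 t⟩,
        ⟨tor 2 0 (by decide) t ht _ (yh 2 0 y20 y02 t), hh_mem y 2 0 _ l20 l02 t⟩⟩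
      h1 := w'.h1, h2 := t2, h3 := w'.h3, h4 := fun t ht v => w'.h4 t ht _ v.2
      k1 := w'.k1, k2 := fun t ht v => w'.k2 t ht _ (mU2 v), k3 := t3, k4 := t4 }⟩⟩
  · obtain ⟨a1, h1, g1⟩ := step S 1 u j (by simpa using U_le S hu)
    rw [one_mul] at g1
    rw [cn_one] at h1
    obtain ⟨a2, h2, g2⟩ := step S _ _ k g1
    obtain ⟨a3, h3, g3⟩ := step S _ _ j g2
    obtain ⟨a4, h4, g4⟩ := step S _ _ k g3
    rw [c2] at h3
    rw [c3] at h4
    have hr := mem_Q S hUT (hQ {j, k}) hN hl (mul_mem (inv_mem (X_le S k h4)) (mul_mem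
      (inv_mem (Yjk h3)) (mul_mem (inv_mem (Ykj h2)) (mul_mem (inv_mem (X_le S j h1)) hu)))) g4
    obtain ⟨s, rfl⟩ := (r.mem1 _).1 h1
    obtain ⟨v, rfl⟩ : a2 ∈ a.range := r.mem2.ge h2
    obtain ⟨t, rfl⟩ := (r.mem3 _).1 h3
    exact ⟨s, v, t, ⟨a4, h4⟩, _, hr, by group⟩
  · have pj : S.s j ∈ S.P {j, k} := s_P S (by simp)
    have pk : S.s k ∈ S.P {j, k} := s_P S (by simp)
    have hq : ∀ m ∈ S.P {j, k}, m⁻¹ * (y 1 2 s * a v * Function.invFun ψ (x3 t) * v') * m ∈ S.B :=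
      fun m hm => S.sp.U_le _ (S.sp.conj_mem hm h)
    have a1 : y 1 2 s = 1 := by
      refine rig 1 j _ (by rw [cn_one]; exact mU1 s) ?_
      rw [one_mul]
      exact cut (cut (cut (hq _ pj) (inB Ykj (e4.ge v'.2))) (inB Yjk (wj.ge (mU3 t))))
        (inB (X_le S k) (mU2 v))
    have a2 : a v = 1 := by
      refine rig _ k _ (mU2 v) ?_
      have := cut (cut (hq _ (mul_mem pj pk)) (inB Ykj (c3'.ge v'.2)))
        (inB (X_le S j) (c2.ge (mU3 t)))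
      rwa [a1, one_mul] at this
    have a3 : Function.invFun ψ (x3 t) = 1 := by
      refine rig _ j _ (c2.ge (mU3 t)) ?_
      have := cut (hq _ (mul_mem (mul_mem pj pk) pj)) (inB (X_le S k) (c3.ge v'.2))
      rwa [a1, a2, one_mul, one_mul] at this
    have a4 : (v' : G) = 1 := by
      refine rig _ k _ (c3.ge v'.2) ?_
      have := hq _ (mul_mem (mul_mem (mul_mem pj pk) pj) pk)
      rwa [a1, a2, a3, one_mul, one_mul, one_mul] at this
    have z3 := H15.T3Q.zero_of_add (x := fun t => Function.invFun ψ (x3 t)) r.add3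
    exact ⟨r.inj1 (a1.trans (H15.T3Q.zero_of_add r.add1).symm), r.inj2 (a2.trans a.map_one.symm),
      r.inj3 (a3.trans z3.symm), Subtype.ext a4⟩

end Cfsg.Agent.H52.CksQdx
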