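import Mathlib
import Cfsg.Agent.H52.Terminal

/-!
# Terminal components inside a class which is closed under pumping up
-/

set_option autoImplicit false
set_option linter.unusedSectionVars false

namespace Cfsg.Agent.H52

open Subgroup
open MaxCfg (K0_le_centralizer K0_le_Cz Q_le_normalizer_K0)
open scoped commutatorElement

variable {G : Type*} [Group G] {p : ℕ}

/-- A maximal configuration for the class `X`. -/
structure GCfg [Finite G] (p : ℕ) (X : Subgroup G → Prop) (x : G) (K Q : Subgroup G) : Prop where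
  bal : ∀ y : G, orderOf y = p → x ∈ Cz y → Lp p (Cz y ⊓ Cz x) ≤ Lp p (Cz y)
  hx : orderOf x = p
  hK : IsPComponentOf p K (Cz x)
  hQ : H8.IsSylowIn p Q (Dm p (Cz x) K)
  max1 : ∀ (y : G) (hxy : x ∈ Cz y) (J : Subgroup G), y ∈ Q → orderOf y = p →
    IsPComponentOf p J (Cz y) →
    PumpTo (qm p (Cz y) ⟨x, hxy⟩) (bar p (Cz y) (Lp p (K ⊓ Cz y))) (bar p (Cz y) J) →
    X J ∧ tau p J ≤ tau p K
  max2 : ∀ (y : G) (J T : Subgroup G), orderOf y = p → IsPComponentOf p J (Cz y) → X J →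
    IsPGroup p T → T ≤ Dm p (Cz y) J → Nat.card T ≤ Nat.card Q

/-- `y` gives a diagonal pump-up in the class `X`. -/
def IsDX [Finite G] (p : ℕ) (X : Subgroup G → Prop) (x : G) (K₀ : Subgroup G) (y : G) : Prop :=
  ∃ (hxy : x ∈ Cz y) (L : Subgroup (Qt p (Cz y))), IsComponent L ∧
    (∃ J, IsPComponentOf p J (Cz y) ∧ bar p (Cz y) J = L ∧ X J) ∧
    qm p (Cz y) ⟨x, hxy⟩ ∉ normalizer (L : Set (Qt p (Cz y))) ∧
    ∃ h : SemiReg (zpowers (qm p (Cz y) ⟨x, hxy⟩)) L,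
      bar p (Cz y) K₀ = h.diag.range ∧ Function.Injective h.diag

variable [Finite G] [Fact p.Prime] {X : Subgroup G → Prop} {x : G} {K Q : Subgroup G}

namespace GCfg

theorem Q_le (c : GCfg p X x K Q) : Q ≤ Cz x := c.hQ.le.trans (Dm_le _ _)

theorem x_mem_Dm (c : GCfg p X x K Q) : x ∈ Dm p (Cz x) K :=
  inf_centralizer_le_Dm c.hK.1
    ⟨mem_centralizer_singleton_self x, le_centralizer_singleton_iff.mp c.hK.1⟩

theorem x_mem (c : GCfg p X x K Q) : x ∈ Q := by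
  refine zpowers_le.mp (c.hQ.le_of_le_normalizer (isPGroup_zpowers_of_orderOf_eq_prime c.hx)
    (zpowers_le.mpr c.x_mem_Dm) (c.Q_le.trans ?_))
  rw [Cz, ← centralizer_zpowers]
  exact centralizer_le_normalizer' _

theorem x_mem_Cz (c : GCfg p X x K Q) {y : G} (hy : y ∈ Q) : x ∈ Cz y :=
  mem_centralizer_singleton_comm.mp (c.Q_le hy)

theorem covers_K0 (c : GCfg p X x K Q) : Covers p (K0 p K Q) K :=
  (IsPComponentOf.Lp_inf_centralizer c.hK c.hQ.isPGroup c.hQ.le).2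

theorem isPQS_K0 (c : GCfg p X x K Q) : IsPQS p (K0 p K Q) :=
  IsPComponentOf.isPQS (IsPComponentOf.Lp_inf_centralizer c.hK c.hQ.isPGroup c.hQ.le).1

theorem mem_K0 (c : GCfg p X x K Q) {z : G} (hz : z ∈ K) (hzQ : z ∈ centralizer (Q : Set G))
    (ho : orderOf z = p) : z ∈ K0 p K Q := by
  rw [K0, (IsPComponentOf.isPQS c.hK).Lp_eq_of_covers
    (c.covers_K0.of_le (Lp_le _) inf_le_left)]
  exact mem_pElementClosure (k := 1) ⟨hz, hzQ⟩ (by rwa [pow_one])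

theorem Ky (c : GCfg p X x K Q) {y : G} (hy : y ∈ Q) (ho : orderOf y = p) :
    IsPComponentOf p (Lp p (K ⊓ Cz y)) (Cz y ⊓ Cz x) ∧ Covers p (Lp p (K ⊓ Cz y)) K := by
  have := IsPComponentOf.Lp_inf_centralizer c.hK (isPGroup_zpowers_of_orderOf_eq_prime ho)
    (zpowers_le.mpr (c.hQ.le hy))
  rwa [centralizer_zpowers, inf_comm (Cz x)] at this

theorem K0_le_Ky (c : GCfg p X x K Q) {y : G} (hy : y ∈ Q) (ho : orderOf y = p) :
    K0 p K Q ≤ Lp p (K ⊓ Cz y) := by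
  rw [(IsPComponentOf.isPQS c.hK).Lp_eq_of_covers
    ((c.Ky hy ho).2.of_le (Lp_le _) inf_le_left), ← c.isPQS_K0.pElementClosure_eq]
  exact pElementClosure_mono (le_inf c.covers_K0.1 (K0_le_Cz hy))

theorem covers_K0_Ky (c : GCfg p X x K Q) {y : G} (hy : y ∈ Q) (ho : orderOf y = p) :
    Covers p (K0 p K Q) (Lp p (K ⊓ Cz y)) :=
  c.covers_K0.of_le' (c.K0_le_Ky hy ho) (c.Ky hy ho).2.1

/-- The basic dichotomy. -/
theorem dichotomy (c : GCfg p X x K Q) {y : G} (hy : y ∈ Q) (ho : orderOf y = p) :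
    bar p (Cz y) (Lp p (K ⊓ Cz y)) = bar p (Cz y) (K0 p K Q) ∧
      (IsT p (K0 p K Q) y ∨ IsDX p X x (K0 p K Q) y) := by
  have hxy := c.x_mem_Cz hy
  obtain ⟨h1, h2⟩ := c.Ky hy ho
  have hKy : Lp p (K ⊓ Cz y) ≤ Cz y := h1.1.trans inf_le_left
  have h3 := IsPComponentOf.bar h1 inf_le_left
  rw [bar_inf_centralizer_singleton (isPGroup_zpowers_of_orderOf_eq_prime c.hx) hxy] at h3
  have h4 : bar p (Cz y) (Lp p (K ⊓ Cz y)) ≤ layer _ := by
    rw [← bar_Lp_self]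
    exact bar_mono ((IsPComponentOf.le_Lp h1).trans (c.bal y ho hxy))
  have hox := orderOf_qm hxy c.hx
  obtain ⟨L, hL, h5⟩ := IsPComponentOf.pump_top (by rw [hox]; exact Fact.out) h3 h4
  obtain ⟨J, hJ, hJL⟩ := exists_pComponentOf_bar_eq hL
  obtain ⟨hX, hτ⟩ := c.max1 y hxy J hy ho hJ (hJL ▸ h5)
  have hL1 : Nat.card L ≤ tau p (bar p (Cz y) (Lp p (K ⊓ Cz y))) := by
    rw [← hJL, IsPComponentOf.card_bar hJ, tau_bar hKy]
    exact hτ.trans h2.index_eq.ge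
  have hL2 := hL1.trans (index_pPrimeCore_le_card _)
  have key : Nat.card (bar p (Cz y) (Lp p (K ⊓ Cz y))) ≤ Nat.card L →
      bar p (Cz y) (Lp p (K ⊓ Cz y)) = bar p (Cz y) (K0 p K Q) := fun h =>
    (((c.covers_K0_Ky hy ho).bar hKy).eq_of_Opp_eq_bot
      (Opp_eq_bot_of_card_le_index (h.trans hL1))).symm
  have triv : bar p (Cz y) (Lp p (K ⊓ Cz y)) = L →
      bar p (Cz y) (Lp p (K ⊓ Cz y)) = bar p (Cz y) (K0 p K Q) ∧
        (IsT p (K0 p K Q) y ∨ IsDX p X x (K0 p K Q) y) := by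
    intro h
    have e := key (h ▸ le_rfl)
    refine ⟨e, Or.inl ⟨J, hJ, covers_of_bar_le (c.isPQS_K0.le_of_bar_le (K0_le_Cz hy)
      (IsPComponentOf.sn hJ) ?_) hJ.1 ?_⟩⟩
    · rw [hJL, ← h, e]
    · rw [hJL, ← h, e]
  rcases h5 with h | ⟨h, -⟩ | ⟨hn, h, h6⟩
  · exact triv h
  · exact triv (eq_of_le_of_card_ge h hL2)
  · have h7 : Nat.card (bar p (Cz y) (Lp p (K ⊓ Cz y))) ≤ Nat.card L := h6 ▸ h.card_range_diag_le
    have e := key h7
    exact ⟨e, Or.inr ⟨hxy, L, hL, ⟨J, hJ, hJL, hX⟩, hn, h, e ▸ h6,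
      h.injective_diag_of_card_le (h6 ▸ hL2)⟩⟩

theorem isD (c : GCfg p X x K Q) {y : G} (hy : y ∈ Q) (ho : orderOf y = p)
    (hT : ¬ IsT p (K0 p K Q) y) : IsDX p X x (K0 p K Q) y :=
  (c.dichotomy hy ho).2.resolve_left hT

theorem isT_of_mem_zpowers (c : GCfg p X x K Q) {w : G} (hw : w ∈ zpowers x) (h1 : w ≠ 1) :
    IsT p (K0 p K Q) w :=
  ⟨K, by rw [Cz_eq_of_mem_zpowers c.hx hw h1]; exact c.hK, c.covers_K0⟩

section D
variable {y : G} {hxy : x ∈ Cz y} {L : Subgroup (Qt p (Cz y))}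

/-- Elements of `C_Q(y)` lie in `⟨x⟩ C(M)` modulo the core. -/
theorem exists_mem_zpowers (c : GCfg p X x K Q) (hL : IsComponent L)
    (h : SemiReg (zpowers (qm p (Cz y) ⟨x, hxy⟩)) L) (e : bar p (Cz y) (K0 p K Q) = h.diag.range)
    (hy : y ∈ Q) {w : G} (hw : w ∈ Q) (hwy : w ∈ Cz y) :
    ∃ a ∈ zpowers x, ∃ ha : a⁻¹ * w ∈ Cz y, qm p (Cz y) ⟨a⁻¹ * w, ha⟩ ∈
      centralizer ((orbitSup (zpowers (qm p (Cz y) ⟨x, hxy⟩)) L : Subgroup _) : Set _) := by
  obtain ⟨a, ha, h1⟩ := h.mem_sup_centralizer_orbitSup (isComponentOf_top_iff.mpr hL)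
    le_normalizer_of_normal (commutator_eq_bot_iff_le_centralizer.mp
      (commutator_zpowers_zpowers_eq_bot rfl)) (y := qm p (Cz y) ⟨w, hwy⟩)
    (le_normalizer_of_normal (mem_top _)) (by
      rw [centralizer_zpowers, ← bar_inf_centralizer_singleton
        (isPGroup_zpowers_of_orderOf_eq_prime c.hx) hxy]
      exact mem_bar hwy ⟨hwy, c.Q_le hw⟩) (by
      rw [← e, ← zpowers_le, ← bar_zpowers hwy, ← commutator_eq_bot_iff_le_centralizer',
        commutator_bar_eq_bot_iff (K0_le_Cz hy) (zpowers_le.mpr hwy)]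
      exact (commutator_eq_bot_iff_le_centralizer.mpr (K0_le_centralizer.trans
        (centralizer_anti (zpowers_le.mpr hw)))).le.trans bot_le)
  rw [← bar_zpowers hxy, mem_bar_iff] at ha
  obtain ⟨b, hb1, hb2, rfl⟩ := ha
  exact ⟨b, hb2, mul_mem (inv_mem hb1) hwy, h1⟩

/-- (A) An element of order `p` of `C_Q(y)` centralizing `M` is not of trivial type. -/
theorem not_isT (c : GCfg p X x K Q) (hL : IsComponent L)
    (hn : qm p (Cz y) ⟨x, hxy⟩ ∉ normalizer (L : Set (Qt p (Cz y))))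
    (h : SemiReg (zpowers (qm p (Cz y) ⟨x, hxy⟩)) L) (e : bar p (Cz y) (K0 p K Q) = h.diag.range)
    (hy : y ∈ Q) (ho : orderOf y = p) {z : G} (hzo : orderOf z = p) (hzy : z ∈ Cz y)
    (hz : qm p (Cz y) ⟨z, hzy⟩ ∈
      centralizer ((orbitSup (zpowers (qm p (Cz y) ⟨x, hxy⟩)) L : Subgroup _) : Set _)) :
    ¬ IsT p (K0 p K Q) z := by
  rintro ⟨J, hJ, hc⟩
  have hyz : y ∈ Cz z := mem_centralizer_singleton_comm.mp hzy
  have hyD : zpowers y ≤ Dm p (Cz z) J := by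
    refine (le_Dm_iff hJ.1).mpr ⟨zpowers_le.mpr hyz, ?_⟩
    rw [← commutator_bar_eq_bot_iff hJ.1 (zpowers_le.mpr hyz),
      ← (hc.bar hJ.1).eq_of_Opp_eq_bot (IsComponent.Opp_eq_bot (pPrimeCore_Qt _)
        (IsPComponentOf.isComponent_bar hJ)),
      commutator_bar_eq_bot_iff (hc.1.trans hJ.1) (zpowers_le.mpr hyz)]
    refine (commutator_eq_bot_iff_le_centralizer.mpr ?_).le.trans bot_le
    rw [centralizer_zpowers]; exact K0_le_Cz hy
  obtain ⟨h1, h2⟩ := IsPComponentOf.Lp_inf_centralizer hJ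
    (isPGroup_zpowers_of_orderOf_eq_prime ho) hyD
  rw [centralizer_zpowers] at h1 h2
  have h3 : K0 p K Q ≤ Lp p (J ⊓ Cz y) := by
    rw [(IsPComponentOf.isPQS hJ).Lp_eq_of_covers (h2.of_le (Lp_le _) inf_le_left),
      ← c.isPQS_K0.pElementClosure_eq]
    exact pElementClosure_mono (le_inf hc.1 (K0_le_Cz hy))
  rw [inf_comm (Cz z)] at h1
  have h4 := IsPComponentOf.bar h1 inf_le_left
  rw [bar_inf_centralizer_singleton (isPGroup_zpowers_of_orderOf_eq_prime hzo) hzy] at h4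
  have h5 : h.diag.range ≤ bar p (Cz y) (Lp p (J ⊓ Cz y)) := e ▸ bar_mono h3
  have key : ∀ u ∈ zpowers (qm p (Cz y) ⟨x, hxy⟩),
      cnj u L = bar p (Cz y) (Lp p (J ⊓ Cz y)) := by
    intro u hu
    have hL' : IsComponent (cnj u L) := IsComponent.conj hL u
    have h6 := IsComponent.isComponentOf hL' (H := centralizer {qm p (Cz y) ⟨z, hzy⟩})
      (le_centralizer_singleton_iff.mpr (centralizer_anti (cnj_le_orbitSup hu) hz))
    refine IsPComponentOf.eq_of_le (IsComponentOf.isPComponentOf h6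
      (IsComponent.dvd_card_of_pPrimeCore_eq_bot (pPrimeCore_Qt _) hL')) h4 ?_
    refine (IsComponentOf.le_or_commutator_eq_bot h6 (IsPComponentOf.sn h4)).resolve_right
      fun h7 => h.commutator_range_diag_ne_bot hL.2 ?_
    have h8 := commutator_eq_bot_mono h7 le_rfl h5
    have h9 : cnj u h.diag.range = h.diag.range := cnj_eq_iff_mem_normalizer.mpr
      (centralizer_le_normalizer' _
        (le_centralizer_iff.mp (h.range_diag_le.trans inf_le_right) hu))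
    rwa [← h9, ← cnj_commutator, map_eq_bot_iff_of_injective _ (MulAut.conj u).injective] at h8
  apply hn
  rw [← cnj_eq_iff_mem_normalizer, key _ (mem_zpowers _), ← key 1 (one_mem _), cnj_one]

/-- (C) An element of diagonal type is not central in `Q`. -/
theorem not_le_Cz (c : GCfg p X x K Q) (hL : IsComponent L)
    (hc : ∃ J, IsPComponentOf p J (Cz y) ∧ bar p (Cz y) J = L ∧ X J)
    (h : SemiReg (zpowers (qm p (Cz y) ⟨x, hxy⟩)) L) (e : bar p (Cz y) (K0 p K Q) = h.diag.range)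
    (hy : y ∈ Q) (ho : orderOf y = p) : ¬ Q ≤ Cz y := by
  intro hQ
  set a := qm p (Cz y) ⟨x, hxy⟩ with ha
  set M := orbitSup (zpowers a) L
  have hQp : IsPGroup p (bar p (Cz y) Q) := (c.hQ.isPGroup.comap_subtype).map _
  have hoa : orderOf a = p := orderOf_qm hxy c.hx
  obtain ⟨T, hT, hTL, hTc⟩ := h.exists_large_pSubgroup hoa hL.2
    (IsComponent.dvd_card_of_pPrimeCore_eq_bot (pPrimeCore_Qt _) hL)
    (Q := bar p (Cz y) Q ⊓ centralizer (M : Set _)) hQp.to_inf_left inf_le_right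
  obtain ⟨J, hJ, hJL, hX⟩ := hc
  rw [← hJL, ← bar_Dm hJ.1] at hTL
  obtain ⟨S, hS, hSD, hTS⟩ := exists_isPGroup_card_le_of_le_bar (Dm_le _ _) hT hTL
  have h1 := c.max2 y J S ho hJ hX hS hSD
  have h2 : bar p (Cz y) Q ≤ zpowers a ⊔ (bar p (Cz y) Q ⊓ centralizer (M : Set _)) := by
    intro w' hw'
    obtain ⟨w, hwy, hw, rfl⟩ := mem_bar_iff.mp hw'
    obtain ⟨b, hb, hb1, hb2⟩ := c.exists_mem_zpowers hL h e hy hw hwy
    have hbQ : b ∈ Q := zpowers_le.mpr c.x_mem hb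
    have : qm p (Cz y) ⟨w, hwy⟩ = qm p (Cz y) ⟨b, hQ hbQ⟩ * qm p (Cz y) ⟨b⁻¹ * w, hb1⟩ := by
      rw [← map_mul]; congr 1; ext; simp
    rw [this]
    refine mul_mem_sup ?_ (mem_inf.mpr ⟨mem_bar _ (Q.mul_mem (Q.inv_mem hbQ) hw), hb2⟩)
    rw [ha, ← bar_zpowers hxy]; exact mem_bar _ hb
  have h3 : zpowers a ≤
      normalizer ((bar p (Cz y) Q ⊓ centralizer (M : Set _) : Subgroup _) : Set _) :=
    le_normalizer_inf ((zpowers_le.mpr (mem_bar hxy c.x_mem)).trans le_normalizer)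
      ((le_normalizer_orbitSup _ _).trans (normalizer_le_normalizer_centralizer _))
  have h4 := (card_le_of_le h2).trans (Nat.le_of_dvd (Nat.mul_pos Nat.card_pos Nat.card_pos)
    (card_sup_dvd_of_le_normalizer h3))
  rw [Nat.card_zpowers, hoa, card_bar_of_isPGroup c.hQ.isPGroup hQ] at h4
  have h5 : 0 < Nat.card Q := Nat.card_pos
  have h6 := (Fact.out : p.Prime).one_lt
  nlinarith

end D

/-- If some element is of diagonal type then `K ∩ D` is a `p'`-group. -/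
theorem not_mem_Dm (c : GCfg p X x K Q) {y : G} (hy : y ∈ Q) (ho : orderOf y = p)
    (hT : ¬ IsT p (K0 p K Q) y) {t : G} (htK : t ∈ K) (ht : orderOf t = p) :
    t ∉ Dm p (Cz x) K := by
  intro htD
  have h1 := c.hQ.inf_of_le_normalizer (IsPComponentOf.Dm_le_normalizer c.hK)
  have h2 : Q ⊓ K ≠ ⊥ := by
    intro h0
    have := h1.card_le (isPGroup_zpowers_of_orderOf_eq_prime ht)
      (zpowers_le.mpr (mem_inf.mpr ⟨htD, htK⟩))
    rw [h0, card_bot, Nat.card_zpowers, ht] at this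
    exact absurd (Fact.out : p.Prime).one_lt (not_lt.mpr this)
  obtain ⟨z, hz, hzQ, hzo⟩ := exists_orderOf_eq_prime_mem_centralizer h1.isPGroup c.hQ.isPGroup
    (le_normalizer_inf le_normalizer (c.hQ.le.trans (IsPComponentOf.Dm_le_normalizer c.hK))) h2
  have hz0 := c.mem_K0 hz.2 hzQ hzo
  obtain ⟨hxy, L, hL, -, hn, h, e, -⟩ := c.isD hy ho hT
  have hzy : z ∈ Cz y := K0_le_Cz hy hz0
  have h3 : qm p (Cz y) ⟨z, hzy⟩ ∈ h.diag.range := e ▸ mem_bar hzy hz0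
  have h4 := c.not_isT hL hn h e hy ho hzo hzy (h.mem_centralizer_orbitSup
    (IsComponent.commutator_self hL)
    (IsComponent.layer_le_normalizer hL (IsComponent.orbitSup_le_layer hL (h.range_diag_le h3).1))
    (h.range_diag_le h3).2 (by
      rw [← e, ← zpowers_le, ← bar_zpowers hzy, ← commutator_eq_bot_iff_le_centralizer',
        commutator_bar_eq_bot_iff (K0_le_Cz hy) (zpowers_le.mpr hzy)]
      exact (commutator_eq_bot_iff_le_centralizer.mpr (K0_le_centralizer.trans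
        (centralizer_anti (zpowers_le.mpr hz.1)))).le.trans bot_le))
  obtain ⟨hxz, L', hL', hc', -, h', e', -⟩ := c.isD hz.1 hzo h4
  exact c.not_le_Cz hL' hc' h' e' hz.1 hzo (le_centralizer_singleton_iff.mpr hzQ)

theorem exists_conj (c : GCfg p X x K Q) {y : G} (hy : y ∈ Q) (ho : orderOf y = p)
    (hT : ¬ IsT p (K0 p K Q) y) {t : G} (htK : t ∈ K0 p K Q) (ht : orderOf t = p) :
    ∃ m ∈ Cz y, m * x * m⁻¹ = t * x ∧ m * t * m⁻¹ = t := by
  obtain ⟨hxy, L, hL, -, hn, h, e, hinj⟩ := c.isD hy ho hT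
  have hty : t ∈ Cz y := K0_le_Cz hy htK
  obtain ⟨u, hu⟩ : qm p (Cz y) ⟨t, hty⟩ ∈ h.diag.range := e ▸ mem_bar hty htK
  obtain ⟨m, h1, h2⟩ := h.exists_conj_eq_diag_mul u (by
    rw [← orderOf_injective _ hinj u, hu, orderOf_qm hty ht, orderOf_qm hxy c.hx])
  rw [hu] at h1 h2
  obtain ⟨n, h3, h4⟩ := exists_lift_conj_pair (qm_surjective (Cz y)) (coprime_ker_qm _)
    (x := ⟨x, hxy⟩) (t := ⟨t, hty⟩) (by rw [← Subgroup.orderOf_coe]; exact c.hx)
    (by rw [← Subgroup.orderOf_coe]; exact ht)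
    (Subtype.ext (mem_centralizer_singleton_iff'.mp (K0_le_Cz c.x_mem htK))) h1 h2
  exact ⟨n, n.2, congrArg Subtype.val h3, congrArg Subtype.val h4⟩

/-- (B) -/
theorem isT_mul (c : GCfg p X x K Q) {y : G} (hy : y ∈ Q) (ho : orderOf y = p)
    (hT : ¬ IsT p (K0 p K Q) y) {w : G} (hw : w ∈ zpowers x) (hw1 : w ≠ 1)
    (ho' : orderOf (w * y) = p) : IsT p (K0 p K Q) (w * y) := by
  by_contra hT'
  obtain ⟨t, htK, ht⟩ := exists_orderOf_eq_prime_of_dvd c.isPQS_K0.dvd_card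
  have htD := c.not_mem_Dm hy ho hT (c.covers_K0.1 htK) ht
  obtain ⟨m, hm, h1, h2⟩ := c.exists_conj hy ho hT htK ht
  obtain ⟨n, hn, h3, h4⟩ := c.exists_conj (Q.mul_mem (zpowers_le.mpr c.x_mem hw) hy) ho' hT' htK ht
  obtain ⟨j, rfl⟩ := hw
  have hxt : Commute t x := (mem_centralizer_singleton_iff'.mp (K0_le_Cz c.x_mem htK)).symm
  have hm' : m⁻¹ * y * m = y := by
    rw [mul_assoc, mem_centralizer_singleton_iff'.mp hm, inv_mul_cancel_left]
  have hn' : n * (x ^ j * y) * n⁻¹ = x ^ j * y := by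
    rw [← mem_centralizer_singleton_iff'.mp hn, mul_inv_cancel_right]
  have h2' : m⁻¹ * t * m = t := by
    calc m⁻¹ * t * m = m⁻¹ * (m * t * m⁻¹) * m := by rw [h2]
      _ = t := by group
  have gx : m⁻¹ * n * x * (m⁻¹ * n)⁻¹ = x := by
    calc m⁻¹ * n * x * (m⁻¹ * n)⁻¹ = m⁻¹ * (n * x * n⁻¹) * m := by group
      _ = x := by rw [h3, ← h1]; group
  have gt : m⁻¹ * n * t * (m⁻¹ * n)⁻¹ = t := by
    calc m⁻¹ * n * t * (m⁻¹ * n)⁻¹ = m⁻¹ * (n * t * n⁻¹) * m := by group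
      _ = t := by rw [h4, h2']
  have gy : m⁻¹ * n * y * (m⁻¹ * n)⁻¹ = (t ^ j)⁻¹ * y := by
    have e1 : n * y * n⁻¹ = (t ^ j)⁻¹ * y := by
      calc n * y * n⁻¹ = ((n * x * n⁻¹) ^ j)⁻¹ * (n * (x ^ j * y) * n⁻¹) := by
            rw [conj_zpow]; group
        _ = _ := by rw [h3, hn', hxt.mul_zpow, (hxt.zpow_zpow j j).eq]; group
    calc m⁻¹ * n * y * (m⁻¹ * n)⁻¹ = m⁻¹ * (n * y * n⁻¹) * m := by group
      _ = ((m⁻¹ * t * m⁻¹⁻¹) ^ j)⁻¹ * (m⁻¹ * y * m) := by rw [e1, conj_zpow]; group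
      _ = _ := by rw [inv_inv, h2', hm']
  have hg : m⁻¹ * n ∈ Cz x := mem_centralizer_singleton_iff'.mpr (mul_inv_eq_iff_eq_mul.mp gx).symm
  by_cases hK : cnj (m⁻¹ * n) K = K
  · have h5 := H4.conj_mem_of_mem_normalizer (inf_normalizer_le_normalizer_Dm (p := p) c.hK.1
      ⟨le_normalizer hg, cnj_eq_iff_mem_normalizer.mp hK⟩) (c.hQ.le hy)
    rw [gy, mul_mem_cancel_right (c.hQ.le hy), inv_mem_iff] at h5
    have h6 : t ^ j ≠ 1 := fun e => hw1 (by
      rw [← orderOf_dvd_iff_zpow_eq_one, ht, ← c.hx, orderOf_dvd_iff_zpow_eq_one] at e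
      exact e)
    refine htD (zpowers_le.mp ?_)
    rw [← zpowers_eq_of_mem_of_prime (ht ▸ Fact.out) (zpow_mem_zpowers t j) h6]
    exact zpowers_le.mpr h5
  · have hK' := IsPComponentOf.cnj_of_mem c.hK (le_normalizer hg)
    refine htD ((le_Dm_iff c.hK.1).mpr ⟨hK'.1,
      IsPComponentOf.commutator_le_of_ne c.hK hK' (Ne.symm hK)⟩ ?_)
    rw [← gt]
    exact conj_mem_cnj (c.covers_K0.1 htK)

/-- Every element of order `p` of `Q` gives a trivial pump-up. -/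
theorem isT (c : GCfg p X x K Q) {y : G} (hy : y ∈ Q) (ho : orderOf y = p) :
    IsT p (K0 p K Q) y := by
  by_contra hT
  obtain ⟨y, ⟨hy, ho, hT⟩, hmax⟩ := Set.exists_max_image
    {y | y ∈ Q ∧ orderOf y = p ∧ ¬ IsT p (K0 p K Q) y} (fun y => Nat.card (Q ⊓ Cz y : Subgroup G))
    (Set.toFinite _) ⟨y, hy, ho, hT⟩
  obtain ⟨hxy, L, hL, hc, hn, h, e, -⟩ := c.isD hy ho hT
  have hlt : Q ⊓ Cz y < Q := lt_of_le_of_ne inf_le_left fun e' =>
    c.not_le_Cz hL hc h e hy ho (e'.ge.trans inf_le_right)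
  have hlt' := H8.lt_inf_normalizer_of_lt c.hQ.isPGroup hlt
  set N := Q ⊓ normalizer ((Q ⊓ Cz y : Subgroup G) : Set G)
  set s : Set G := {w | w ∈ Q ⊓ Cz y ∧ orderOf w = p ∧ ¬ IsT p (K0 p K Q) w} with hs
  set Q₀ : Subgroup G := (Q ⊓ Cz y) ⊓ ((centralizer ((orbitSup (zpowers (qm p (Cz y) ⟨x, hxy⟩)) L :
    Subgroup _) : Set _)).comap (qm p (Cz y))).map (Cz y).subtype with hQ₀
  have hW : closure s ≤ Q₀ := by
    rw [closure_le]
    rintro w ⟨hw, hwo, hwT⟩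
    obtain ⟨a, ha, ha1, ha2⟩ := c.exists_mem_zpowers hL h e hy hw.1 hw.2
    by_cases h1 : a = 1
    · subst h1
      exact ⟨hw, ⟨_, ha2, by simp⟩⟩
    exfalso
    have haQ : a ∈ Q := zpowers_le.mpr c.x_mem ha
    have h2 : a⁻¹ * w ≠ 1 := fun e' => hwT (inv_mul_eq_one.mp e' ▸ c.isT_of_mem_zpowers ha h1)
    have hcomm : Commute a⁻¹ w := by
      have : w ∈ centralizer ((zpowers x : Subgroup G) : Set G) := by
        rw [centralizer_zpowers]; exact c.Q_le hw.1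
      exact this _ (inv_mem ha)
    have h3 : orderOf (a⁻¹ * w) = p := by
      refine orderOf_eq_prime ?_ h2
      rw [hcomm.mul_pow, inv_pow, (H6.isElementaryAbelian_iff.mp (isElementaryAbelian_zpowers
        (c.hx ▸ pow_orderOf_eq_one x))).2 a ha, ← hwo, pow_orderOf_eq_one, inv_one, one_mul]
    have h4 := c.isT_mul (Q.mul_mem (Q.inv_mem haQ) hw.1) h3
      (c.not_isT hL hn h e hy ho h3 ha1 ha2) ha h1 (by rwa [mul_inv_cancel_left])
    rw [mul_inv_cancel_left] at h4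
    exact hwT h4
  have hWN : N ≤ normalizer ((closure s : Subgroup G) : Set G) := by
    refine le_normalizer_of_forall_map_conj_le fun g hg => ?_
    rw [MonoidHom.map_closure, closure_le]
    rintro _ ⟨w, ⟨hw, hwo, hwT⟩, rfl⟩
    refine subset_closure ⟨H4.conj_mem_of_mem_normalizer hg.2 hw, ?_, fun h1 => hwT ?_⟩
    · rw [← hwo]; exact (MulAut.conj g).orderOf_eq w
    · have := h1.cnj (inv_mem (Q_le_normalizer_K0 hg.1))
      simpa [mul_assoc] using this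
  have hys : y ∈ closure s :=
    subset_closure ⟨⟨hy, mem_centralizer_singleton_self y⟩, ho, hT⟩
  obtain ⟨z, hz, hzN, hzo⟩ := exists_orderOf_eq_prime_mem_centralizer
    (c.hQ.isPGroup.to_le (hW.trans (inf_le_left.trans inf_le_left)))
    (c.hQ.isPGroup.to_inf_left) hWN
    (fun h0 => ne_one_of_orderOf_eq_prime ho (mem_bot.mp (h0 ▸ hys)))
  obtain ⟨hz1, z', hz2, rfl⟩ := hW hz
  have h5 := hmax _ ⟨hz1.1, hzo, c.not_isT hL hn h e hy ho hzo z'.2 hz2⟩
  have h6 : N ≤ Q ⊓ Cz ((Cz y).subtype z') :=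
    le_inf inf_le_left (le_centralizer_singleton_iff.mpr hzN)
  exact hlt'.ne (eq_of_le_of_card_ge hlt'.le ((card_le_of_le h6).trans h5))

end GCfg

end Cfsg.Agent.H52
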