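import Cfsg.Agent.H52.KnMod2b
import Cfsg.Agent.H98.KnM2a

/-!
# Inclusions, generators and products in the model
-/

set_option autoImplicit false

namespace Cfsg.Agent.H52.KnMod2

open Cfsg.Agent.H17.Kn Cfsg.Agent.H98

theorem mod2 (h1 : Mod1) : Mod2 :=
  KnMod2b.mod2_of h1 ⟨KnM2a.le, KnM2a.nrm, KnM2a.ab, KnM2a.gT0 h1, KnM2a.gQK, KnM2a.gPP, KnM2a.gEE,
    KnM2a.gFF h1, KnM2a.gAA, KnM2a.gAP, KnM2a.gU1 h1, KnM2a.gN, KnM2a.gN7⟩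

end Cfsg.Agent.H52.KnMod2
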