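import Cfsg.Agent.H17.KnDef2

/-!
# An element that acts on `JJ` as the exchange of two blocks
-/

set_option autoImplicit false
set_option maxRecDepth 100000
set_option synthInstance.maxSize 2000

namespace Cfsg.Agent.H52.KnSg

open Equiv Subgroup Cfsg.Agent.H11.A16 Cfsg.Agent.H63 Cfsg.Agent.H17.Kn

universe u

variable {G : Type u} [Group G] {J : N2 → G} {φ : G → Perm Ω} {X : Subgroup N2}

theorem ex_mul {g g' : G} {m m' : N2} (h : Ex J g m X) (h' : Ex J g' m' X)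
    (hm : ∀ u ∈ X, m * u * m⁻¹ ∈ X) : Ex J (g' * g) (m' * m) X := fun u hu => by
  have := (h u hu).trans (h' _ (hm u hu))
  rwa [show m' * (m * u * m⁻¹) * m'⁻¹ = m' * m * u * (m' * m)⁻¹ by group] at this

theorem ex_inv {g : G} {m : N2} (h : Ex J g m X) (hm : ∀ u ∈ X, m⁻¹ * u * m⁻¹⁻¹ ∈ X) :
    Ex J g⁻¹ m⁻¹ X := fun u hu => by
  have := (h _ (hm u hu)).symm
  rwa [show m * (m⁻¹ * u * m⁻¹⁻¹) * m⁻¹ = u by group] at this

theorem ex_same {g g' : G} {m : N2} (h : Ex J g m X) (h' : Ex J g' m X) {u : N2} (hu : u ∈ X) :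
    Commute (g'⁻¹ * g) (J u) := by
  have e : g * J u * g⁻¹ = g' * J u * g'⁻¹ := Eq.trans (h u hu) (Eq.symm (h' u hu))
  change _ = _
  calc g'⁻¹ * g * J u = g'⁻¹ * (g * J u * g⁻¹) * g := by group
    _ = J u * (g'⁻¹ * g) := by rw [e]; group

theorem ex_cen {g k : G} {m : N2} (h : Ex J g m X) (hm : ∀ u ∈ X, m * u * m⁻¹ ∈ X)
    (hk : ∀ u ∈ X, Commute k (J u)) : Ex J (k * g) m X := fun u hu =>
  (h u hu).trans (by rw [R, (hk _ (hm u hu)).eq, mul_inv_cancel_right])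

theorem ex_self {Y : Subgroup N2} (h : Em J Y) (hX : X ≤ Y) {t : N2} (ht : t ∈ Y) :
    Ex J (J t) t X := fun _ hu => h.self ht (hX hu)

theorem r_mul {Y : Subgroup N2} (h : Em J Y) {g : G} {u v u' v' : N2} (a : R J g u v)
    (b : R J g u' v') (hu : u ∈ Y) (hv : v ∈ Y) (hu' : u' ∈ Y) (hv' : v' ∈ Y) :
    R J g (u * u') (v * v') := by
  unfold R at *
  rw [h.mul _ hu _ hu', h.mul _ hv _ hv', ← a, ← b]
  group

/-- The elements on which `g` acts as `m`. -/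
def EX (h : Em J S2) (g : G) (m : N2) : Subgroup N2 where
  carrier := {u | u ∈ S2 ∧ m * u * m⁻¹ ∈ S2 ∧ R J g u (m * u * m⁻¹)}
  one_mem' := ⟨one_mem _, by simp, by simp [R, h.one]⟩
  mul_mem' := fun {a b} ha hb => by
    have e : m * (a * b) * m⁻¹ = m * a * m⁻¹ * (m * b * m⁻¹) := by group
    refine ⟨mul_mem ha.1 hb.1, ?_, ?_⟩ <;> rw [e]
    exacts [mul_mem ha.2.1 hb.2.1, r_mul h ha.2.2 hb.2.2 ha.1 ha.2.1 hb.1 hb.2.1]
  inv_mem' := fun {a} ha => by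
    have e : m * a⁻¹ * m⁻¹ = (m * a * m⁻¹)⁻¹ := by group
    refine ⟨inv_mem ha.1, ?_, ?_⟩ <;> rw [e]
    · exact inv_mem ha.2.1
    · have := ha.2.2
      unfold R at *
      rw [h.inv ha.1, h.inv ha.2.1, ← this]
      group

/-- The odd elements that centralise all sign changes. -/
def HK (K : Ki J φ) (T : Kit J φ) : Subgroup G where
  carrier := {k | k ∈ NA J ∧ φ k = 1 ∧ ∀ e ∈ PP, Commute k (J e)}
  one_mem' := ⟨one_mem _, T.one, fun _ _ => Commute.one_left _⟩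
  mul_mem' := fun {a b} ha hb => ⟨mul_mem ha.1 hb.1, by
    rw [K.mul _ ha.1 _ hb.1, ha.2.1, hb.2.1, one_mul],
    fun e he => (ha.2.2 e he).mul_left (hb.2.2 e he)⟩
  inv_mem' := fun {a} ha => ⟨inv_mem ha.1, by rw [T.inv _ ha.1, ha.2.1, inv_one],
    fun e he => (ha.2.2 e he).inv_left⟩

theorem phi_conj (K : Ki J φ) (T : Kit J φ) {g a : G} (hg : g ∈ NA J) (ha : a ∈ NA J) :
    φ (g * a * g⁻¹) = φ g * φ a * (φ g)⁻¹ := by
  rw [K.mul _ (mul_mem hg ha) _ (inv_mem hg), K.mul _ hg _ ha, T.inv _ hg]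

theorem fin1 : xe 3 2 ∈ QK ∧ (xe 3 2)⁻¹ = xe 3 2 ∧ f0 ∈ FF ∧ f0⁻¹ = f0 ∧ e34 ∈ PP ∧
    xe 3 2 * f0 * (xe 3 2)⁻¹ = tp 2 3 ∧ tp 2 3 ∈ S2 ∧ tp 4 5 ∈ S2 ∧ f0 ∈ S2 ∧ H17.Kn.z2 ∈ S2 ∧
    H17.Kn.z2 ∈ PP ∧ xe 2 3 ∈ T0 ∧ xe 1 2 ∈ U1 ∧ xe 1 3 ∈ U1 ∧ H17.Kn.z2 ≠ 1 ∧
    ∀ j, 2 ≤ j → xe 3 2 * xe 0 j * (xe 3 2)⁻¹ ∈ U1 ∧ xe 3 2 * xe 1 j * (xe 3 2)⁻¹ ∈ U1 := by
  decide +kernel

theorem fin2 : xe 3 2 * H17.Kn.z2 * (xe 3 2)⁻¹ = H17.Kn.z2 ∧ xe 1 3 * f0 = tp 4 5 ∧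
    xe 1 2 * f0 = tp 2 3 ∧
    xe 3 2 * xe 1 3 * (xe 3 2)⁻¹ * (tp 2 3 * H17.Kn.z2) = tp 4 5 * H17.Kn.z2 ∧
    xe 3 2 * xe 1 2 * (xe 3 2)⁻¹ * (tp 2 3 * H17.Kn.z2) = f0 * H17.Kn.z2 ∧
    xe 2 3 * f0 * (xe 2 3)⁻¹ = tp 4 5 ∧
    xe 2 3 * (tp 4 5 * H17.Kn.z2) * (xe 2 3)⁻¹ = f0 * H17.Kn.z2 ∧
    xe 2 3 * tp 2 3 * (xe 2 3)⁻¹ = tp 2 3 ∧ xe 2 3 * H17.Kn.z2 * (xe 2 3)⁻¹ = H17.Kn.z2 ∧
    tp 2 3 * H17.Kn.z2 * H17.Kn.z2 = tp 2 3 ∧
    xe 3 2 * xe 2 3 * (xe 3 2 * xe 2 3 * (xe 3 2 * xe 2 3)) = 1 ∧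
    H17.Kn.z2 * H17.Kn.z2 = 1 ∧ f0 * f0 = 1 ∧ tp 2 3 * 1 * (tp 2 3 * 1) = 1 ∧
    tp 2 3 * H17.Kn.z2 * (tp 2 3 * H17.Kn.z2) = 1 := by
  decide +kernel

theorem sg (hB : Base.{u}) : SgStmt.{u} := by
  intro G _ _ J φ s h
  have K : Ki J φ := h.toSt.toSd.toEu.toE0.toQ3.toKi
  have T : Kit J φ := hB.kit J φ K
  have Ge : Gen G := hB.gen
  have em := h.em2
  obtain ⟨xK, xi, fF, fi, eP, xf, f1S, f2S, f0S, zS, zP, x23, x12, x13, z1, xU⟩ := fin1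
  obtain ⟨-, -, -, -, -, -, -, l01, l1E, -, lPJ, lJS, lFE, -, -, lUD, lVA, lVD, lAD, -⟩ := hB.m2.le
  have lES : SE ≤ S2 := inf_le_left
  have l0S : T0 ≤ S2 := inf_le_right
  have lU0 : U1 ≤ T0 := inf_le_left
  have lUF : U1 ≤ FF := inf_le_right
  have lD0 : DD ≤ T0 := fun _ h => h.1.1
  have lPS : PP ≤ S2 := lPJ.trans lJS
  have nP : ∀ m, ∀ u ∈ PP, m * u * m⁻¹ ∈ PP := fun m => (hB.m2.nrm m).1
  have xA : ∀ u ∈ AA, xe 3 2 * u * (xe 3 2)⁻¹ ∈ AA := ((hB.m2.nrm _).2.2.2.1 xK).1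
  have xU' : ∀ u ∈ U1, xe 3 2 * u * (xe 3 2)⁻¹ ∈ U1 :=
    hB.m2.gU1 (U1.comap (MulAut.conj (xe 3 2)).toMonoidHom) xU
  have xD : ∀ u ∈ DD, xe 3 2 * u * (xe 3 2)⁻¹ ∈ DD := fun u hu => by
    obtain ⟨v, hv, w, hw, rfl⟩ := hB.m2.pDD u hu
    have := mul_mem (lAD (xA v (lVA hv))) (lUD (xU' w hw))
    simpa [mul_assoc] using this
  have fD : ∀ u ∈ DD, f0 * u * f0⁻¹ ∈ DD := fun u hu => by
    obtain ⟨v, hv, w, hw, rfl⟩ := hB.m2.pDD u hu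
    have := mul_mem (mul_mem (lUD (hB.m3.fvU f0 fF v hv)) (lVD hv)) (lUD hw)
    rw [mul_assoc, mul_assoc, ← (hB.m2.ab.2.1 _ (inv_mem fF) _ (lUF hw)).eq]
    simpa [mul_assoc] using this
  -- exactness on `U1`
  obtain ⟨g, gN, gφ, gP, gU⟩ : ∃ g ∈ NA J, φ g = pm2 (xe 3 2) ∧ Ex J g (xe 3 2) PP ∧
      Ex J g (xe 3 2) U1 := by
    obtain ⟨g, gN, gφ, gP⟩ := h.exP _ xK
    have : PP.Normal := π2.normal_ker
    have lY : U1 ⊔ PP ≤ S2 := sup_le (lU0.trans l0S) lPS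
    have emY := em.mono lY
    have hY : IsPGroup 2 (im J (U1 ⊔ PP)) := emY.two (hB.m1.two.to_le lY)
    have dec : ∀ y ∈ im J (U1 ⊔ PP), ∃ u ∈ U1, ∃ e ∈ PP, y = J u * J e := fun y hy => by
      obtain ⟨m, hm, rfl⟩ := emY.mem.1 hy
      obtain ⟨u, hu, e, he, rfl⟩ := mem_sup_of_normal_right.1 hm
      exact ⟨u, hu, e, he, em.mul _ (l0S (lU0 hu)) _ (lPS he)⟩
    obtain ⟨o, ho, hn⟩ := Ge.frO (im J (U1 ⊔ PP)) (HK K T) g hY (fun o ho => K.ker o ho.1 ho.2.1)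
      (fun y hy => by
        obtain ⟨u, hu, e, he, rfl⟩ := dec y hy
        refine mul_mem (mem_normalizer_fintype fun k hk => ?_)
          (mem_normalizer_fintype fun k hk => ?_)
        · have uN := T.le u (lU0 hu)
          refine ⟨mul_mem (mul_mem uN hk.1) (inv_mem uN), by
            rw [phi_conj K T uN hk.1, hk.2.1, mul_one, mul_inv_cancel], fun e he => ?_⟩
          have a := ex_inv (ex_self em lPS (l0S (lU0 hu))) (nP _) e he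
          have b := (hk.2.2 _ (nP u⁻¹ e he)).eq
          rw [← a] at b
          change _ = _
          calc J u * k * (J u)⁻¹ * J e = J u * (k * ((J u)⁻¹ * J e * (J u)⁻¹⁻¹)) * (J u)⁻¹ := by
                group
            _ = J e * (J u * k * (J u)⁻¹) := by rw [b]; group
        · rwa [← (hk.2.2 e he).eq, mul_inv_cancel_right])
      (fun y hy => by
        obtain ⟨u, hu, e, he, rfl⟩ := dec y hy
        have hu' := xU' u hu
        have uN := T.le u (lU0 hu)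
        have uN' := T.le _ (lU0 hu')
        have cN := mul_mem (mul_mem gN uN) (inv_mem gN)
        have c1 : ∀ e ∈ PP, Commute ((J (xe 3 2 * u * (xe 3 2)⁻¹))⁻¹ * (g * J u * g⁻¹)) (J e) :=
          fun e he => ex_same (ex_mul (ex_inv gP (nP _)) (ex_mul
            (ex_self em lPS (l0S (lU0 hu))) gP (nP _)) (nP _)) (ex_self em lPS (l0S (lU0 hu'))) he
        refine ⟨J (xe 3 2 * u * (xe 3 2)⁻¹) * J (xe 3 2 * e * (xe 3 2)⁻¹),
          mul_mem (mem_im (mem_sup_left hu')) (mem_im (mem_sup_right (nP _ e he))), _,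
          ⟨mul_mem (inv_mem uN') cN, ?_, c1⟩, ?_⟩
        · rw [K.mul _ (inv_mem uN') _ cN, T.inv _ uN', phi_conj K T gN uN, gφ, K.res _ (lU0 hu),
            K.res _ (lU0 hu'), map_mul, map_mul, map_inv, inv_mul_cancel]
        · rw [mul_assoc (J _), ← (c1 _ (nP _ e he)).eq, ← gP e he]
          group)
    have oN := mul_mem ho.1 gN
    have oφ : φ (o * g) = pm2 (xe 3 2) := by rw [K.mul _ ho.1 _ gN, ho.2.1, one_mul, gφ]
    refine ⟨o * g, oN, oφ, ex_cen gP (nP _) ho.2.2, fun u hu => ?_⟩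
    have uN := T.le u (lU0 hu)
    refine T.two _ hY _ ((mem_normalizer_iff.1 hn _).1 (mem_im (mem_sup_left hu)))
      (mul_mem (mul_mem oN uN) (inv_mem oN)) _ (lU0 (xU' u hu)) (mem_im (mem_sup_left (xU' u hu))) ?_
    rw [phi_conj K T oN uN, oφ, K.res _ (lU0 hu), map_mul, map_mul, map_inv]
  have gD : Ex J g (xe 3 2) DD := fun u hu => by
    obtain ⟨v, hv, w, hw, rfl⟩ := hB.m2.pDD u hu
    have a : R J g v (xe 3 2 * v * (xe 3 2)⁻¹) := T.onA g gN v (lVA hv) _ (xA v (lVA hv))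
      (by rw [gφ, map_mul, map_mul, map_inv])
    have := r_mul em a (gU w hw) (l0S (lD0 (lVD hv))) (l0S (lD0 (xD v (lVD hv)))) (l0S (lU0 hw))
      (l0S (lU0 (xU' w hw)))
    simpa [mul_assoc] using this
  -- the quotient of the two candidates for the image of `f0`
  have cc : ∀ Z : Subgroup N2, Z ≤ S2 → Ex J g (xe 3 2) Z →
      (∀ u ∈ Z, xe 3 2 * u * (xe 3 2)⁻¹ ∈ Z) → (∀ u ∈ Z, f0 * u * f0⁻¹ ∈ Z) →
      ∀ u ∈ Z, Commute ((J (tp 2 3))⁻¹ * (g * J f0 * g⁻¹)) (J u) := fun Z hZ a b c u hu => by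
    have b' : ∀ u ∈ Z, (xe 3 2)⁻¹ * u * (xe 3 2)⁻¹⁻¹ ∈ Z := by rwa [xi, xi] at *
    have := ex_mul (ex_inv a b') (ex_mul (ex_self em hZ f0S) a c) b'
    rw [xf] at this
    exact ex_same this (ex_self em hZ f1S) hu
  have cP := cc PP lPS gP (nP _) (nP _)
  have cD := cc DD (lD0.trans l0S) gD xD fD
  obtain ⟨a, ha, k, kN, kφ, ek⟩ := T.dec _ (mem_centralizer_iff.2 fun y hy => by
    obtain ⟨v, hv, rfl⟩ := (K.em.mono AA_le_T0).mem.1 hy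
    exact (cD v (lAD hv)).symm.eq)
  have aS := l0S (AA_le_T0 ha)
  have ko := K.ker k kN kφ
  have a2 : J a * J a = 1 := by rw [← em.mul _ aS _ aS, hB.m2.ab.2.2.2.2.2.1 a ha, em.one]
  have az : a = 1 ∨ a = H17.Kn.z2 := by
    have c1 : Commute (J a) k := mem_centralizer_iff.1 (T.kerC k kN kφ) _ (mem_im ha)
    have c2 : ((J (tp 2 3))⁻¹ * (g * J f0 * g⁻¹)) ^ orderOf k = J a := by
      obtain ⟨n, hn⟩ := ko
      rw [ek, c1.mul_pow, pow_orderOf_eq_one, mul_one, hn, pow_succ, pow_mul, pow_two, a2, one_pow,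
        one_mul]
    refine hB.m3.cPA a (hB.m3.cEE a fun e he => ?_) fun b hb => hB.m2.ab.2.2.1 a ha b hb
    have eS := lPS (show e ∈ PP from he.1)
    have := ((cP e he.1).pow_left (orderOf k)).eq
    rw [c2, ← em.mul _ aS _ eS, ← em.mul _ eS _ aS] at this
    exact em.inj _ (mul_mem aS eS) _ (mul_mem eS aS) this
  have ac : ∀ u ∈ S2, Commute (J a) (J u) := fun u hu => by
    change _ = _
    rw [← em.mul _ aS _ hu, ← em.mul _ hu _ aS]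
    rcases az with rfl | rfl
    · rw [one_mul, mul_one]
    · rw [(hB.m2.ab.2.2.2.2.2.2 u).eq]
  have ek' : k = (J a)⁻¹ * ((J (tp 2 3))⁻¹ * (g * J f0 * g⁻¹)) := by rw [ek]; group
  obtain ⟨e1, e2, e3, e4, e5, e6, e7, e8, e9, e10, e11, e12, e13, e14, e15⟩ := fin2
  have bS := mul_mem f1S aS
  have b2 : J (tp 2 3 * a) * J (tp 2 3 * a) = 1 := by
    rw [← em.mul _ bS _ bS, ← em.one]
    rcases az with rfl | rfl
    exacts [congrArg J e14, congrArg J e15]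
  have ek2 : J (tp 2 3 * a) * (g * J f0 * g⁻¹) = k := by
    rw [← inv_eq_of_mul_eq_one_right b2, em.mul _ f1S _ aS, ek']
    group
  obtain ⟨n, hn⟩ := Ge.dih (J (tp 2 3 * a)) (g * J f0 * g⁻¹) b2 (by
    rw [show g * J f0 * g⁻¹ * (g * J f0 * g⁻¹) = g * (J f0 * J f0) * g⁻¹ by group,
      ← em.mul _ f0S _ f0S, e13, em.one]
    group) (by rwa [ek2])
  rw [ek2] at hn
  have kP : ∀ e ∈ PP, Commute k (J e) := fun e he => by
    rw [ek']; exact (ac e (lPS he)).inv_left.mul_left (cP e he)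
  have kU : ∀ e ∈ U1, Commute k (J e) := fun e he => by
    rw [ek']; exact (ac e (l0S (lU0 he))).inv_left.mul_left (cD e (lUD he))
  have kH : k ^ n ∈ HK K T := pow_mem (show k ∈ HK K T from ⟨kN, kφ, kP⟩) n
  have gN' := mul_mem kH.1 gN
  have gφ' : φ (k ^ n * g) = pm2 (xe 3 2) := by rw [K.mul _ kH.1 _ gN, kH.2.1, one_mul, gφ]
  have gP' := ex_cen gP (nP _) kH.2.2
  have gU' := ex_cen gU xU' fun u hu => (kU u hu).pow_left n
  have gf : R J (k ^ n * g) f0 (tp 2 3 * a) := by rw [R, ← hn]; group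
  generalize k ^ n * g = g' at gN' gφ' gP' gU' gf
  rcases az with rfl | rfl
  · refine ⟨g', fun u hu => ?_⟩
    have i1 : PP ≤ EX em g' (xe 3 2) := fun e he => ⟨lPS he, lPS (nP _ e he), gP' e he⟩
    have i2 : U1 ≤ EX em g' (xe 3 2) := fun e he =>
      ⟨l0S (lU0 he), l0S (lU0 (xU' e he)), gU' e he⟩
    have i3 : f0 ∈ EX em g' (xe 3 2) := ⟨f0S, by rwa [xf], by rwa [xf, ← mul_one (tp 2 3)]⟩
    have i4 : F1 ≤ EX em g' (xe 3 2) := fun e he =>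
      (hB.m2.iF1 e he).elim (fun a => i2 a) fun a =>
        (mul_mem_cancel_left (inv_mem (i1 eP))).1 (i2 a)
    have i5 : FF ≤ EX em g' (xe 3 2) := fun e he =>
      (hB.m2.iFF e he).elim (fun a => i4 a) fun a => (mul_mem_cancel_left (inv_mem i3)).1 (i4 a)
    obtain ⟨v, hv, e, he, rfl⟩ := hB.m2.pJJ u hu
    exact (mul_mem (i5 hv) (i1 he)).2.2
  · exfalso
    have rz : R J g' H17.Kn.z2 H17.Kn.z2 := by simpa only [e1] using gP' _ zP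
    have r2 := r_mul em (gU' _ x13) gf (l0S (lU0 x13)) (l0S (lU0 (xU' _ x13))) f0S bS
    have r1 := r_mul em (gU' _ x12) gf (l0S (lU0 x12)) (l0S (lU0 (xU' _ x12))) f0S bS
    have r3 := r_mul em gf rz f0S bS zS zS
    rw [e2, e4] at r2
    rw [e3, e5] at r1
    rw [e10] at r3
    have t1 := em.self (l0S x23) f0S
    have t2 := em.self (l0S x23) (mul_mem f2S zS)
    have t3 := em.self (l0S x23) f1S
    have tz := em.self (l0S x23) zS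
    rw [e6] at t1
    rw [e7] at t2
    rw [e8] at t3
    rw [e9] at tz
    have q1 := ((t1.trans r2).trans (t2.trans r3)).trans (t3.trans r1)
    have q2 := ((tz.trans rz).trans (tz.trans rz)).trans (tz.trans rz)
    have tN := T.le _ x23
    have hN := mul_mem gN' tN
    have q3 := K.ker _ (mul_mem hN (mul_mem hN hN)) (by
      rw [K.mul _ hN _ (mul_mem hN hN), K.mul _ hN _ hN, K.mul _ gN' _ tN, gφ', K.res _ x23,
        ← map_mul, ← map_mul, ← map_mul, e11, map_one])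
    have q4 := Ge.odd1 _ (J f0) (J H17.Kn.z2) 1 q3 (mul_inv_eq_iff_eq_mul.1 q2)
      (by rw [← em.mul _ f0S _ zS]; exact q1) (by rw [pow_one, pow_two, a2])
    exact z1 (em.inj _ zS _ (one_mem _) (by rw [q4, em.one]))

end Cfsg.Agent.H52.KnSg
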