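import Cfsg.Agent.H76.K0Defs
import Cfsg.Agent.S4542
import Cfsg.Agent.H17.Numeric
import Cfsg.Agent.H13.Complete

/-! Sylow subgroups of order two or three: the number of height zero principal characters. -/

set_option autoImplicit false

namespace Cfsg.Agent.H52.K0Conv

open Cfsg Cfsg.Agent.H76.K0

universe u

theorem sq_mod {p d : ℕ} (hp : p = 2 ∨ p = 3) (hd : ¬ p ∣ d) : d ^ 2 ≡ 1 [MOD p] := by
  unfold Nat.ModEq
  rw [Nat.pow_mod]
  rcases hp with rfl | rfl
  · have h : d % 2 = 1 := by omega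
    rw [h]
  · have h : d % 3 = 1 ∨ d % 3 = 2 := by omega
    rcases h with h | h <;> rw [h]

theorem conv (r0 : R0Stmt.{u}) : ConvStmt.{u} := by
  intro G _ _ p hpf M hM P k hk hP
  classical
  have hp : p.Prime := hpf.out
  have hkp : k.Prime := by
    rcases hk with rfl | rfl
    · exact Nat.prime_two
    · exact Nat.prime_three
  obtain ⟨n, hn⟩ := IsPGroup.iff_card.mp P.isPGroup'
  have hpk : k = p := by
    have h1 : k ∣ p ^ n := by rw [← hn, hP]
    exact (Nat.prime_dvd_prime_iff_eq hkp hp).mp (hkp.dvd_of_dvd_pow h1)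
  subst hpk
  have hfin : Finite (IrrCharacter G) := H13.finite_irrCharacter
  have hdv := (r0 G k M hM P).2.1 (by rw [hP])
  have hft : Fintype (Ht0 k M G) := Fintype.ofFinite _
  rw [finsum_eq_sum_of_fintype] at hdv
  have hmod : ∑ χ : Ht0 k M G, charDegree (χ.1 : G → ℂ) ^ 2 ≡ ∑ _χ : Ht0 k M G, 1 [MOD k] :=
    Nat.ModEq.sum (fun χ _ => sq_mod hk χ.2.2)
  have hc : k ∣ Nat.card (Ht0 k M G) := by
    have h1 := (Nat.ModEq.dvd_iff hmod dvd_rfl).mp hdv
    simpa [Nat.card_eq_fintype_card] using h1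
  have hne : Nonempty (Ht0 k M G) := by
    refine ⟨⟨H17.trivIrr G, H17.trivIrr_mem_principalBlock hM.2.1, ?_⟩⟩
    have h1 : charDegree ((H17.trivIrr G : IrrCharacter G) : G → ℂ) = 1 := by
      simp [charDegree, H17.trivIrr]
    rw [h1]
    exact hp.not_dvd_one
  have hpos : 0 < Nat.card (Ht0 k M G) := Nat.card_pos
  have hcyc : IsCyclic (P : Subgroup G) := isCyclic_of_prime_card hP
  have hle : Nat.card (principalBlock M G) ≤ Nat.card (P : Subgroup G) := by
    refine S4542.result k M hM _ H17.isPBlock_principalBlock (P : Subgroup G)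
      (H17.dg_principal hM P) (P : Subgroup G) le_rfl ?_ hcyc (by simp)
    intro z hz d hd
    obtain ⟨g, hg⟩ := hcyc.exists_generator
    obtain ⟨a, ha⟩ := hg ⟨z, hz⟩
    obtain ⟨b, hb⟩ := hg ⟨d, hd⟩
    have h1 : (g : G) ^ a = z := congrArg Subtype.val ha
    have h2 : (g : G) ^ b = d := congrArg Subtype.val hb
    rw [← h1, ← h2, ← zpow_add, ← zpow_add, add_comm]
  have hle2 : Nat.card (Ht0 k M G) ≤ Nat.card (principalBlock M G) :=
    Nat.card_le_card_of_injective (fun χ => ⟨χ.1, χ.2.1⟩)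
      (fun a b h => Subtype.ext (Subtype.mk.inj h))
  exact le_antisymm ((hle2.trans hle).trans hP.le) (Nat.le_of_dvd hpos hc)

end Cfsg.Agent.H52.K0Conv
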