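import Cfsg.Agent.H37.FkKit
import Cfsg.Agent.S0227
import Cfsg.Agent.S0542
import Cfsg.Agent.H52.FStar

/-! Project FK, piece RED1: no quasisimple system centralises `S ∩ F*(G)` when `O(G) = 1`. -/

set_option autoImplicit false

namespace Cfsg.Agent.H52.FkRed1

open Subgroup Cfsg.Agent.H37.FK Cfsg.Agent.H97

universe u

/-- A commutator of automorphisms fixing a Sylow subgroup has odd order. -/
theorem comm_odd {N : Type u} [Group N] [Finite N]
    (hO : ∀ M : Subgroup N, M.Normal → Odd (Nat.card M) → M = ⊥) (Y : Sylow 2 N)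
    {a b : MulAut N} (ha : ∀ s ∈ Y, a s = s) (hb : ∀ s ∈ Y, b s = s) :
    Odd (orderOf (a⁻¹ * b * a * b⁻¹)) := by
  let C : Subgroup (MulAut N) :=
    { carrier := {φ | ∀ s ∈ Y, φ s = s}
      one_mem' := fun _ _ => rfl
      mul_mem' := fun {φ ψ} h h' s hs => by rw [MulAut.mul_apply, h' s hs, h s hs]
      inv_mem' := fun {φ} h s hs => φ.injective (by rw [MulAut.apply_inv_self, h s hs]) }
  obtain ⟨T⟩ : Nonempty (Sylow 2 C) := inferInstance
  obtain ⟨hT, K, hK, hc⟩ := (S0227.result hO Y C fun _ => Iff.rfl).1 T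
  have key : ∀ x : C, ∃ t : (T : Subgroup C), QuotientGroup.mk' K x = QuotientGroup.mk' K t := by
    intro x
    obtain ⟨⟨k, t⟩, e⟩ := (hc.existsUnique x).exists
    have hk : QuotientGroup.mk' K (k : C) = 1 := (QuotientGroup.eq_one_iff (k : C)).2 k.2
    have e' : (k : C) * t = x := e
    exact ⟨t, by rw [← e', map_mul, hk, one_mul]⟩
  have h1 : (⟨a, ha⟩ : C)⁻¹ * ⟨b, hb⟩ * ⟨a, ha⟩ * (⟨b, hb⟩ : C)⁻¹ ∈ K := by
    obtain ⟨s, hs⟩ := key ⟨a, ha⟩
    obtain ⟨t, ht⟩ := key ⟨b, hb⟩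
    have e : QuotientGroup.mk' K t * QuotientGroup.mk' K s =
        QuotientGroup.mk' K s * QuotientGroup.mk' K t := by
      rw [← map_mul, ← map_mul]
      exact congrArg (fun x : (T : Subgroup C) => QuotientGroup.mk' K x) (hT t s)
    rw [← QuotientGroup.ker_mk' K, MonoidHom.mem_ker, map_mul, map_mul, map_mul, map_inv, map_inv,
      hs, ht, mul_assoc _ _ (QuotientGroup.mk' K s), e]
    group
  have h2 : ¬ 2 ∣ Nat.card K := by
    rw [← hc.index_eq_card]
    exact T.not_dvd_index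
  have h3 := orderOf_dvd_natCard (⟨_, h1⟩ : K)
  rw [← Subgroup.orderOf_coe, ← Subgroup.orderOf_coe] at h3
  exact Odd.of_dvd_nat (Nat.odd_iff.2 (by omega)) h3

/-- Commutators of elements centralising `S ∩ F*(G)` that lie in `S` lie in `F*(G)`. -/
theorem comm_mem {G : Type u} [Group G] [Finite G] (hO : oddCore G = ⊥) (S : Sylow 2 G) {x g : G}
    (hx : ∀ y ∈ (S : Subgroup G) ⊓ generalizedFittingSubgroup G, x * y * x⁻¹ = y)
    (hg : ∀ y ∈ (S : Subgroup G) ⊓ generalizedFittingSubgroup G, g * y * g⁻¹ = y)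
    (hc : x⁻¹ * g * x * g⁻¹ ∈ (S : Subgroup G)) :
    x⁻¹ * g * x * g⁻¹ ∈ generalizedFittingSubgroup G := by
  have hN := fstar_normal (G := G)
  obtain ⟨Y, hY⟩ := S0542.result 2 (generalizedFittingSubgroup G) hN.isSubnormal S
  have hY' : ∀ s ∈ Y, (s : G) ∈ (S : Subgroup G) ⊓ generalizedFittingSubgroup G := fun s hs =>
    ⟨(hY.le hs : s ∈ (S : Subgroup G).subgroupOf _), s.2⟩
  have h1 := comm_odd (N := generalizedFittingSubgroup G) (fun M hM ho => by
    have h2 : M ≤ pPrimeCore 2 _ := H3.le_pPrimeCore (Nat.coprime_two_right.2 ho)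
    have h3 := (map_mono (f := (generalizedFittingSubgroup G).subtype) h2).trans
      (H3.map_pPrimeCore_le_pPrimeCore_of_isSubnormal (p := 2) hN.isSubnormal)
    rw [show pPrimeCore 2 G = ⊥ from hO, le_bot_iff] at h3
    exact (map_eq_bot_iff_of_injective _ (subtype_injective _)).1 h3) Y
    (a := MulAut.conjNormal x) (b := MulAut.conjNormal g)
    (fun s hs => Subtype.ext (hx s (hY' s hs))) (fun s hs => Subtype.ext (hg s (hY' s hs)))
  rw [← map_inv, ← map_inv, ← map_mul, ← map_mul, ← map_mul] at h1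
  have h2 := ((Two.of_mem S.isPGroup' hc).map
    (MulAut.conjNormal : G →* MulAut (generalizedFittingSubgroup G))).eq_one h1
  refine centralizer_fstar_le fun y hy => ?_
  have h3 := congrArg Subtype.val (DFunLike.congr_fun h2 ⟨y, hy⟩)
  rw [MulAut.conjNormal_apply] at h3
  exact (mul_inv_eq_iff_eq_mul.1 h3).symm

/-- **RED1** -/
theorem red1 : Red1Stmt.{u} := by
  intro G _ _ hO S T C hC h
  obtain ⟨hT, hm⟩ := centBy_iff.1 h
  refine quasisimple_ne_bot hC (le_bot_iff.1 (hC.2.1.ge.trans (hyp_le_iff.2 ?_)))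
  intro P hP α hα hc x hx
  obtain ⟨f, hf, e1, e2⟩ := hm P _ (mor_of_mem_autGroup hP hα)
  obtain ⟨hS, -, g, hg⟩ := mor_group_iff.1 hf
  have hgP : ∀ y ∈ P, ext α y = g * y * g⁻¹ := fun y hy =>
    (e1 y hy).symm.trans (hg y (mem_sup_left hy))
  have hgY : ∀ y ∈ (S : Subgroup G) ⊓ generalizedFittingSubgroup G, g * y * g⁻¹ = y :=
    fun y hy => (hg y (mem_sup_right hy)).symm.trans (e2 y hy)
  have hcP : x⁻¹ * g * x * g⁻¹ ∈ P := by
    have := mul_mem (inv_mem hx) (ext_mem α hx)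
    rwa [hgP x hx, ← mul_assoc, ← mul_assoc] at this
  have hcS : x⁻¹ * g * x * g⁻¹ ∈ (S : Subgroup G) := hS (mem_sup_left hcP)
  have h1 := hgY _ ⟨hcS, comm_mem hO S
    (fun y hy => by rw [← hT (hP hx) y hy, mul_inv_cancel_right]) hgY hcS⟩
  have h2 : ∀ n : ℕ, ext (α ^ n) x = x * (x⁻¹ * g * x * g⁻¹) ^ n := by
    intro n
    induction n with
    | zero => simp
    | succ n ih =>
      rw [pow_succ', ext_mul, ih, hgP _ (mul_mem hx (pow_mem hcP n)), pow_succ']
      calc _ = g * x * g⁻¹ * (g * (x⁻¹ * g * x * g⁻¹) * g⁻¹) ^ n := by rw [conj_pow]; group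
        _ = _ := by rw [h1]; simp only [mul_assoc, mul_inv_cancel_left]
  have h3 := h2 (orderOf α)
  rw [pow_orderOf_eq_one, ext_one, left_eq_mul] at h3
  have h4 := (Two.of_mem S.isPGroup' hcS).eq_one
    (Odd.of_dvd_nat (Nat.coprime_two_right.1 hc) (orderOf_dvd_of_pow_eq_one h3))
  rw [mem_bot, hgP x hx, ← h4]
  group

end Cfsg.Agent.H52.FkRed1
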