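import Cfsg.Agent.H42.HtDefs
import Cfsg.Agent.H89.Cj

/-!
The group `A` centralises the invariant subgroups of odd order: a four-group argument.
-/

set_option autoImplicit false

namespace Cfsg.Agent.H52.HtOZ

open Cfsg Cfsg.Agent.H63 Cfsg.Agent.H63.SL Subgroup Cfsg.Agent.H42.HT

universe u

theorem z8_ne : z8' ≠ 1 := fun h => absurd (congrArg Subtype.val h) (by decide)

theorem z8_sq : z8' * z8' = 1 := Subtype.ext (by decide)

theorem oz : OzStmt.{u} := by
  intro ff G _ _ β τ w r g m hg gτ gz Y hY hYw hN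
  have simple : IsSimpleGroup A8 := ff.simp _ (by decide)
  have bN : ∀ σ, β σ ∈ N[Y] := fun σ => hN ((mem_Mr m.w2).2 ⟨(m.cw σ).symm,
    Or.inl (by rw [← (m.cr σ).eq, mul_inv_cancel_right])⟩)
  have τN : τ ∈ N[Y] := hN ((mem_Mr m.w2).2 ⟨m.τw, Or.inr m.τr⟩)
  have gN : g ∈ N[Y] := hN hg
  have z2 : β z8' * β z8' = 1 := by rw [← map_mul, z8_sq, map_one]
  have z1 : β z8' ≠ 1 := fun h => z8_ne (m.inj (by rw [h, map_one]))
  have hbot : Y.comap β = ⊥ := by
    have : (Y.comap β).Normal := ⟨fun a ha b => by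
      rw [mem_comap, map_mul, map_mul, map_inv]
      exact (mem_normalizer_iff.1 (bN b) _).1 ha⟩
    refine (this.eq_bot_or_eq_top).resolve_right fun h => ?_
    have h1 : β z8' ∈ Y := (h ▸ mem_top _ : z8' ∈ Y.comap β)
    have h2 : orderOf (β z8') = 2 := orderOf_eq_prime (by rw [pow_two, z2]) z1
    have h3 := Y.orderOf_dvd_natCard h1
    rw [h2] at h3
    exact (Nat.not_even_iff_odd.2 hY) (even_iff_two_dvd.2 h3)
  have s1 : ∀ o ∈ Y, Commute o τ → ∀ σ, Commute o (β σ) := by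
    intro o ho oτ σ
    have ow : Commute o w := mem_centralizer_singleton_iff.1 (hYw ho)
    obtain ⟨σ', e⟩ := (mem_normalizer_iff.1 (m.cN o oτ ow) (β σ)).1 ⟨σ, rfl⟩
    have h1 : σ' * σ⁻¹ ∈ Y.comap β := by
      rw [mem_comap, map_mul, map_inv, e]
      have := mul_mem ho ((mem_normalizer_iff.1 (bN σ) _).1 (inv_mem ho))
      simpa [mul_assoc] using this
    rw [hbot, mem_bot, mul_inv_eq_one] at h1
    rw [h1] at e
    exact (mul_inv_eq_iff_eq_mul.1 e.symm)
  have h4 : Y ≤ C1[β z8'] := by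
    refine H89.Rec.four_gen m.τ2 z2 (m.cτ _) ?_ z1 ?_ hY τN (bN _)
      (fun y hy h => mem_centralizer_singleton_iff.2 (s1 y hy h _))
      (fun y _ h => mem_centralizer_singleton_iff.2 h) fun y hy h => ?_
    · intro h
      have := m.τr
      rw [h, one_mul, inv_one, mul_one] at this
      exact m.w1 (left_eq_mul.1 this)
    · intro h
      have := m.τr
      rw [h, ← (m.cr _).eq, mul_inv_cancel_right] at this
      exact m.w1 (left_eq_mul.1 this)
    · have h1 : g⁻¹ * y * g⁻¹⁻¹ ∈ Y := (mem_normalizer_iff.1 (inv_mem gN) y).1 hy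
      have h2 : Commute (g⁻¹ * y * g⁻¹⁻¹) τ := by
        rw [← gτ] at h
        have e := h.eq
        change _ = _
        calc g⁻¹ * y * g⁻¹⁻¹ * τ = g⁻¹ * (y * (g * τ * g⁻¹)) * g := by group
          _ = τ * (g⁻¹ * y * g⁻¹⁻¹) := by rw [e]; group
      have h3 := (gz.mul_left (s1 _ h1 h2 z8')).mul_left gz.inv_left
      refine mem_centralizer_singleton_iff.2 ?_
      simpa [mul_assoc] using h3.eq
  have hn : ((C[Y]).comap β).Normal := ⟨fun a ha b => by
    rw [mem_comap, map_mul, map_mul, map_inv, mem_centralizer_iff] at *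
    intro y hy
    have h1 : (β b)⁻¹ * y * (β b)⁻¹⁻¹ ∈ Y := (mem_normalizer_iff.1 (inv_mem (bN b)) y).1 hy
    have h2 := ha _ h1
    calc y * (β b * β a * (β b)⁻¹) = β b * ((β b)⁻¹ * y * (β b)⁻¹⁻¹ * β a) * (β b)⁻¹ := by group
      _ = β b * β a * (β b)⁻¹ * y := by rw [h2]; group⟩
  have h5 : z8' ∈ (C[Y]).comap β := mem_centralizer_iff.2 fun y hy =>
    mem_centralizer_singleton_iff.1 (h4 hy)
  have h6 := hn.eq_bot_or_eq_top.resolve_left fun h => z8_ne (by rwa [h, mem_bot] at h5)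
  intro σ
  exact (h6 ▸ mem_top _ : σ ∈ (C[Y]).comap β)

end Cfsg.Agent.H52.HtOZ
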