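import Cfsg.Agent.H56.HLK

/-! Project HL, piece P5a. -/

set_option autoImplicit false
set_option linter.unusedSectionVars false

namespace Cfsg.Agent.H52.HlP5

open MulAction Subgroup Cfsg.Agent.H83 Cfsg.Agent.H56.TT Cfsg.Agent.H56.HL
open scoped Cfsg.Agent.H63

universe u v

section
variable {G : Type u} [Group G] {Ω : Type v} [MulAction G Ω] {F R : Subgroup G}

theorem rt_mem (h : RT Ω F R) {r : G} (hr : r ∈ R) {x : Ω} (hx : x ∈ Fx Ω F) : r • x ∈ Fx Ω F :=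
  smul_mem_Fx_of (h.le hr) hx

theorem rt_sw (h : RT Ω F R) {r s : G} (hr : r ∈ R) (hs : s ∈ R) {x : Ω} (hx : x ∈ Fx Ω F) :
    r • s • x = s • r • x := by
  have := mem_JJ.1 (h.comm r hr s hs) _ (rt_mem h hs (rt_mem h hr hx))
  rw [← this]
  simp only [mul_smul, inv_smul_smul]

theorem rt_sq (h : RT Ω F R) {r : G} (hr : r ∈ R) {x : Ω} (hx : x ∈ Fx Ω F) : r • r • x = x := by
  rw [← mul_smul]
  exact mem_JJ.1 (h.sq r hr) x hx

theorem rt_conj (h : RT Ω F R) {r t : G} (ht : t ∈ N[F]) (hr : r ∈ R) : t * r * t⁻¹ ∈ R :=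
  (mem_normalizer_iff.1 (h.nrm ht) r).1 hr

theorem card_le [Finite Ω] (h : RT Ω F R) {a : Ω} (ha : a ∈ Fx Ω F) {t : G} (ht : t ∈ N[F])
    (ta : t • a = a) (tt : t * t = 1) {L : Set Ω} (hL : ∀ x ∈ Fx Ω F, t • x = x → x ∈ L) :
    (Fx Ω F).ncard ≤ L.ncard * L.ncard := by
  classical
  have : Nonempty Ω := ⟨a⟩
  have ex : ∀ x, ∃ r ∈ R, x ∈ Fx Ω F → r • a = x := fun x => by
    by_cases hx : x ∈ Fx Ω F
    · obtain ⟨r, hr, e⟩ := h.tr a ha x hx
      exact ⟨r, hr, fun _ => e⟩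
    · exact ⟨1, one_mem _, fun h => (hx h).elim⟩
  choose r hr er using ex
  have ti : t⁻¹ • a = a := by rw [inv_smul_eq_iff, ta]
  have e1 : ∀ x ∈ Fx Ω F, t • x = (t * r x * t⁻¹) • a := fun x hx => by
    rw [mul_smul, mul_smul, ti, er x hx]
  have e2 : ∀ s x, t • s • x = (t * s * t⁻¹) • t • x := fun (s : G) (x : Ω) => by
    simp only [mul_smul, inv_smul_smul]
  have e3 : ∀ x : Ω, t • t • x = x := fun x => by rw [← mul_smul, tt, one_smul]
  let φ : Ω → Ω := fun x => r x • t • x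
  let s : Ω → Ω := fun x => Function.invFunOn φ (Fx Ω F) (φ x)
  have hs : ∀ x ∈ Fx Ω F, s x ∈ Fx Ω F ∧ φ (s x) = φ x := fun x hx =>
    ⟨Function.invFunOn_mem ⟨x, hx, rfl⟩, Function.invFunOn_eq ⟨x, hx, rfl⟩⟩
  rw [← Set.ncard_prod]
  refine Set.ncard_le_ncard_of_injOn (fun x => (φ x, r (s x) • x)) (fun x hx => ⟨?_, ?_⟩)
    (fun x hx y hy e => ?_) (Set.toFinite _)
  · refine hL _ (rt_mem h (hr x) (smul_mem_Fx_of ht hx)) ?_
    change t • r x • t • x = r x • t • x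
    rw [e2, e3, e1 x hx, rt_sw h (hr x) (rt_conj h ht (hr x)) ha, er x hx]
  · obtain ⟨s1, s2⟩ := hs x hx
    refine hL _ (rt_mem h (hr _) hx) ?_
    change r (s x) • t • s x = r x • t • x at s2
    change t • r (s x) • x = r (s x) • x
    have hB := hr (s x)
    have hB' := rt_conj h ht hB
    have hA := hr x
    have htx := smul_mem_Fx_of ht hx
    rw [e1 _ s1] at s2
    rw [e2, ← rt_sq h hA htx, ← s2, rt_sw h hB' hA (rt_mem h hB (rt_mem h hB' ha)),
      rt_sw h hB' hB (rt_mem h hB' ha), rt_sq h hB' ha, rt_sw h hA hB ha, er x hx]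
  · have h1 : φ x = φ y := congrArg Prod.fst e
    have h2 : r (s x) • x = r (s y) • y := congrArg Prod.snd e
    have h3 : s x = s y := by simp only [s, h1]
    rw [h3] at h2
    exact smul_left_cancel _ h2

end

theorem p5a : P5aStmt.{u, v} := by
  intro G Ω _ _ _ _ _ NN q EE k h a F R hp hR
  obtain ⟨y, hy, hA⟩ := id hp
  have K := h.pl.st.kit a
  obtain ⟨t, ht, htF⟩ : ∃ t ∈ EE a y, t ∉ F := by
    by_contra hc
    push Not at hc
    exact hA.ne (eq_of_le_of_card_ge hc (by rw [hA.vl.card, hA.vr.card]))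
  have t1 : t ≠ 1 := fun e => htF (e ▸ one_mem F)
  obtain ⟨M, hM, tM⟩ := (K.l3.fa hA).cov t ht t1
  have key := card_le hR (hp.mem h.pl.st) (K.ka.nE hA (mem_sup_left ht))
    (h.pl.ln.left h.pl.st hy ht) (hA.vl.sq t ht) (L := Fx Ω (EE a y)) fun z hz tz => by
      by_cases e : a = z
      · exact e ▸ h.pl.ln.left h.pl.st hy
      have h1 := (h.p2a.fixt ⟨y, hy, hM⟩ t tM t1 z e).1 tz
      have h2 := (h.p2a.fixF hp z e).1 hz
      by_cases e' : EE a z = EE a y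
      · exact e' ▸ h.pl.ln.right h.pl.st e
      · exact (htF (K.ka.uniq e' h1 hM h2 hA ▸ tM)).elim
  rw [h.p3a.plane hp, h.p3a.line hy] at key
  obtain ⟨m, hm, hq⟩ := K.l3.pow
  have h2 := h.p3a.two
  have h3 := h.p3a.le
  obtain ⟨j, hj⟩ := h.p3a.even
  have h4 : Even q := hq ▸ (Nat.even_pow.2 ⟨even_two, by omega⟩)
  obtain ⟨i, hi⟩ := h4
  obtain ⟨l, rfl⟩ : ∃ l, k = l + 1 := ⟨k - 1, by omega⟩
  rw [Nat.add_sub_cancel] at key
  have h5 : q ≤ l + 1 := by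
    by_contra hc
    have : l + 3 ≤ q + 1 := by omega
    have := Nat.mul_le_mul_right l this
    nlinarith
  omega

end Cfsg.Agent.H52.HlP5
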