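import Cfsg.Agent.H17.KnDefs

/-!
# Products, subgroups of index two and the action of `s12` and `th i` in the model
-/

set_option autoImplicit false
set_option maxRecDepth 100000
set_option synthInstance.maxSize 2000

namespace Cfsg.Agent.H52.KnMod2b

open Equiv Subgroup Cfsg.Agent.H11.A16 Cfsg.Agent.H17.Kn

/-- The sign part. -/
def sg (u : N2) : N2 := ⟨1, u.f⟩

theorem dec (u : N2) : u = sec2 u.σ * sg u :=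
  N2.ext (mul_one _).symm (funext fun _ => (add_zero _).symm)

theorem blk_iff : ∀ a b : P, a.1 / 2 = b.1 / 2 ↔ a = b ∨ a = x 1 b := by decide

theorem blk {σ : Perm P} (h : σ ∈ T') {p q : P} (e : (σ p).1 / 2 = (σ q).1 / 2) :
    p.1 / 2 = q.1 / 2 := by
  rw [blk_iff] at e ⊢
  rcases e with e | e
  · exact Or.inl (σ.injective e)
  · exact Or.inr (σ.injective (by rw [e, h.1]))

theorem Tind {Q : (P → P) → Prop} (h : ∀ a b : P, a.1 / 4 = b.1 / 4 → a.1 / 2 ≠ b.1 / 2 →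
    ∀ c e : P, c.1 / 4 = e.1 / 4 → c.1 / 2 ≠ e.1 / 2 → a.1 / 4 ≠ c.1 / 4 →
      Q ![a, x 1 a, b, x 1 b, c, x 1 c, e, x 1 e]) {σ : Perm P} (hσ : σ ∈ T') : Q σ := by
  have e : (σ : P → P) = ![σ 0, x 1 (σ 0), σ 2, x 1 (σ 2), σ 4, x 1 (σ 4), σ 6, x 1 (σ 6)] := by
    funext i
    fin_cases i
    exacts [rfl, hσ.1 0, rfl, hσ.1 2, rfl, hσ.1 4, rfl, hσ.1 6]
  have h1 := hσ.2 0 2 rfl
  have h2 := hσ.2 4 6 rfl
  have k : ∀ p q : P, p.1 / 2 ≠ q.1 / 2 → (σ p).1 / 2 ≠ (σ q).1 / 2 := fun p q a b => a (blk hσ b)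
  have k1 := k 0 2 (by decide)
  have k2 := k 4 6 (by decide)
  have k3 := k 0 4 (by decide)
  have k4 := k 2 4 (by decide)
  rw [e]
  exact h _ _ h1 k1 _ _ h2 k2 (by omega)

theorem ag_of {σ : Perm P} (h : ∀ p q, σ (p ^^^ q) = σ p ^^^ σ q ^^^ σ 0) : σ ∈ AG := by
  intro p q r
  rw [h, h]
  generalize σ p = a; generalize σ q = b; generalize σ r = c; generalize σ 0 = e
  revert a b c e; decide +kernel

theorem af_of {f : P → ZMod 2} (h : ∀ p q, f (p ^^^ q) = f p + f q + f 0) (p q r : P) :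
    f (p ^^^ q ^^^ r) = f p + f q + f r := by
  rw [h, h]
  generalize f p = a; generalize f q = b; generalize f r = c; generalize f 0 = e
  revert a b c e; decide

theorem ag_or {σ : Perm P} (h : σ ∈ T') : σ ∈ AG ∨ f0⁻¹.σ * σ ∈ AG :=
  (Tind (Q := fun G => (∀ p q, G (p ^^^ q) = G p ^^^ G q ^^^ G 0) ∨
    ∀ p q, f0⁻¹.σ (G (p ^^^ q)) = f0⁻¹.σ (G p) ^^^ f0⁻¹.σ (G q) ^^^ f0⁻¹.σ (G 0))
    (by decide +kernel) h).imp ag_of ag_of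

theorem tv_or {σ : Perm P} (h : σ ∈ T') : σ ∈ TV ∨ (xe 2 3)⁻¹.σ * σ ∈ TV :=
  Tind (Q := fun G => (∀ p, (G p).1 / 2 = (p.1 / 2) ^^^ ((G 0).1 / 2)) ∨
    ∀ p, ((xe 2 3)⁻¹.σ (G p)).1 / 2 = (p.1 / 2) ^^^ (((xe 2 3)⁻¹.σ (G 0)).1 / 2))
    (by decide +kernel) h

theorem sg_PP (u : N2) : sg u ∈ PP := rfl

theorem sec_QK {σ : Perm P} (h : σ ∈ AG) : sec2 σ ∈ QK := ⟨h, fun _ _ _ => rfl⟩

theorem sec_AA {σ : Perm P} (h : σ ∈ TR) : sec2 σ ∈ AA := ⟨h, fun _ => rfl⟩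

theorem sec_FF {u : N2} (h : u ∈ JJ) : sec2 u.σ ∈ FF := ⟨h, JJ_x h, fun _ => rfl⟩

theorem pQQ : ∀ m ∈ QQ, ∃ a ∈ AA, ∃ b ∈ AP, m = a * b := fun m h =>
  ⟨_, sec_AA h.1, sg m, ⟨⟨one_mem _, h.2.2⟩, sg_PP m⟩, dec m⟩

theorem pAE : ∀ m ∈ AE, ∃ a ∈ AA, ∃ e ∈ EE, m = a * e := fun m h =>
  ⟨_, sec_AA h.1, sg m, ⟨sg_PP m, h.2⟩, dec m⟩

theorem pQE : ∀ m ∈ QE, ∃ k ∈ QK, ∃ e ∈ EE, m = k * e := fun m h =>
  ⟨_, sec_QK h.1, sg m, ⟨sg_PP m, h.2⟩, dec m⟩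

theorem pT1 : ∀ m ∈ T1, ∃ t ∈ T0, ∃ e ∈ EE, m = t * e := fun m h =>
  ⟨_, ⟨sec_QK h.1.1, h.2⟩, sg m, ⟨sg_PP m, h.1.2⟩, dec m⟩

theorem pJJ : ∀ m ∈ JJ, ∃ u ∈ FF, ∃ e ∈ PP, m = u * e := fun m h =>
  ⟨_, sec_FF h, sg m, sg_PP m, dec m⟩

/-- The translation that acts on the blocks as the translation by `a`. -/
def vt (a : P) : N2 := sec2 (x (a &&& 6))

theorem vt_mem : ∀ a, vt a ∈ VV ∧ vt a ∈ XX := by decide +kernel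

theorem vt_JJ {m : N2} (h : m.σ ∈ TV) : (vt (m.σ 0))⁻¹ * m ∈ JJ := by
  refine mem_JJ.2 fun p => ?_
  have := h p
  change (vt (m.σ 0))⁻¹.σ (m.σ p) = p ∨ (vt (m.σ 0))⁻¹.σ (m.σ p) = x 1 p
  revert this; generalize m.σ p = s; generalize m.σ 0 = a
  revert p s a; decide +kernel

theorem pDD : ∀ m ∈ DD, ∃ v ∈ VV, ∃ u ∈ U1, m = v * u := fun m h => by
  have h1 := mul_mem (inv_mem (vt_mem (m.σ 0)).2) h.1
  exact ⟨_, (vt_mem (m.σ 0)).1, _, ⟨h1.1, vt_JJ h.2, h1.2⟩, (mul_inv_cancel_left _ _).symm⟩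

theorem x23 : xe 2 3 ∈ XX ∧ xe 2 3 ∈ UU := by decide +kernel

theorem pYY : ∀ m ∈ YY, ∃ t ∈ XX, ∃ u ∈ FF, m = t * u := fun m h => by
  rcases tv_or h.1 with e | e
  · exact ⟨_, (vt_mem (m.σ 0)).2, _, ⟨vt_JJ e, FI.mul_mem (FI.inv_mem (vt_mem (m.σ 0)).2.2) h.2⟩,
      (mul_inv_cancel_left _ _).symm⟩
  · have h1 := (vt_mem (((xe 2 3)⁻¹ * m).σ 0)).2
    exact ⟨_, mul_mem x23.1 h1, _, ⟨vt_JJ (m := (xe 2 3)⁻¹ * m) e,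
      FI.mul_mem (FI.inv_mem h1.2) (FI.mul_mem (FI.inv_mem x23.1.2) h.2)⟩, by group⟩

theorem f0_mem : f0 ∈ SE ∧ f0 ∈ FF := by decide +kernel

theorem iSE : ∀ u ∈ SE, u ∈ T1 ∨ f0⁻¹ * u ∈ T1 := fun u h => by
  have h1 := mul_mem (inv_mem f0_mem.1) h
  exact (ag_or h.1).imp (fun e => ⟨⟨e, h.2⟩, h.1⟩) fun e => ⟨⟨e, h1.2⟩, h1.1⟩

theorem ev_or (u : N2) : u ∈ EV ∨ (dl 0)⁻¹ * u ∈ EV := by
  refine (H11.A16.z2 (par u)).imp id fun e => ?_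
  change par _ = 0
  rw [par_mul, e]
  decide +kernel

theorem dl_mem : ∀ p, dl p ∈ PP ∧ dl p ∈ S2 := by decide +kernel

theorem iS2 : ∀ u ∈ S2, u ∈ SE ∨ (dl 0)⁻¹ * u ∈ SE := fun u h =>
  (ev_or u).imp (fun e => ⟨h, e⟩) fun e => ⟨S2.mul_mem (S2.inv_mem (dl_mem 0).2) h, e⟩

theorem iPP : ∀ u ∈ PP, u ∈ EE ∨ (dl 0)⁻¹ * u ∈ EE := fun u h =>
  (ev_or u).imp (fun e => ⟨h, e⟩) fun e => ⟨PP.mul_mem (PP.inv_mem (dl_mem 0).1) h, e⟩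

theorem JJ_S2 {u : N2} (h : u ∈ JJ) : u ∈ S2 := ⟨JJ_x h, fun p q e => by
  have k : ∀ p : P, (x 1 p).1 / 4 = p.1 / 4 := by decide
  have := mem_JJ.1 h p; have := mem_JJ.1 h q; have := k p; have := k q
  change (u.σ p).1 / 4 = (u.σ q).1 / 4
  grind⟩

theorem FI_form {u : N2} (h : u ∈ FI) :
    u.f = ![u.f 0, u.f 0, u.f 2, u.f 2, u.f 4, u.f 4, u.f 6, u.f 6] := by
  funext i
  fin_cases i
  exacts [rfl, h.2 0, rfl, h.2 2, rfl, h.2 4, rfl, h.2 6]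

theorem FI_EV {u : N2} (h : u ∈ FI) : u ∈ EV := by
  change ∑ p, u.f p = 0
  rw [FI_form h]
  generalize u.f 0 = a; generalize u.f 2 = b; generalize u.f 4 = c; generalize u.f 6 = e
  revert a b c e; decide +kernel

theorem FF_YY {u : N2} (h : u ∈ FF) : u ∈ YY := ⟨JJ_S2 h.1, h.2⟩

theorem iFF : ∀ u ∈ FF, u ∈ F1 ∨ f0⁻¹ * u ∈ F1 := fun u h =>
  (iSE u ⟨JJ_S2 h.1, FI_EV h.2⟩).imp (fun e => ⟨e, h⟩)
    fun e => ⟨e, FF.mul_mem (FF.inv_mem f0_mem.2) h⟩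

theorem e34_mem : e34 ∈ F1 := by decide +kernel

theorem iF1 : ∀ u ∈ F1, u ∈ U1 ∨ e34⁻¹ * u ∈ U1 := fun u h => by
  have h1 := mul_mem (inv_mem e34_mem) h
  have k : ∀ a b c e : ZMod 2, ∀ g : P → ZMod 2, g = ![a, a, b, b, c, c, e, e] →
      (∀ p q, g (p ^^^ q) = g p + g q + g 0) ∨ ∀ p q, g (p ^^^ q) + e34.f (p ^^^ q) =
        (g p + e34.f p) + (g q + e34.f q) + (g 0 + e34.f 0) := by
    simp only [forall_eq]; decide +kernel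
  have k2 : ∀ p, (e34⁻¹ * u).f p = u.f p + e34.f p := fun p => by
    have := mem_JJ.1 h.2.1 p
    rw [N2.mul_f]
    revert this; generalize u.σ p = s; generalize u.f p = c
    revert p s c; decide +kernel
  refine (k _ _ _ _ u.f (FI_form h.2.2)).imp (fun e => ⟨⟨⟨h.1.1.1, af_of e⟩, h.1.2⟩, h.2⟩)
    fun e => ⟨⟨⟨h1.1.1.1, af_of fun p q => ?_⟩, h1.1.2⟩, h1.2⟩
  simp only [k2]
  exact e p q

theorem iXX : ∀ u ∈ XX, u ∈ DD ∨ (xe 2 3)⁻¹ * u ∈ DD := fun _ h =>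
  (tv_or h.1.2).imp (fun e => ⟨h, e⟩) fun e => ⟨XX.mul_mem (XX.inv_mem x23.1) h, e⟩

theorem x01 : xe 0 1 ∈ T0 := by decide +kernel

theorem iT0 : ∀ u ∈ T0, u ∈ XX ∨ (xe 0 1)⁻¹ * u ∈ XX := fun u h => by
  have h1 := mul_mem (inv_mem x01) h
  have k : ∀ p, u.f (x 1 p) = u.f p + u.f 1 + u.f 0 := fun p => by
    rw [← h.1.2 p 1 0]
    congr 1
    revert p; decide
  rcases H11.A16.z2 (u.f 1 + u.f 0) with e | e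
  · exact Or.inl ⟨h, h.2.1, fun p => by rw [k, add_assoc, e, add_zero]⟩
  · refine Or.inr ⟨h1, h1.2.1, fun p => ?_⟩
    rw [N2.mul_f, N2.mul_f, k, add_assoc (u.f p), e, show u.σ (x 1 p) = x 1 (u.σ p) from h.2.1 p]
    generalize u.σ p = s; generalize u.f p = c
    revert s c; decide +kernel

theorem lVV : ∀ u ∈ VV, u = 1 ∨ u = xe 2 4 ∨ u = xe 3 4 ∨ u = xe 2 4 * xe 3 4 := fun u hu => by
  have h : u = sec2 (x (u.σ 0)) := N2.ext (Equiv.ext hu.1.1) (funext hu.2)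
  have h2 : (u.σ 0).1 % 2 = 0 := hu.1.2 0
  rw [h]; revert h2; generalize u.σ 0 = m; revert m; decide +kernel

theorem lPI : ∀ u ∈ PI, u = 1 ∨ u = H17.Kn.z2 ∨ u = xe 1 4 ∨ u = xe 1 4 * H17.Kn.z2 := fun u hu => by
  have h : u = ⟨x (u.σ 0), fun _ => u.f 0⟩ := N2.ext (Equiv.ext hu.1.1) (funext hu.1.2)
  have h2 := mem_JJ.1 hu.2.1 0
  rw [h]; revert h2; generalize u.σ 0 = m; generalize u.f 0 = c; revert m c; decide +kernel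

/-- The elements that are conjugated into `Y` by `s`. -/
def cj (s : Perm Ω) (Y : Subgroup N2) : Subgroup N2 :=
  (Y.map pm2).comap ((MulAut.conj s).toMonoidHom.comp pm2)

theorem mem_cj {s : Perm Ω} {Y : Subgroup N2} {u : N2} :
    u ∈ cj s Y ↔ ∃ v ∈ Y, s * pm2 u * s⁻¹ = pm2 v :=
  ⟨fun ⟨v, h, e⟩ => ⟨v, h, e.symm⟩, fun ⟨v, h, e⟩ => ⟨v, h, e.symm⟩⟩

theorem cj_mono {s : Perm Ω} {Y Z : Subgroup N2} (h : Y ≤ Z) : cj s Y ≤ cj s Z :=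
  comap_mono (map_mono h)

theorem mem_of_en (h1 : Mod1) {u : N2} (hu : u ∈ T0) {K : Subgroup N2}
    (h : ∀ i j, i < j → en u i j = 0 ∨ xe i j ∈ K) : u ∈ K := by
  have k : ∀ i j, i < j → xc (en u i j) i j ∈ K := fun i j e => by
    unfold xc
    split_ifs with c
    · exact one_mem _
    · exact (h i j e).resolve_left c
  rw [h1.nf u hu, ut]
  repeat' refine mul_mem ?_ ?_
  all_goals exact k _ _ (by decide)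

/-- The exchange of the coordinates 0 and 1. -/
def sw : Fin 5 → Fin 5 := ![1, 0, 2, 3, 4]

theorem s_xe : ∀ i j : Fin 5, i < j → j ≠ 1 → s12 * pm2 (xe i j) * s12⁻¹ = pm2 (xe (sw i) j) := by
  decide +kernel

theorem en01 {u : N2} (h : u ∈ FI) : en u 0 1 = 0 := by
  change 0 + u.f 1 + (0 + u.f 0) = 0
  rw [show u.f 1 = u.f 0 from h.2 0, z2add]

theorem en34 {u : N2} (h : (u.σ 0).1 / 4 = 0) : en u 3 4 = 0 := by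
  change bit (u.σ 0) 2 = 0
  revert h; generalize u.σ 0 = a; revert a; decide

theorem en24 {u : N2} (h : u ∈ JJ) : en u 2 4 = 0 ∧ en u 3 4 = 0 ∧ en u 2 3 = 0 := by
  have h0 := mem_JJ.1 h 0
  have h4 := mem_JJ.1 h 4
  change bit (u.σ 0) 1 = 0 ∧ bit (u.σ 0) 2 = 0 ∧ bit (u.σ 4) 1 + bit (u.σ 0) 1 = 0
  revert h0 h4; generalize u.σ 0 = a; generalize u.σ 4 = b; revert a b; decide

theorem sXX (h1 : Mod1) : XX ≤ cj s12 XX := fun u hu => mem_of_en h1 hu.1 fun i j e => by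
  by_cases a : j = 1
  · obtain ⟨rfl, rfl⟩ : i = 0 ∧ j = 1 := by omega
    exact Or.inl (en01 hu.2)
  · exact Or.inr (mem_cj.2 ⟨_, by clear hu; revert i j; decide +kernel, s_xe i j e a⟩)

theorem sUU (h1 : Mod1) : UU ≤ cj s12 UU := fun u hu => mem_of_en h1 hu.1.1 fun i j e => by
  by_cases a : j = 1
  · obtain ⟨rfl, rfl⟩ : i = 0 ∧ j = 1 := by omega
    exact Or.inl (en01 hu.1.2)
  by_cases b : i = 3
  · obtain ⟨rfl, rfl⟩ : i = 3 ∧ j = 4 := by omega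
    exact Or.inl (en34 (hu.2 0))
  · exact Or.inr (mem_cj.2 ⟨_, by clear hu; revert i j; decide +kernel, s_xe i j e a⟩)

theorem sU1 (h1 : Mod1) : U1 ≤ cj s12 U1 := fun u hu => mem_of_en h1 hu.1 fun i j e => by
  by_cases a : j = 1
  · obtain ⟨rfl, rfl⟩ : i = 0 ∧ j = 1 := by omega
    exact Or.inl (en01 hu.2.2)
  by_cases b : 2 ≤ i
  · obtain ⟨rfl, rfl⟩ | ⟨rfl, rfl⟩ | ⟨rfl, rfl⟩ : i = 2 ∧ j = 4 ∨ i = 3 ∧ j = 4 ∨ i = 2 ∧ j = 3 := by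
      omega
    exacts [Or.inl (en24 hu.2.1).1, Or.inl (en24 hu.2.1).2.1, Or.inl (en24 hu.2.1).2.2]
  · exact Or.inr (mem_cj.2 ⟨_, by clear hu; revert i j; decide +kernel, s_xe i j e a⟩)

theorem wb_mem : ∀ i k, wb i k ∈ FF := by decide +kernel

theorem FF_le (h1 : Mod1) {K : Subgroup N2} (h : ∀ i k, wb i k ∈ K) : FF ≤ K := fun u hu => by
  obtain ⟨a, b, c, e, rfl⟩ := h1.nfF u hu
  exact mul_mem (mul_mem (mul_mem (h _ _) (h _ _)) (h _ _)) (h _ _)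

theorem sFF (h1 : Mod1) : FF ≤ cj s12 FF := FF_le h1 fun i k =>
  mem_cj.2 ⟨wb i (![1, 0, 2, 3] k), wb_mem _ _, by revert i k; decide +kernel⟩

theorem sYY (h1 : Mod1) : YY ≤ cj s12 YY := fun m hm => by
  obtain ⟨t, ht, u, hu, rfl⟩ := pYY m hm
  exact mul_mem (cj_mono (fun u (h : u ∈ XX) => show u ∈ YY from ⟨h.1.2, h.2⟩) (sXX h1 ht))
    (cj_mono (fun _ => FF_YY) (sFF h1 hu))

theorem s12m (h1 : Mod1) : (∀ u ∈ YY, ∃ v ∈ YY, s12 * pm2 u * s12⁻¹ = pm2 v) ∧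
    (∀ u ∈ XX, ∃ v ∈ XX, s12 * pm2 u * s12⁻¹ = pm2 v) ∧
    (∀ u ∈ FF, ∃ v ∈ FF, s12 * pm2 u * s12⁻¹ = pm2 v) ∧
    (∀ u ∈ U1, ∃ v ∈ U1, s12 * pm2 u * s12⁻¹ = pm2 v) ∧
    (∀ u ∈ UU, ∃ v ∈ UU, s12 * pm2 u * s12⁻¹ = pm2 v) :=
  ⟨fun _ h => mem_cj.1 (sYY h1 h), fun _ h => mem_cj.1 (sXX h1 h), fun _ h => mem_cj.1 (sFF h1 h),
    fun _ h => mem_cj.1 (sU1 h1 h), fun _ h => mem_cj.1 (sUU h1 h)⟩

theorem tFF (h1 : Mod1) (i : Fin 4) : FF ≤ cj (th i) FF := FF_le h1 fun j k =>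
  mem_cj.2 ⟨wb j (if j = i then ω k else k), wb_mem _ _, by revert i j k; decide +kernel⟩

theorem FF_JI (i : Fin 4) : FF ≤ JI i := fun _ h => ⟨h.1, h.2.2 _⟩

/-- The signs outside block `i`. -/
def so (i : Fin 4) (u : N2) : N2 := ⟨1, fun p => if p.1 / 2 = i.1 then 0 else u.f p⟩

theorem so_mem (i : Fin 4) (u : N2) : so i u ∈ cj (th i) (JI i) := by
  refine mem_cj.2 ⟨so i u, ⟨mem_JJ.2 fun _ => Or.inl rfl, ?_⟩, ?_⟩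
  · have k : (x 1 (pa i)).1 / 2 = i.1 ∧ (pa i).1 / 2 = i.1 := by revert i; decide
    change (if _ then _ else _) = if _ then _ else _
    rw [if_pos k.1, if_pos k.2]
  · rw [mul_inv_eq_iff_eq_mul]
    refine Equiv.ext fun ⟨p, s⟩ => ?_
    change tf i (p, s + if p.1 / 2 = i.1 then 0 else u.f p) =
      ((tf i (p, s)).1, (tf i (p, s)).2 +
        if (tf i (p, s)).1.1 / 2 = i.1 then 0 else u.f (tf i (p, s)).1)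
    by_cases h : p.1 / 2 = i.1
    · have k : (tf i (p, s)).1.1 / 2 = i.1 := by revert i p s; decide
      rw [if_pos h, if_pos k, add_zero, add_zero]
    · have k : ∀ s, tf i (p, s) = (p, s) := fun s => if_neg h
      rw [k, k]

theorem tJI (h1 : Mod1) (i : Fin 4) : JI i ≤ cj (th i) (JI i) := fun u hu => by
  have k : ∀ v ∈ FF, v ∈ cj (th i) (JI i) := fun v hv => cj_mono (FF_JI i) (tFF h1 i hv)
  have e : sg u = so i u * wb i (if u.f (pa i) = 0 then 3 else 0) := by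
    have k1 : ∀ c : ZMod 2, (wb i (if c = 0 then 3 else 0)).σ = 1 ∧
        ∀ p, (wb i (if c = 0 then 3 else 0)).f p = if p.1 / 2 = i.1 then c else 0 := by
      clear k hu; revert i; decide +kernel
    refine N2.ext (by rw [N2.mul_σ, (k1 _).1]; rfl) (funext fun p => ?_)
    rw [N2.mul_f, (k1 _).1, (k1 _).2]
    change u.f p = _ + if p.1 / 2 = i.1 then 0 else u.f p
    split_ifs with h
    · have k2 : p = pa i ∨ p = x 1 (pa i) := by clear k hu k1; revert i p; decide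
      rcases k2 with rfl | rfl
      · rw [add_zero]
      · rw [add_zero, hu.2]
    · rw [zero_add]
  rw [dec u, e]
  exact mul_mem (k _ (sec_FF hu.1)) (mul_mem (so_mem i u) (k _ (wb_mem _ _)))

theorem thm (h1 : Mod1) : ∀ i, (∀ u ∈ FF, ∃ v ∈ FF, th i * pm2 u * (th i)⁻¹ = pm2 v) ∧
    ∀ u ∈ JI i, ∃ v ∈ JI i, th i * pm2 u * (th i)⁻¹ = pm2 v := fun i =>
  ⟨fun _ h => mem_cj.1 (tFF h1 i h), fun _ h => mem_cj.1 (tJI h1 i h)⟩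

/-- The first half of the fields of `Mod2`. -/
structure Mod2a : Prop where
  le : AP ≤ EE ∧ QQ ≤ T0 ∧ QQ ≤ AE ∧ AA ≤ QQ ∧ AP ≤ QQ ∧ EE ≤ AE ∧ AE ≤ T1 ∧ T0 ≤ T1 ∧ T1 ≤ SE ∧
    QK ≤ QE ∧ PP ≤ JJ ∧ JJ ≤ S2 ∧ FF ≤ SE ∧ E1 ≤ F1 ∧ U1 ≤ F1 ∧ U1 ≤ DD ∧ VV ≤ AA ∧ VV ≤ DD ∧
    AA ≤ DD ∧ U1 ≤ UU ∧ FF ≤ YY ∧ XX ≤ YY ∧ YY ≤ SE ∧ PI ≤ U1 ∧ ∀ i, FF ≤ JI i
  nrm : ∀ m, (∀ u ∈ PP, m * u * m⁻¹ ∈ PP) ∧ (∀ u ∈ EE, m * u * m⁻¹ ∈ EE) ∧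
    (m ∈ S2 → (∀ u ∈ FF, m * u * m⁻¹ ∈ FF) ∧ ∀ u ∈ JJ, m * u * m⁻¹ ∈ JJ) ∧
    (m ∈ QK → (∀ u ∈ AA, m * u * m⁻¹ ∈ AA) ∧ ∀ u ∈ AP, m * u * m⁻¹ ∈ AP) ∧
    (m ∈ QE → (∀ u ∈ QQ, m * u * m⁻¹ ∈ QQ) ∧ ∀ u ∈ AE, m * u * m⁻¹ ∈ AE) ∧
    (m ∈ T0 → (∀ u ∈ U1, m * u * m⁻¹ ∈ U1) ∧ (∀ u ∈ DD, m * u * m⁻¹ ∈ DD) ∧
      ∀ u ∈ UU, m * u * m⁻¹ ∈ UU)
  ab : (∀ u ∈ PP, ∀ v ∈ PP, Commute u v) ∧ (∀ u ∈ FF, ∀ v ∈ FF, Commute u v) ∧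
    (∀ u ∈ AA, ∀ v ∈ AA, Commute u v) ∧ (∀ u ∈ PP, u * u = 1) ∧ (∀ u ∈ FF, u * u = 1) ∧
    (∀ u ∈ AA, u * u = 1) ∧ ∀ u, Commute u H17.Kn.z2
  gT0 : ∀ K : Subgroup N2, xe 0 1 ∈ K → xe 1 2 ∈ K → xe 2 3 ∈ K → xe 3 4 ∈ K → T0 ≤ K
  gQK : ∀ K : Subgroup N2, T0 ≤ K → xe 2 1 ∈ K → xe 3 2 ∈ K → QK ≤ K
  gPP : ∀ K : Subgroup N2, (∀ p, dl p ∈ K) → PP ≤ K
  gEE : ∀ K : Subgroup N2, (∀ p q, dl p * dl q ∈ K) → EE ≤ K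
  gFF : ∀ K : Subgroup N2, (∀ i k, wb i k ∈ K) → FF ≤ K
  gAA : ∀ K : Subgroup N2, (∀ i, xe i 4 ∈ K) → AA ≤ K
  gAP : ∀ K : Subgroup N2, (∀ j, xe 0 j ∈ K) → AP ≤ K
  gU1 : ∀ K : Subgroup N2, (∀ j, 2 ≤ j → xe 0 j ∈ K ∧ xe 1 j ∈ K) → U1 ≤ K
  gN : ∀ K : Subgroup N2, S2 ≤ K → QK ≤ K → K = ⊤
  gN7 : ∀ K : Subgroup N2, (∀ m, m.σ 7 = 7 → m ∈ K) → f0 ∈ K → K = ⊤

theorem mod2_of (h1 : Mod1) (a : Mod2a) : Mod2 :=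
  ⟨a.le, a.nrm, a.ab, a.gT0, a.gQK, a.gPP, a.gEE, a.gFF, a.gAA, a.gAP, a.gU1, a.gN, a.gN7,
    pQQ, pAE, pQE, pT1, pDD, pJJ, pYY, iSE, iS2, iPP, iFF, iF1, iXX, iT0, lVV, lPI, s12m h1, thm h1⟩

end Cfsg.Agent.H52.KnMod2b
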