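import Cfsg.Agent.H48.M2Defs

/-! S5539, piece FORM: coordinates on an ark. -/

set_option autoImplicit false

namespace Cfsg.Agent.H48.M2

open Cfsg Subgroup Cfsg.Agent.H48 Cfsg.Agent.H48.Rec Cfsg.Agent.H49 Cfsg.Agent.H95.Par
open Cfsg.Agent.H97.Gr (DD ZZ)
open Cfsg.Agent.H97.Yt (M)
open QuadraticMap Cfsg.Agent.H30

namespace FORM

theorem exists_ZZ {A : Subgroup M} (h : Ark A) : ∃ u ∈ A, u ∈ ZZ := by
  obtain ⟨u, y, ⟨θ, R, c, -⟩, rfl⟩ := h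
  have l := lx c.zz
  exact ⟨u, ⟨mem_sup_left l.mem, fun x hx => l.cen x hx.1⟩, c.zz⟩

theorem isConj_iff_ZZ {u x : M} (hu : u ∈ ZZ) : IsConj u x ↔ x ∈ ZZ :=
  ⟨fun h => by obtain ⟨g, rfl⟩ := isConj_iff.1 h; exact ZZ_cj g hu, ZZ_conj hu⟩

theorem qz_eq {u u' : M} (hu : u ∈ ZZ) (hu' : u' ∈ ZZ) (x : M) : qz u x = qz u' x := by
  have e : qz u x = 0 ↔ qz u' x = 0 := by
    rw [qz_eq_zero, qz_eq_zero, isConj_iff_ZZ hu, isConj_iff_ZZ hu']
  revert e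
  generalize qz u x = a
  generalize qz u' x = b
  revert a b
  decide

end FORM

open FORM in
theorem form_of (hS : StStmt) : FormStmt := by
  classical
  intro A hA
  obtain ⟨z, hzA, hz⟩ := exists_ZZ hA
  obtain ⟨b, θ, R, s⟩ := hS A hA z hzA hz
  have h := s.ten
  obtain ⟨ν, q, φ, n1, n2, n3, hq, hφ⟩ := h.exists_form
  have n0 : ν 0 = 1 := by simpa using n1 0 0
  have m : ∀ a, ν a ∈ A := fun a => (n3 _).2 ⟨a, rfl⟩
  have perp : ∀ a, ν a ∈ ZZ → ∀ c, ν c ∈ Qz (ν a) ↔ polar q a c = 0 := fun a ha c => by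
    obtain ⟨b', θ', R', s'⟩ := hS A hA (ν a) (m a) ha
    have e : polar q a c = if ν c ∈ Qz (ν a) then 0 else 1 := by
      rw [← s'.ten.pz_z (m c), polar, hq, hq, hq, n1, pz, qz_eq hz ha, qz_eq hz ha, qz_eq hz ha]
    rw [e]; split_ifs with c
    exacts [iff_of_true c rfl, iff_of_false c one_ne_zero]
  obtain ⟨e, he⟩ := (n3 z).1 h.zE
  have pe' : ∀ a, polar q e a = 0 ↔ ν a ∈ Qz z := fun a => by
    rw [← he]; exact (perp e (he ▸ hz) a).symm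
  have nd : (polarBilin q).Nondegenerate := nondegenerate_of_forall fun x hx => by
    by_contra x0
    have rad : ¬ ∀ y, polar q e y = 0 := fun c => by
      obtain ⟨y, hy⟩ := (n3 b).1 h.bE
      exact h.bQ (hy ▸ (pe' y).1 (c y))
    have xQ := (pe' x).1 (by rw [polar_comm, hx])
    obtain ⟨u, hu, c⟩ := h.hQ.exists_conj_eq_mul_z xQ (fun c => x0 (n2 (c.trans n0.symm)))
      fun c => rad (n2 (c.trans he.symm) ▸ hx)
    have c1 : (φ ⟨u, h.QN hu⟩).1 x = x + e := n2 (by rw [← hφ, n1, he]; exact c)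
    refine rad fun y => ?_
    have := O_polar (φ ⟨u, h.QN hu⟩) x ((φ ⟨u, h.QN hu⟩)⁻¹.1 y)
    rwa [hx, O_apply_inv, c1, polar_add_left, hx, zero_add] at this
  refine ⟨ν, q, n1, n2, n3, nd, fun a => ?_, perp⟩
  rw [hq, qz_eq_zero, isConj_iff_ZZ hz]
  exact or_congr_left ⟨fun c => n2 (c.trans n0.symm), fun c => c ▸ n0⟩

end Cfsg.Agent.H48.M2
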