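import Mathlib

/-!
Orders of `L₂(r)`, `L₃(2ⁿ)`, `U₃(2ⁿ)` of the form `9 · 2 ^ a · q ^ b`.
-/

set_option autoImplicit false

namespace Cfsg.Agent.H52.No6

variable {q a b : ℕ}

theorem cop (hq : q.Prime) {X Y M : ℕ} (h : X.Coprime Y) (hX : X ∣ M * q ^ b)
    (hY : Y ∣ M * q ^ b) : X ∣ M ∨ Y ∣ M := by
  by_cases e : q ∣ X
  · exact .inr (((h.coprime_dvd_left e).symm.pow_right b).dvd_of_dvd_mul_right hY)
  · exact .inl ((((hq.coprime_iff_not_dvd).2 e).symm.pow_right b).dvd_of_dvd_mul_right hX)

theorem odd_dvd {X M : ℕ} (h : X % 2 = 1) (hX : X ∣ M * 2 ^ a) : X ∣ M :=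
  ((Nat.coprime_two_right.2 (Nat.odd_iff.2 h)).pow_right a).dvd_of_dvd_mul_right hX

theorem two (hq : q.Prime) {N : ℕ} (hN : N ∣ 27 * 2 ^ a * q ^ b) (X Y : ℕ) (h : X.Coprime Y)
    (h1 : X % 2 = 1) (h2 : Y % 2 = 1) (h3 : ¬ X ∣ 27) (h4 : ¬ Y ∣ 27) (hX : X ∣ N) (hY : Y ∣ N) :
    False :=
  (cop hq h (hX.trans hN) (hY.trans hN)).elim (fun e => h3 (odd_dvd h1 e))
    fun e => h4 (odd_dvd h2 e)

theorem of27 {X : ℕ} (h : X ∣ 27) : X = 1 ∨ X = 3 ∨ X = 9 ∨ X = 27 := by
  have := Nat.le_of_dvd (by norm_num) h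
  interval_cases X <;> simp_all

theorem l3 (hq : q.Prime) {t : ℕ} (ht : 3 ≤ t) (ho : t % 2 = 1) :
    ¬ t * (t + 2) * (t * t + 3 * t + 3) ∣ 27 * 2 ^ a * q ^ b := fun h => by
  have c : (t + 2).Coprime (t * t + 3 * t + 3) := by
    rw [show t * t + 3 * t + 3 = 1 + (t + 1) * (t + 2) by ring, Nat.coprime_add_mul_right_right]
    exact Nat.coprime_one_right _
  have o : (t * t + 3 * t + 3) % 2 = 1 := by
    rw [Nat.add_mod, Nat.add_mod (t * t), Nat.mul_mod, Nat.mul_mod 3, ho]
  rcases cop hq c (((dvd_mul_left _ t).mul_right _).trans h) ((dvd_mul_left _ _).trans h) with e | e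
  · rcases of27 (odd_dvd (by omega) e) with e | e | e | e
    · omega
    · omega
    · obtain rfl : t = 7 := by omega
      exact two hq h 7 73 (by norm_num) rfl rfl (by norm_num) (by norm_num) (by norm_num) (by norm_num)
    · obtain rfl : t = 25 := by omega
      exact two hq h 5 19 (by norm_num) rfl rfl (by norm_num) (by norm_num) (by norm_num) (by norm_num)
  · have := Nat.le_of_dvd (by norm_num) (odd_dvd o e)
    obtain rfl : t = 3 := by by_contra; have : 5 ≤ t := by omega
                             nlinarith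
    exact absurd (odd_dvd o e) (by norm_num)

theorem u3 (hq : q.Prime) {t : ℕ} (ht : 3 ≤ t) (ho : t % 2 = 1) :
    ¬ t * (t + 2) * (t * t + t + 1) ∣ 27 * 2 ^ a * q ^ b := fun h => by
  have c : t.Coprime (t * t + t + 1) := by
    rw [show t * t + t + 1 = 1 + (t + 1) * t by ring, Nat.coprime_add_mul_right_right]
    exact Nat.coprime_one_right _
  have o : (t * t + t + 1) % 2 = 1 := by
    rw [Nat.add_mod, Nat.add_mod (t * t), Nat.mul_mod, ho]
  rcases cop hq c (((dvd_mul_right t _).mul_right _).trans h) ((dvd_mul_left _ _).trans h) with e | e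
  · rcases of27 (odd_dvd ho e) with rfl | rfl | rfl | rfl
    · omega
    · exact two hq h 5 13 (by norm_num) rfl rfl (by norm_num) (by norm_num) (by norm_num) (by norm_num)
    · exact two hq h 11 7 (by norm_num) rfl rfl (by norm_num) (by norm_num) (by norm_num) (by norm_num)
    · exact two hq h 29 757 (by norm_num) rfl rfl (by norm_num) (by norm_num) (by norm_num)
        (by norm_num)
  · have := Nat.le_of_dvd (by norm_num) (odd_dvd o e)
    obtain rfl : t = 3 := by by_contra; have : 5 ≤ t := by omega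
                             nlinarith
    exact absurd (odd_dvd o e) (by norm_num)

theorem l2 (hq : q.Prime) {t : ℕ} (ht : 1 ≤ t) (h : t * (t + 1) * (t + 2) ∣ 9 * 2 ^ a * q ^ b)
    (h9 : 9 ∣ t * (t + 1) * (t + 2)) : t = 7 ∨ t = 8 ∨ t = 16 := by
  have h' : t * (t + 1) * (t + 2) ∣ 27 * 2 ^ a * q ^ b :=
    h.trans (Nat.mul_dvd_mul_right (Nat.mul_dvd_mul_right (by norm_num) _) _)
  have d0 := ((dvd_mul_right t _).mul_right _).trans h
  have d1 := ((dvd_mul_left _ t).mul_right _).trans h
  have d2 := (dvd_mul_left _ _).trans h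
  have of9 : ∀ X, X % 2 = 1 → X ∣ 9 * 2 ^ a → X = 1 ∨ X = 3 ∨ X = 9 := fun X h1 h2 => by
    have h3 := odd_dvd h1 h2
    have := Nat.le_of_dvd (by norm_num) h3
    interval_cases X <;> simp_all
  rcases Nat.mod_two_eq_zero_or_one t with ho | ho
  · have c1 : (t + 1).Coprime t := by simp
    have c2 : (t + 1).Coprime (t + 2) := by simp [show t + 2 = t + 1 + 1 from rfl]
    have k : ¬ (t + 1 ∣ 9 * 2 ^ a) ∨ t = 8 := by
      refine or_iff_not_imp_left.2 fun e => ?_
      rcases of9 _ (by omega) (not_not.1 e) with e | e | e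
      · omega
      · obtain rfl : t = 2 := by omega
        omega
      · omega
    rcases k with k | k
    swap
    · omega
    have e0 := (cop hq c1 d1 d0).resolve_left k
    have e2 := (cop hq c2 d1 d2).resolve_left k
    obtain ⟨u, rfl⟩ : ∃ u, t = 2 * u := ⟨t / 2, by omega⟩
    rcases Nat.mod_two_eq_zero_or_one u with hu | hu
    · rcases of9 (u + 1) (by omega) (Dvd.dvd.trans ⟨2, by ring⟩ e2) with e | e | e
      · omega
      · obtain rfl : u = 2 := by omega
        omega
      · omega
    · rcases of9 u hu (Dvd.dvd.trans ⟨2, by ring⟩ e0) with rfl | rfl | rfl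
      · omega
      · omega
      · exact (two hq h' 5 19 (by norm_num) rfl rfl (by norm_num) (by norm_num) (by norm_num)
          (by norm_num)).elim
  · have c : t.Coprime (t + 2) := by
      simpa using Nat.coprime_two_right.2 (Nat.odd_iff.2 ho)
    rcases cop hq c d0 d2 with e | e
    · rcases of9 _ ho e with rfl | rfl | rfl
      · omega
      · omega
      · exact (two hq h' 5 11 (by norm_num) rfl rfl (by norm_num) (by norm_num) (by norm_num)
          (by norm_num)).elim
    · rcases of9 _ (by omega) e with e | e | e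
      · omega
      · obtain rfl : t = 1 := by omega
        omega
      · omega

end Cfsg.Agent.H52.No6
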