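import Mathlib
import Cfsg.Agent.H62.CITBasic
import Cfsg.Agent.H8.GoldBasic
import Cfsg.Agent.H87.Transfer
import Cfsg.Agent.H52.DGrp
import Cfsg.Agent.H63.Constt
import Cfsg.Agent.S1221

/-! Groups in which every nontrivial subgroup of a cyclic group of even order has the normalizer
of the cyclic group: the centralizers of involutions. -/

set_option autoImplicit false

namespace Cfsg.Agent.H52.NC

open Subgroup Cfsg Cfsg.Agent.H63 Cfsg.Agent.H67
open Cfsg.Agent.H62 (Is2)

variable {G : Type*} [Group G]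

/-- The hypothesis, elementwise. -/
def HC (G : Type*) [Group G] : Prop :=
  ∀ x y g : G, Even (orderOf x) → y ∈ zpowers x → y ≠ 1 → g * y * g⁻¹ ∈ zpowers y →
    g * x * g⁻¹ ∈ zpowers x

theorem HC.of_injective {H : Type*} [Group H] (h : HC G) (f : H →* G) (hf : Function.Injective f) :
    HC H := by
  intro x y g hx hy h1 hg
  have h2 := h (f x) (f y) (f g) (by rwa [orderOf_injective f hf]) ?_
    (fun e => h1 (hf (by rw [e, map_one]))) ?_
  · obtain ⟨k, hk⟩ := h2
    refine ⟨k, hf ?_⟩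
    simpa using hk
  · obtain ⟨k, rfl⟩ := hy
    exact ⟨k, by simp⟩
  · obtain ⟨k, hk⟩ := hg
    refine ⟨k, ?_⟩
    have := congrArg f hk
    simpa using this

theorem conj_mem_zpowers {g x y : G} (h : g * x * g⁻¹ ∈ zpowers x) (hy : y ∈ zpowers x) :
    g * y * g⁻¹ ∈ zpowers x := by
  obtain ⟨k, rfl⟩ := hy
  have := zpow_mem h k
  rwa [conj_zpow] at this

theorem conj_eq_of_comm {g x : G} (h : g * x = x * g) : g * x * g⁻¹ = x := by
  rw [h, mul_inv_cancel_right]

theorem comm_of_conj_eq {g x : G} (h : g * x * g⁻¹ = x) : g * x = x * g :=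
  mul_inv_eq_iff_eq_mul.1 h

theorem comm_conj {g x y : G} (h : x * y = y * x) :
    g * x * g⁻¹ * (g * y * g⁻¹) = g * y * g⁻¹ * (g * x * g⁻¹) := by
  calc _ = g * (x * y) * g⁻¹ := by group
    _ = g * (y * x) * g⁻¹ := by rw [h]
    _ = _ := by group

theorem comm_of_comm_conj {g x y : G}
    (h : g * x * g⁻¹ * (g * y * g⁻¹) = g * y * g⁻¹ * (g * x * g⁻¹)) : x * y = y * x := by
  have := comm_conj (g := g⁻¹) h
  simpa [mul_assoc] using this

theorem comm_mul {x y z : G} (h1 : x * z = z * x) (h2 : y * z = z * y) : x * y * z = z * (x * y) := by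
  rw [mul_assoc, h2, ← mul_assoc, h1, mul_assoc]

theorem comm_inv {x z : G} (h1 : x * z = z * x) : x⁻¹ * z = z * x⁻¹ :=
  (Commute.inv_left h1).eq

theorem comm_of_inv_inv {x y a : G} (h1 : x * a * x⁻¹ = a⁻¹) (h2 : y * a * y⁻¹ = a⁻¹) :
    x * y * a = a * (x * y) := by
  apply comm_of_conj_eq
  calc x * y * a * (x * y)⁻¹ = x * (y * a * y⁻¹) * x⁻¹ := by group
    _ = (x * a * x⁻¹)⁻¹ := by rw [h2]; group
    _ = a := by rw [h1, inv_inv]

theorem sq_mul {x y : G} (hx : x * x = 1) (hy : y * y = 1) (h : x * y = y * x) :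
    x * y * (x * y) = 1 := by
  calc x * y * (x * y) = x * (y * x) * y := by group
    _ = (x * x) * (y * y) := by rw [← h]; group
    _ = 1 := by rw [hx, hy, one_mul]

theorem is2_of_mem_zpowers {x y : G} (hx : Is2 x) (hy : y ∈ zpowers x) : Is2 y :=
  H62.is2_of_mem hx.isPGroup_zpowers hy

theorem odd_of_mem_zpowers {x y : G} (hx : Odd (orderOf x)) (hy : y ∈ zpowers x) :
    Odd (orderOf y) :=
  hx.of_dvd_nat (orderOf_dvd_of_mem_zpowers hy)

theorem comm_of_norm {x b : G} (hx : Is2 x) (hb : Odd (orderOf b)) (h1 : x * b * x⁻¹ ∈ zpowers b)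
    (h2 : b * x * b⁻¹ ∈ zpowers x) : x * b = b * x := by
  have h3 : x * b * x⁻¹ * b⁻¹ ∈ zpowers b := mul_mem h1 (inv_mem (mem_zpowers b))
  have h4 : x * b * x⁻¹ * b⁻¹ ∈ zpowers x := by
    have e : x * b * x⁻¹ * b⁻¹ = x * (b * x * b⁻¹)⁻¹ := by group
    rw [e]; exact mul_mem (mem_zpowers x) (inv_mem h2)
  have h5 := H62.eq_one_of_odd_of_is2 (odd_of_mem_zpowers hb h3) (is2_of_mem_zpowers hx h4)
  rwa [mul_inv_eq_one, mul_inv_eq_iff_eq_mul] at h5

theorem exists_invol {y : G} (h : Is2 y) (h1 : y ≠ 1) : ∃ s ∈ zpowers y, orderOf s = 2 := by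
  obtain ⟨n, h2, h3⟩ := h.exists_invol h1
  exact ⟨y ^ n, pow_mem (mem_zpowers y) n, H62.orderOf_two_of_sq h2 h3⟩

theorem HC.norm_of_comm (h : HC G) {s x g : G} (hs : orderOf s = 2) (hsx : s ∈ zpowers x)
    (hg : g * s = s * g) : g * x * g⁻¹ ∈ zpowers x := by
  refine h x s g ?_ hsx (H62.ne_one_of_orderOf_two hs) ?_
  · exact even_iff_two_dvd.2 (hs ▸ orderOf_dvd_of_mem_zpowers hsx)
  · rw [conj_eq_of_comm hg]; exact mem_zpowers s

theorem mem_zpowers_mul {t a : G} (ht : orderOf t = 2) (ha : Odd (orderOf a)) (hc : t * a = a * t) :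
    t ∈ zpowers (t * a) ∧ a ∈ zpowers (t * a) := by
  have h1 : t ∈ zpowers (t * a) := by
    have h2 : (t * a) ^ orderOf a = t := by
      rw [Commute.mul_pow hc, pow_orderOf_eq_one, mul_one]
      obtain ⟨k, hk⟩ := ha
      rw [hk, pow_succ, pow_mul, ← ht, pow_orderOf_eq_one, one_pow, one_mul]
    have h3 := pow_mem (mem_zpowers (t * a)) (orderOf a)
    rwa [h2] at h3
  refine ⟨h1, ?_⟩
  have := mul_mem (inv_mem h1) (mem_zpowers (t * a))
  rwa [inv_mul_cancel_left] at this

theorem four_cases {x y : G} (hx : x * x * (x * x) = 1) (h1 : x * x ≠ 1) (hy : y ∈ zpowers x)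
    (h2 : y * y = x * x) : y = x ∨ y = x * (x * x) := by
  obtain ⟨k, rfl⟩ := hy
  have h4 : x ^ (4 : ℤ) = 1 := by
    rw [← hx, zpow_ofNat]; simp only [pow_succ, pow_zero, one_mul, mul_assoc]
  have e : ∀ j r : ℤ, x ^ (4 * j + r) = x ^ r := fun j r => by
    rw [zpow_add, zpow_mul, h4, one_zpow, one_mul]
  obtain ⟨j, hj | hj | hj | hj⟩ : ∃ j : ℤ, k = 4 * j + 0 ∨ k = 4 * j + 1 ∨ k = 4 * j + 2 ∨
      k = 4 * j + 3 := ⟨k / 4, by omega⟩
  · simp only [hj, e] at h2
    exact absurd (by rw [← h2]; group) h1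
  · left; simp only [hj, e, zpow_one]
  · simp only [hj, e] at h2
    exact absurd (by rw [← h2, ← h4]; group) h1
  · right; simp only [hj, e, zpow_ofNat, pow_succ, pow_zero, one_mul, mul_assoc]

theorem exists_parts [Finite G] (y : G) :
    ∃ u ∈ zpowers y, ∃ b ∈ zpowers y, Is2 u ∧ Odd (orderOf b) ∧ y = u * b := by
  refine ⟨constt {2} y, constt_mem_zpowers _ y, constt ({2}ᶜ : Set ℕ) y, constt_mem_zpowers _ y,
    ?_, ?_, (consttC _ y).symm⟩
  · obtain ⟨k, hk⟩ := (piNat_singleton_iff Nat.prime_two (orderOf_pos _).ne').1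
      (piElt_constt {2} y)
    exact H62.is2_of_orderOf hk
  · exact Nat.coprime_two_right.1
      ((piNat_compl_singleton_iff_coprime Nat.prime_two).1 (piElt_constt _ y))

/-- An involution `t` commuting with a nontrivial element `a` of odd order. -/
structure St (t a : G) : Prop where
  hc : HC G
  ht : orderOf t = 2
  ha : Odd (orderOf a)
  ha1 : a ≠ 1
  comm : t * a = a * t

namespace St

variable {t a : G}

theorem tt (h : St t a) : t * t = 1 := H62.sq_of_orderOf_two h.ht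

theorem conj (h : St t a) (g : G) : St (g * t * g⁻¹) (g * a * g⁻¹) :=
  ⟨h.hc, by rw [orderOf_conj', h.ht], by rw [orderOf_conj']; exact h.ha,
    fun e => h.ha1 (by simpa using e), comm_conj h.comm⟩

theorem conj_odd' (hc : HC G) (ht : orderOf t = 2) (ha : Odd (orderOf a)) (hta : t * a = a * t)
    {g : G} (hg : g * t = t * g) : g * a * g⁻¹ ∈ zpowers a := by
  obtain ⟨h1, h2⟩ := mem_zpowers_mul ht ha hta
  obtain ⟨k, hk⟩ := conj_mem_zpowers (hc.norm_of_comm ht h1 hg) h2
  refine H62.mem_of_sq_mem_of_odd (H62.odd_orderOf_conj ha g) ?_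
  have h3 : (t * a) ^ k * (t * a) ^ k = (a * a) ^ k := by
    rw [← (Commute.refl (t * a)).mul_zpow]
    congr 1
    calc t * a * (t * a) = t * (a * t) * a := by group
      _ = (t * t) * (a * a) := by rw [← hta]; group
      _ = a * a := by rw [H62.sq_of_orderOf_two ht, one_mul]
  have hk' : (t * a) ^ k = g * a * g⁻¹ := hk
  rw [← hk', h3]
  exact zpow_mem (mul_mem (mem_zpowers a) (mem_zpowers a)) k

theorem conj_odd (h : St t a) {b g : G} (hb : Odd (orderOf b)) (hbt : b * t = t * b)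
    (hg : g * t = t * g) : g * b * g⁻¹ ∈ zpowers b := conj_odd' h.hc h.ht hb hbt.symm hg

variable [Finite G]

theorem iff (h : St t a) {g : G} : g * t = t * g ↔ g * a * g⁻¹ ∈ zpowers a := by
  refine ⟨h.conj_odd h.ha h.comm.symm, fun hg => ?_⟩
  obtain ⟨h1, h2⟩ := mem_zpowers_mul h.ht h.ha h.comm
  have h3 := h.hc (t * a) a g
    (even_iff_two_dvd.2 (h.ht ▸ orderOf_dvd_of_mem_zpowers h1)) h2 h.ha1 hg
  exact comm_of_conj_eq (eq_of_mem_zpowers_of_orderOf_two (conj_mem_zpowers h3 h1) h1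
    (by rw [orderOf_conj', h.ht]) h.ht)

theorem of_comm_a (h : St t a) {g : G} (hg : g * a = a * g) : g * t = t * g :=
  h.iff.2 (by rw [conj_eq_of_comm hg]; exact mem_zpowers a)

theorem same (h : St t a) {s : G} (hs : orderOf s = 2) (hsa : s * a = a * s) {g : G} :
    g * s = s * g ↔ g * t = t * g :=
  (St.mk h.hc hs h.ha h.ha1 hsa).iff.trans h.iff.symm

theorem cent_of_sq (h : St t a) {s : G} (hs : s * s = 1) (hsa : s * a = a * s) {g : G}
    (hg : g * t = t * g) : g * s = s * g := by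
  by_cases h1 : s = 1
  · rw [h1, mul_one, one_mul]
  · exact (h.same (H62.orderOf_two_of_sq hs h1) hsa).2 hg

theorem two_norm (h : St t a) {x g : G} (hx : Is2 x) (hxa : x * a = a * x) (hg : g * t = t * g) :
    g * x * g⁻¹ ∈ zpowers x := by
  by_cases h1 : x = 1
  · rw [h1]; simp
  · obtain ⟨s, hs, hs2⟩ := exists_invol hx h1
    exact h.hc.norm_of_comm hs2 hs
      ((h.same hs2 (commute_of_mem_zpowers_of_commute hxa.symm hs).symm).2 hg)

theorem pow_eq_one (h : St t a) {x y : G} (hxt : x * t = t * x) (hx : Is2 x) (hxa : x * a ≠ a * x)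
    (hy : y ∈ zpowers x) (hya : y * a = a * y) : y = 1 := by
  by_contra h1
  obtain ⟨s, hs, hs2⟩ := exists_invol (is2_of_mem_zpowers hx hy) h1
  have hsa : a * s = s * a := commute_of_mem_zpowers_of_commute hya.symm hs
  exact hxa (comm_of_norm hx h.ha (h.iff.1 hxt)
    (h.hc.norm_of_comm hs2 (zpowers_le.2 hy hs) hsa))

theorem inv (h : St t a) {w b : G} (hwt : w * t = t * w) (hw : w * w = 1) (hwa : w * a ≠ a * w)
    (hb : Odd (orderOf b)) (hbt : b * t = t * b) : w * b * w⁻¹ = b⁻¹ := by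
  have hw1 : w ≠ 1 := fun e => hwa (by rw [e, mul_one, one_mul])
  have h1 := h.conj_odd hb hbt hwt
  have h2 : b * (w * b * w⁻¹) ∈ zpowers b := mul_mem (mem_zpowers b) h1
  by_contra hne
  have h3 : b * (w * b * w⁻¹) ≠ 1 := fun e => hne (eq_inv_of_mul_eq_one_right e)
  have h4 : w * (b * (w * b * w⁻¹)) = b * (w * b * w⁻¹) * w := by
    rw [commute_of_mem_zpowers (mem_zpowers b) h1]
    nth_rewrite 2 [commute_of_mem_zpowers h1 (mem_zpowers b)]
    calc w * (w * b * w⁻¹ * b) = (w * w) * b * w⁻¹ * b := by group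
      _ = b * w * b * (w * w)⁻¹ * (w * w) := by rw [hw, H62.inv_eq_of_sq hw]; group
      _ = b * w * b := by group
      _ = b * (w * b * w⁻¹) * w := by group
  have h5 : St t (b * (w * b * w⁻¹)) := ⟨h.hc, h.ht, odd_of_mem_zpowers hb h2, h3,
    commute_of_mem_zpowers_of_commute hbt.symm h2⟩
  exact hwa ((h5.same (H62.orderOf_two_of_sq hw hw1) h4).2 h.comm.symm).symm

theorem inv_a (h : St t a) {w : G} (hwt : w * t = t * w) (hw : w * w = 1) (hwa : w * a ≠ a * w) :
    w * a * w⁻¹ = a⁻¹ := h.inv hwt hw hwa h.ha h.comm.symm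

theorem inv_two (h : St t a) {w u : G} (hwt : w * t = t * w) (hw : w * w = 1) (hwa : w * a ≠ a * w)
    (hu : Is2 u) (hua : u * a = a * u) : w * u * w⁻¹ = u⁻¹ := by
  have h1 : w * u * (w * u) ∈ zpowers u := by
    have e : w * u * (w * u) = w * u * w⁻¹ * u := by rw [H62.inv_eq_of_sq hw]; group
    rw [e]; exact mul_mem (h.two_norm hu hua hwt) (mem_zpowers u)
  have h2 : w * u * a ≠ a * (w * u) := by
    intro e
    apply hwa
    have := comm_mul e (comm_inv hua)
    simpa using this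
  have h3 := h.pow_eq_one (comm_mul hwt (h.of_comm_a hua)) (is2_of_mem_zpowers hu h1).of_sq h2
    (mul_mem (mem_zpowers _) (mem_zpowers _))
    (commute_of_mem_zpowers_of_commute hua.symm h1).symm
  rw [H62.inv_eq_of_sq hw, eq_inv_iff_mul_eq_one, ← h3]; group

theorem two_mem (h : St t a) {s : G} (hs : Is2 s) (hn : s ∈ N[C1[t]]) : s * t = t * s := by
  by_contra hst
  obtain ⟨n, h1, h2⟩ := hs.exists_pow_sq_mem (H := C1[t])
    (fun e => hst (mem_centralizer_singleton_iff.1 e))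
  set r := s ^ n with hr
  have hrn : r ∈ N[C1[t]] := pow_mem hn n
  rw [mem_centralizer_singleton_iff] at h1 h2
  have h3 : r * t * r⁻¹ * t = t * (r * t * r⁻¹) :=
    mem_centralizer_singleton_iff.1
      (conj_mem_of_mem_normalizer hrn (mem_centralizer_singleton_self t))
  have h4 : r * t * r⁻¹ * a = a * (r * t * r⁻¹) := by
    have h5 : r⁻¹ * a * r * t = t * (r⁻¹ * a * r) := mem_centralizer_singleton_iff.1
      (conj_mem_of_mem_normalizer' hrn (mem_centralizer_singleton_iff.2 h.comm.symm))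
    have := comm_conj (g := r) h5
    simpa [mul_assoc] using this.symm
  have h5 : r * t * r⁻¹ * (r * t * r⁻¹) = 1 := (h.conj r).tt
  have h6 : t * (r * t * r⁻¹) ≠ 1 := by
    intro e
    apply h1
    have := eq_inv_of_mul_eq_one_right e
    rw [H62.inv_eq_of_sq h.tt] at this
    exact comm_of_conj_eq this
  refine h1 ((h.same (H62.orderOf_two_of_sq (sq_mul h.tt h5 h3.symm) h6)
    (comm_mul h.comm h4)).1 (comm_of_conj_eq ?_))
  calc r * (t * (r * t * r⁻¹)) * r⁻¹ = r * t * r⁻¹ * (r * r * t * (r * r)⁻¹) := by group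
    _ = r * t * r⁻¹ * t := by rw [conj_eq_of_comm h2]
    _ = _ := h3

theorem mem_norm_of_same (h : St t a) {g s : G} (hs : orderOf s = 2) (hsa : s * a = a * s)
    (hga : g * s * g⁻¹ * a = a * (g * s * g⁻¹)) : g ∈ N[C1[t]] := by
  refine mem_normalizer_of_cj_le (cj_le_iff.2 fun x hx => ?_)
  rw [mem_centralizer_singleton_iff] at hx ⊢
  exact (h.same (by rw [orderOf_conj', hs]) hga).1 (comm_conj ((h.same hs hsa).2 hx))

/-- If no involution inverts `a` then `N(C(t))` is strongly embedded. -/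
theorem mem_core (h : St t a) (hall : ∀ w : G, w * w = 1 → w * t = t * w → w * a = a * w) :
    a ∈ pPrimeCore 2 G := by
  have h1 : a ∈ O[({2}ᶜ : Set ℕ)](N[C1[t]]) := by
    refine piCoreOf_le_of_normalIn (normalIn_normalizer _) (le_piCoreOf (N := zpowers a)
      ⟨zpowers_le.2 (mem_centralizer_singleton_iff.2 h.comm.symm), fun g hg => ?_⟩ ?_
      (mem_zpowers a))
    · exact H62.mem_normalizer_of_forall fun u hu =>
        conj_mem_zpowers (h.iff.1 (mem_centralizer_singleton_iff.1 hg)) hu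
    · exact isPi_zpowers_iff.2 ((piNat_compl_singleton_iff_coprime Nat.prime_two).2
        (Nat.coprime_two_right.2 h.ha))
  by_cases htop : N[C1[t]] = ⊤
  · rw [htop, ← pPrimeCore_eq_top_form Nat.prime_two] at h1
    exact h1
  · rw [← map_pPrimeCore_subtype Nat.prime_two] at h1
    refine S1221.result _ ⟨htop, ?_, fun g hg => ?_⟩ h1
    · exact even_iff_two_dvd.2 (h.ht ▸ orderOf_dvd_card_of_mem
        (le_normalizer (mem_centralizer_singleton_self t)))
    · by_contra hodd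
      obtain ⟨s, hs, hs2⟩ := exists_orderOf_eq_prime Nat.prime_two
        (even_iff_two_dvd.1 (Nat.not_odd_iff_even.1 hodd))
      obtain ⟨r, hr, rfl⟩ := mem_cj'.1 hs.2
      have hr2 : orderOf r = 2 := by rwa [orderOf_conj'] at hs2
      have k : ∀ s : G, orderOf s = 2 → s ∈ N[C1[t]] → s * a = a * s := fun s h2 hn =>
        hall s (H62.sq_of_orderOf_two h2)
          (h.two_mem (H62.is2_of_sq (H62.sq_of_orderOf_two h2)) hn)
      exact hg (h.mem_norm_of_same hr2 (k r hr2 hr) (k _ hs2 hs.1))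

end St

end Cfsg.Agent.H52.NC
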