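import Mathlib
import Cfsg.Agent.H52.NormCyc

/-! The case of an involution commuting with a nontrivial element of odd order: there is a
self-centralizing four-group. -/

set_option autoImplicit false

namespace Cfsg.Agent.H52.NC

open Subgroup Cfsg Cfsg.Agent.H63 Cfsg.Agent.H67
open Cfsg.Agent.H62 (Is2)

variable {G : Type*} [Group G]

/-- An element `x` of order four of `C(t)` whose square inverts `a`. -/
structure St4 (t a x : G) : Prop extends St t a where
  hp : (orderOf a).Prime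
  xt : x * t = t * x
  x4 : x * x * (x * x) = 1
  xa : x * x * a ≠ a * (x * x)

theorem conj_sq (g x : G) : g * x * g⁻¹ * (g * x * g⁻¹) = g * (x * x) * g⁻¹ := by group

namespace St4

variable {t a x : G}

theorem conj (h : St4 t a x) (g : G) : St4 (g * t * g⁻¹) (g * a * g⁻¹) (g * x * g⁻¹) where
  toSt := h.toSt.conj g
  hp := by rw [orderOf_conj']; exact h.hp
  xt := comm_conj h.xt
  x4 := by rw [conj_sq, conj_sq, h.x4]; group
  xa := by rw [conj_sq]; exact fun e => h.xa (comm_of_comm_conj e)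

theorem w1 (h : St4 t a x) : x * x ≠ 1 := fun e => h.xa (by rw [e, mul_one, one_mul])

theorem w2 (h : St4 t a x) : orderOf (x * x) = 2 := H62.orderOf_two_of_sq h.x4 h.w1

theorem wt (h : St4 t a x) : x * x * t = t * (x * x) := comm_mul h.xt h.xt

variable [Finite G]

theorem sq_eq_one (h : St4 t a x) {u : G} (hu : Is2 u) (hua : u * a = a * u) : u * u = 1 := by
  obtain ⟨m, hm⟩ := h.two_norm hu hua h.xt
  have hm' : u ^ m = x * u * x⁻¹ := hm
  have h1 := h.inv_two h.wt h.x4 h.xa hu hua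
  have h2 : u ^ (m * m + 1) = 1 := by
    rw [zpow_add, zpow_mul, hm', conj_zpow, hm', zpow_one, ← eq_inv_iff_mul_eq_one, ← h1]; group
  have h3 := orderOf_dvd_iff_zpow_eq_one.2 h2
  obtain ⟨k, hk⟩ := hu.orderOf
  rw [← pow_two, ← orderOf_dvd_iff_pow_eq_one, hk]
  rcases k with _ | _ | k
  · simp
  · simp
  · exfalso
    rw [hk] at h3
    have h4 : (4 : ℤ) ∣ m * m + 1 := Dvd.dvd.trans ⟨2 ^ k, by push_cast; ring⟩ h3
    have h5 : m % 4 = 0 ∨ m % 4 = 1 ∨ m % 4 = 2 ∨ m % 4 = 3 := by omega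
    have h6 := Int.emod_eq_zero_of_dvd h4
    rcases h5 with h5 | h5 | h5 | h5 <;> simp [Int.add_emod, Int.mul_emod, h5] at h6

omit [Finite G] in
theorem xt_sq (h : St4 t a x) : x * t * (x * t) = x * x := by
  calc x * t * (x * t) = x * (t * x) * t := by group
    _ = x * x * (t * t) := by rw [← h.xt]; group
    _ = x * x := by rw [h.tt, mul_one]

omit [Finite G] in
theorem conj_x (h : St4 t a x) {g : G} (hg : g * (x * x) = x * x * g) :
    (g * x * g⁻¹ = x ∨ g * x * g⁻¹ = x * (x * x)) ∧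
      (g * (x * t) * g⁻¹ = x * t ∨ g * (x * t) * g⁻¹ = x * t * (x * x)) := by
  constructor
  · refine four_cases h.x4 h.w1
      (h.hc.norm_of_comm h.w2 (mul_mem (mem_zpowers x) (mem_zpowers x)) hg) ?_
    rw [conj_sq, conj_eq_of_comm hg]
  · have := four_cases (x := x * t) (y := g * (x * t) * g⁻¹) (by rw [h.xt_sq, h.x4])
      (by rw [h.xt_sq]; exact h.w1)
      (h.hc.norm_of_comm h.w2 (by
        rw [← h.xt_sq]; exact mul_mem (mem_zpowers _) (mem_zpowers _)) hg)
      (by rw [conj_sq, h.xt_sq, conj_eq_of_comm hg])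
    rwa [h.xt_sq] at this

omit [Finite G] in
theorem conj_t (h : St4 t a x) {g : G} (hg : g * (x * x) = x * x * g) :
    g * t * g⁻¹ = t ∨ g * t * g⁻¹ = x * x * t := by
  have e : g * t * g⁻¹ = (g * x * g⁻¹)⁻¹ * (g * (x * t) * g⁻¹) := by group
  have hw := H62.inv_eq_of_sq h.x4
  obtain ⟨h1 | h1, h2 | h2⟩ := h.conj_x hg <;> rw [e, h1, h2]
  · left; group
  · right; rw [h.wt]; group
  · right; rw [mul_inv_rev, hw]; group
  · left
    calc (x * (x * x))⁻¹ * (x * t * (x * x)) = (x * x)⁻¹ * (t * (x * x)) := by group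
      _ = t := by rw [← h.wt]; group

omit [Finite G] in
theorem sq_comm (h : St4 t a x) {g : G} (hg : g * (x * x) = x * x * g) :
    g * g * t = t * (g * g) := by
  rcases h.conj_t hg with h1 | h1
  · exact comm_mul (comm_of_conj_eq h1) (comm_of_conj_eq h1)
  · apply comm_of_conj_eq
    calc g * g * t * (g * g)⁻¹ = g * (g * t * g⁻¹) * g⁻¹ := by group
      _ = g * (x * x * t) * g⁻¹ := by rw [h1]
      _ = g * (x * x) * g⁻¹ * (g * t * g⁻¹) := by group
      _ = x * x * (x * x) * t := by rw [h1, conj_eq_of_comm hg]; group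
      _ = t := by rw [h.x4, one_mul]

theorem odd_eq_one (h : St4 t a x) {b : G} (hb : Odd (orderOf b))
    (hg : b * (x * x) = x * x * b) : b = 1 := by
  have h1 : b ∈ C1[t] :=
    H62.mem_of_sq_mem_of_odd hb (mem_centralizer_singleton_iff.2 (h.sq_comm hg))
  exact eq_one_of_odd_of_inverts_of_commute hb
    (h.inv h.wt h.x4 h.xa hb (mem_centralizer_singleton_iff.1 h1)) hg.symm

theorem key (h : St4 t a x) {g : G} (hw : g * (x * x) * g⁻¹ * (x * x) = x * x * (g * (x * x) * g⁻¹))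
    (ht : g * (x * x) * g⁻¹ * t = t * (g * (x * x) * g⁻¹)) : g * (x * x) * g⁻¹ = x * x := by
  have h' := h.conj g
  have hv4 := h'.x4
  have hva' := h'.xa
  have hvt' := h'.wt
  rw [conj_sq] at hv4 hva' hvt'
  set v := g * (x * x) * g⁻¹ with hv
  have hva : v * a ≠ a * v := fun e => h.ha1 (h'.odd_eq_one h.ha (by rw [conj_sq]; exact e.symm))
  have h1 := h.inv_a ht hv4 hva
  have h2 := h.inv_a h.wt h.x4 h.xa
  have hz := sq_mul h.x4 hv4 hw.symm
  have hza := comm_of_inv_inv h2 h1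
  by_contra hne
  have hz1 : x * x * v ≠ 1 := fun e => hne (by
    rw [eq_inv_of_mul_eq_one_right e, H62.inv_eq_of_sq h.x4])
  have hz2 := H62.orderOf_two_of_sq hz hz1
  have hxv : x * v = v * x := by
    have h3 := (h.same hz2 hza).2 h.xt
    have e : v = (x * x)⁻¹ * (x * x * v) := by group
    rw [e]
    exact (comm_mul (comm_inv (by group)) h3.symm).symm
  have hwt' := h'.sq_comm (g := x) (by rw [conj_sq]; exact hxv)
  have hwa' : x * x * (g * a * g⁻¹) ≠ g * a * g⁻¹ * (x * x) := fun e =>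
    h'.ha1 (h.odd_eq_one h'.ha e.symm)
  have hza' := comm_of_inv_inv (h'.inv_a hwt' h.x4 hwa') (h'.inv_a hvt' hv4 hva')
  have hx't : g * x * g⁻¹ * t = t * (g * x * g⁻¹) :=
    (h.same hz2 hza).1 ((h'.same hz2 hza').2 h'.xt)
  set x' := g * x * g⁻¹ with hx'
  have hvx : v = x' * x' := (conj_sq g x).symm
  obtain ⟨i, hi⟩ := h.iff.1 h.xt
  obtain ⟨j, hj⟩ := h.iff.1 hx't
  have hi' : a ^ i = x * a * x⁻¹ := hi
  have hj' : a ^ j = x' * a * x'⁻¹ := hj
  have hii : a ^ (i * i) = a⁻¹ := by rw [zpow_mul, hi', conj_zpow, hi', ← h2]; group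
  have hjj : a ^ (j * j) = a⁻¹ := by rw [zpow_mul, hj', conj_zpow, hj', ← h1, hvx]; group
  have hd : (orderOf a : ℤ) ∣ (i - j) * (i + j) := by
    rw [orderOf_dvd_iff_zpow_eq_one, show (i - j) * (i + j) = i * i - j * j by ring, zpow_sub,
      hii, hjj, mul_inv_cancel]
  obtain ⟨x₁, hx₁, hx₁t, hy⟩ : ∃ x₁ : G, x₁ * x₁ = x * x ∧ x₁ * t = t * x₁ ∧
      x₁⁻¹ * x' * a = a * (x₁⁻¹ * x') := by
    rcases (Nat.prime_iff_prime_int.1 h.hp).dvd_or_dvd hd with h3 | h3
    · refine ⟨x, rfl, h.xt, comm_of_conj_eq ?_⟩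
      rw [orderOf_dvd_iff_zpow_eq_one, zpow_sub, mul_inv_eq_one, hi', hj'] at h3
      calc x⁻¹ * x' * a * (x⁻¹ * x')⁻¹ = x⁻¹ * (x' * a * x'⁻¹) * x := by group
        _ = a := by rw [← h3]; group
    · refine ⟨x⁻¹, by rw [← mul_inv_rev, H62.inv_eq_of_sq h.x4], comm_inv h.xt,
        comm_of_conj_eq ?_⟩
      rw [orderOf_dvd_iff_zpow_eq_one, zpow_add, mul_eq_one_iff_inv_eq, hi', hj'] at h3
      calc x⁻¹⁻¹ * x' * a * (x⁻¹⁻¹ * x')⁻¹ = x * (x' * a * x'⁻¹) * x⁻¹ := by group
        _ = (x * x * a * (x * x)⁻¹)⁻¹ := by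
          rw [← h3]; simp only [mul_inv_rev, inv_inv, mul_assoc]
        _ = a := by rw [h2, inv_inv]
  obtain ⟨u, hu, b, hb, hu2, hbo, hub⟩ := exists_parts (x₁⁻¹ * x')
  have hua : u * a = a * u := (commute_of_mem_zpowers_of_commute hy.symm hu).symm
  have hbt : b * t = t * b := h.of_comm_a (commute_of_mem_zpowers_of_commute hy.symm hb).symm
  have huu := h.sq_eq_one hu2 hua
  have hx'e : x' = x₁ * u * b := by rw [mul_assoc, ← hub]; group
  have h3 : x₁ * u = u * x₁ := h.cent_of_sq huu hua hx₁t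
  have h4 : b * u = u * b := h.cent_of_sq huu hua hbt
  have h5 := h.inv h.wt h.x4 h.xa hbo hbt
  have h6 : v * (x * x)⁻¹ = x₁ * b * x₁⁻¹ * b⁻¹ := by
    rw [hvx, hx'e, ← h5]
    calc x₁ * u * b * (x₁ * u * b) * (x * x)⁻¹
        = x₁ * (u * b) * (x₁ * u) * b * (x * x)⁻¹ := by group
      _ = x₁ * b * (u * u) * x₁ * b * (x * x)⁻¹ := by rw [← h4, h3]; group
      _ = x₁ * b * x₁⁻¹ * (x₁ * x₁ * b * (x * x)⁻¹) := by rw [huu]; group
      _ = _ := by rw [hx₁]
  have h7 : v * (x * x)⁻¹ ∈ zpowers b := by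
    rw [h6]; exact mul_mem (h.conj_odd hbo hbt hx₁t) (inv_mem (mem_zpowers b))
  have h8 := eq_one_of_odd_of_mul_self (odd_of_mem_zpowers hbo h7)
    (by rw [H62.inv_eq_of_sq h.x4]; exact sq_mul hv4 h.x4 hw)
  exact hne (mul_inv_eq_one.1 h8)

theorem isolated (h : St4 t a x) {g : G}
    (hw : g * (x * x) * g⁻¹ * (x * x) = x * x * (g * (x * x) * g⁻¹)) :
    g * (x * x) * g⁻¹ = x * x := by
  rcases h.conj_t hw with h1 | h1
  · exact h.key hw (comm_of_conj_eq h1)
  · have h' := h.conj g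
    have hwt' : x * x * (g * t * g⁻¹) = g * t * g⁻¹ * (x * x) := by
      obtain ⟨h2 | h2, h3 | h3⟩ := h.conj_x hw
      · exact h'.sq_comm (g := x) (by rw [conj_sq]; exact (comm_of_conj_eq h2).symm)
      · exact h'.sq_comm (g := x) (by rw [conj_sq]; exact (comm_of_conj_eq h2).symm)
      · rw [← h.xt_sq]
        exact h'.sq_comm (g := x * t) (by rw [conj_sq]; exact (comm_of_conj_eq h3).symm)
      · exfalso
        set v := g * (x * x) * g⁻¹
        have e : v * (x * t) * v⁻¹ = v * x * v⁻¹ * (v * t * v⁻¹) := by group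
        rw [e, h2, h1] at h3
        apply h.w1
        have h4 : x * (x * x * (x * x)) * t = x * (x * x) * t := by
          calc _ = x * (x * x) * (x * x * t) := by group
            _ = x * (t * (x * x)) := by rw [h3]; group
            _ = _ := by rw [← h.wt]; group
        rw [h.x4, mul_one, mul_assoc] at h4
        have h5 := mul_left_cancel h4
        simpa using h5.symm
    have e : g⁻¹ * (g * x * g⁻¹ * (g * x * g⁻¹)) * g⁻¹⁻¹ = x * x := by group
    have := h'.key (g := g⁻¹) (by rw [e, conj_sq]; exact hw.symm) (by rw [e]; exact hwt')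
    rw [e, conj_sq] at this
    exact this.symm

end St4

variable [Finite G]

theorem core_eq_bot (hss : ∀ N : Subgroup G, N.Normal → Group.IsSolvable ↥N → N = ⊥) :
    pPrimeCore 2 G = ⊥ := by
  refine hss _ inferInstance ?_
  rw [pPrimeCore_eq_top_form Nat.prime_two]
  exact H8.GD.isSolvable_of_odd (isPi_piCoreOf _ _)

omit [Finite G] in
theorem eq_one_of_central (hss : ∀ N : Subgroup G, N.Normal → Group.IsSolvable ↥N → N = ⊥) {w : G}
    (hw : ∀ g, g * w = w * g) : w = 1 := by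
  have h1 := hss (center G) inferInstance (isSolvable_of_isMulCommutative inferInstance)
  have h2 : w ∈ center G := mem_center_iff.2 hw
  rwa [h1, mem_bot] at h2

theorem St4.false (hss : ∀ N : Subgroup G, N.Normal → Group.IsSolvable ↥N → N = ⊥) {t a x : G}
    (h : St4 t a x) : False := by
  refine h.w1 (eq_one_of_central hss fun g => ?_)
  have := H8.GD.zstar (X := ⊤) h.w2 (mem_top _) (fun g _ hg => h.isolated hg.eq.symm) g (mem_top g)
  rw [H8.GD.Oc, ← pPrimeCore_eq_top_form Nat.prime_two, core_eq_bot hss, mem_bot, mul_inv_eq_one]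
    at this
  exact comm_of_conj_eq this

namespace St

variable {t a : G}

theorem sq_of_not_comm (hss : ∀ N : Subgroup G, N.Normal → Group.IsSolvable ↥N → N = ⊥)
    (h : St t a) (hp : (orderOf a).Prime) {y : G} (hyt : y * t = t * y) (hy : Is2 y)
    (hya : y * a ≠ a * y) : y * y = 1 := by
  by_contra hne
  obtain ⟨k, hk⟩ := hy.orderOf
  rcases k with _ | _ | k
  · rw [pow_zero, orderOf_eq_one_iff] at hk
    exact hne (by rw [hk, mul_one])
  · exact hne (H62.sq_of_orderOf_two hk)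
  · have h1 : y ^ 2 ^ k * y ^ 2 ^ k ≠ 1 := by
      rw [← pow_add, ← two_mul, ← pow_succ', Ne, ← orderOf_dvd_iff_pow_eq_one, hk,
        Nat.pow_dvd_pow_iff_le_right one_lt_two]
      omega
    refine St4.false hss (t := t) (a := a) (x := y ^ 2 ^ k) ⟨h, hp, (Commute.pow_left hyt _).eq,
      ?_, fun e => h1 (h.pow_eq_one hyt hy hya ?_ e)⟩
    · rw [← pow_add, ← pow_add, ← pow_orderOf_eq_one y, hk]
      congr 1; ring
    · exact mul_mem (pow_mem (mem_zpowers y) _) (pow_mem (mem_zpowers y) _)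

/-- among three commuting involutions `s, z, s z` of `C(t)` one commutes with `a`. -/
theorem three (h : St t a) {s z : G} (hs : s * s = 1) (hz : z * z = 1) (hst : s * t = t * s)
    (hzt : z * t = t * z) : s * a = a * s ∨ z * a = a * z ∨ s * z * a = a * (s * z) := by
  by_cases h1 : s * a = a * s
  · exact Or.inl h1
  by_cases h2 : z * a = a * z
  · exact Or.inr (Or.inl h2)
  exact Or.inr (Or.inr (comm_of_inv_inv (h.inv_a hst hs h1) (h.inv_a hzt hz h2)))

theorem unique_invol (hss : ∀ N : Subgroup G, N.Normal → Group.IsSolvable ↥N → N = ⊥)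
    (h : St t a) (hp : (orderOf a).Prime) {z : G} (hz : orderOf z = 2) (hza : z * a = a * z) :
    z = t := by
  have : Fact (Nat.Prime 2) := ⟨Nat.prime_two⟩
  by_contra hne
  have hzz := H62.sq_of_orderOf_two hz
  have hzt := h.of_comm_a hza
  have htz : orderOf (t * z) = 2 := H62.orderOf_two_of_sq (sq_mul h.tt hzz hzt.symm) fun e =>
    hne (by rw [eq_inv_of_mul_eq_one_right e, H62.inv_eq_of_sq h.tt])
  have htza := comm_mul h.comm hza
  -- an element moving `t` and `z` into `C(t)` normalizes `C(t)`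
  have hN : ∀ g : G, g * t * g⁻¹ * t = t * (g * t * g⁻¹) → g * z * g⁻¹ * t = t * (g * z * g⁻¹) →
      g ∈ N[C1[t]] := by
    intro g h1 h2
    rcases h.three (h.conj g).tt (by rw [conj_sq, hzz]; group) h1 h2 with h3 | h3 | h3
    · exact h.mem_norm_of_same h.ht h.comm h3
    · exact h.mem_norm_of_same hz hza h3
    · refine h.mem_norm_of_same htz htza ?_
      have e : g * (t * z) * g⁻¹ = g * t * g⁻¹ * (g * z * g⁻¹) := by group
      rwa [e]
  -- no conjugate of an inverting involution commutes with `a`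
  have hα : ∀ w : G, w * w = 1 → w * t = t * w → w * a ≠ a * w → ∀ g : G,
      g * w * g⁻¹ * a ≠ a * (g * w * g⁻¹) := by
    intro w hw hwt hwa g hg
    have hw2 : orderOf (g * w * g⁻¹) = 2 := by
      rw [orderOf_conj']
      exact H62.orderOf_two_of_sq hw fun e => hwa (by rw [e, mul_one, one_mul])
    have h1 := hN g ((h.same hw2 hg).1 (comm_conj hwt.symm))
      ((h.same hw2 hg).1 (comm_conj ((h.same hz hza).2 hwt).symm))
    have h2 : g * a * g⁻¹ * t = t * (g * a * g⁻¹) := mem_centralizer_singleton_iff.1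
      (conj_mem_of_mem_normalizer h1 (mem_centralizer_singleton_iff.2 h.comm.symm))
    exact hwa (comm_of_comm_conj ((h.same hw2 hg).2 h2)).symm
  -- the Sylow 2-subgroups of `N(C(t))` are Sylow in `G`
  have hT : ∀ T : Subgroup G, IsSyl 2 T N[C1[t]] →
      (∀ s ∈ T, s * t = t * s) ∧ IsSyl 2 T ⊤ := by
    intro T hT
    have h1 : ∀ s ∈ T, s * t = t * s := fun s hs =>
      h.two_mem (H62.is2_of_mem (syl_isPGroup hT) hs) (hT.1 hs)
    refine ⟨h1, syl_top_of_normalizer_le hT fun g hg => ?_⟩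
    have h2 : ∀ r : G, orderOf r = 2 → r * a = a * r → r ∈ T := fun r hr hra =>
      le_syl_of_le_normalizer hT
        (zpowers_le.2 (le_normalizer (mem_centralizer_singleton_iff.2 (h.of_comm_a hra))))
        (isPGroup_two_zpowers hr)
        (Or.inl fun s hs => H62.mem_normalizer_of_forall fun u hu => conj_mem_zpowers (by
          rw [conj_eq_of_comm ((h.same hr hra).2 (h1 s hs))]; exact mem_zpowers r) hu)
        (mem_zpowers r)
    exact hN g (h1 _ (conj_mem_of_mem_normalizer hg (h2 t h.ht h.comm)))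
      (h1 _ (conj_mem_of_mem_normalizer hg (h2 z hz hza)))
  -- Thompson's transfer lemma
  have htr : ∀ w : G, w * w = 1 → w * t = t * w → w * a ≠ a * w →
      ∃ K : Subgroup G, K.Normal ∧ K.index = 2 ∧ w ∉ K := by
    intro w hw hwt hwa
    obtain ⟨T, hT1, hwT⟩ := exists_syl_ge (p := 2) (M := N[C1[t]]) (K := zpowers w)
      (zpowers_le.2 (le_normalizer (mem_centralizer_singleton_iff.2 hwt)))
      (H62.is2_of_sq hw).isPGroup_zpowers
    obtain ⟨h1, h2⟩ := hT T hT1
    refine H87.thompson_transfer_involution (H := T) (M := T ⊓ C1[a]) ?_ ?_ (by rw [pow_two, hw])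
      fun g hg => hα w hw hwt hwa g (mem_centralizer_singleton_iff.1 hg.2)
    · have := syl_not_dvd h2
      rw [relIndex_top_right] at this
      exact Nat.not_even_iff_odd.1 fun e => this (even_iff_two_dvd.1 e)
    · rw [inf_relIndex_left, relIndex, index_eq_two_iff]
      refine ⟨⟨w, hwT (mem_zpowers w)⟩, fun b => ?_⟩
      rw [mem_subgroupOf, mem_subgroupOf, mem_centralizer_singleton_iff,
        mem_centralizer_singleton_iff, coe_mul]
      by_cases hb : (b : G) * a = a * b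
      · refine Or.inr ⟨hb, fun e => hwa ?_⟩
        have := comm_mul (comm_inv hb) e
        simpa using this
      · exact Or.inl ⟨comm_of_inv_inv (h.inv_a (h1 b b.2) (h.sq_of_not_comm hss hp (h1 b b.2)
          (H62.is2_of_mem (syl_isPGroup h2) b.2) hb) hb) (h.inv_a hwt hw hwa), hb⟩
  -- the intersection of all subgroups of index two
  set K : Subgroup G := ⨅ (L : Subgroup G) (_ : L.Normal ∧ L.index = 2), L with hK
  have hKmem : ∀ x, x ∈ K ↔ ∀ L : Subgroup G, L.Normal ∧ L.index = 2 → x ∈ L := by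
    intro x; simp only [hK, mem_iInf]
  have hKn : K.Normal := ⟨fun n hn g => (hKmem _).2 fun L hL =>
    hL.1.conj_mem n ((hKmem n).1 hn L hL) g⟩
  have haK : a ∈ K := (hKmem a).2 fun L hL =>
    H62.mem_of_sq_mem_of_odd h.ha (mul_self_mem_of_index_two hL.2 a)
  have hall : ∀ w ∈ K, w * w = 1 → w * t = t * w → w * a = a * w := by
    intro w hwK hw hwt
    by_contra hwa
    obtain ⟨L, h1, h2, h3⟩ := htr w hw hwt hwa
    exact h3 ((hKmem w).1 hwK L ⟨h1, h2⟩)
  have hO : O[({2}ᶜ : Set ℕ)](K) = ⊥ := by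
    have h1 : O[({2}ᶜ : Set ℕ)](K) ≤ O[({2}ᶜ : Set ℕ)]((⊤ : Subgroup G)) :=
      piCoreOf_le_of_normalIn (normalIn_top_iff.2 hKn)
    rwa [← pPrimeCore_eq_top_form Nat.prime_two, core_eq_bot hss, le_bot_iff] at h1
  have hev : 2 ∣ Nat.card K := by
    by_contra h2
    have h1 := piCoreOf_eq_self ((isPi_compl_singleton_iff Nat.prime_two).2 h2)
    rw [hO] at h1
    rw [← h1, mem_bot] at haK
    exact h.ha1 haK
  obtain ⟨s₀, hs₀K, hs₀⟩ := exists_orderOf_eq_prime Nat.prime_two hev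
  obtain ⟨T, hT1⟩ := exists_syl 2 N[C1[t]]
  obtain ⟨h1, h2⟩ := hT T hT1
  obtain ⟨g, -, hg⟩ := exists_cj_le_syl h2 (le_top : zpowers s₀ ≤ ⊤) (isPGroup_two_zpowers hs₀)
  have hsK : g * s₀ * g⁻¹ ∈ K := hKn.conj_mem _ hs₀K g
  have hs2 : orderOf (g * s₀ * g⁻¹) = 2 := by rw [orderOf_conj', hs₀]
  have hsa := hall _ hsK (H62.sq_of_orderOf_two hs2) (h1 _ (cj_le_iff.1 hg _ (mem_zpowers s₀)))
  have h3 : St (⟨g * s₀ * g⁻¹, hsK⟩ : K) ⟨a, haK⟩ :=
    ⟨h.hc.of_injective K.subtype K.subtype_injective, by rw [orderOf_mk, hs2],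
      by rw [orderOf_mk]; exact h.ha, fun e => h.ha1 (congrArg Subtype.val e), Subtype.ext hsa⟩
  have h4 := h3.mem_core fun w hw hws => Subtype.ext
    (hall w w.2 (congrArg Subtype.val hw) ((h.same hs2 hsa).1 (congrArg Subtype.val hws)))
  have h5 : a ∈ (pPrimeCore 2 K).map K.subtype := ⟨_, h4, rfl⟩
  rw [map_pPrimeCore_subtype Nat.prime_two, hO, mem_bot] at h5
  exact h.ha1 h5

theorem exists_four (hss : ∀ N : Subgroup G, N.Normal → Group.IsSolvable ↥N → N = ⊥)
    (h : St t a) : ∃ t w : G, orderOf t = 2 ∧ orderOf w = 2 ∧ w ≠ t ∧ w * t = t * w ∧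
      ∀ m : G, m * t = t * m → m * w = w * m → m = 1 ∨ m = t ∨ m = w ∨ m = w * t := by
  obtain ⟨p, hp, hpa⟩ := exists_prime_dvd_orderOf h.ha1
  obtain ⟨a', ha', hp'⟩ := exists_orderOf_eq_prime (H := zpowers a) hp (by rwa [Nat.card_zpowers])
  have h' : St t a' := ⟨h.hc, h.ht, odd_of_mem_zpowers h.ha ha',
    fun e => hp.one_lt.ne (by rw [← hp', e, orderOf_one]),
    commute_of_mem_zpowers_of_commute h.comm ha'⟩
  rw [← hp'] at hp
  clear hpa hp' ha' h
  have hex : ¬ ∀ w : G, w * w = 1 → w * t = t * w → w * a' = a' * w := fun hall => by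
    have := h'.mem_core hall
    rw [core_eq_bot hss, mem_bot] at this
    exact h'.ha1 this
  push Not at hex
  obtain ⟨w, hw, hwt, hwa⟩ := hex
  have hZ : ∀ z : G, z * z = 1 → z * a' = a' * z → z = 1 ∨ z = t := fun z hz hza => by
    by_cases h1 : z = 1
    · exact Or.inl h1
    · exact Or.inr (h'.unique_invol hss hp (H62.orderOf_two_of_sq hz h1) hza)
  refine ⟨t, w, h'.ht, H62.orderOf_two_of_sq hw fun e => hwa (by rw [e, mul_one, one_mul]),
    fun e => hwa (e ▸ h'.comm), hwt, fun m hmt hmw => ?_⟩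
  obtain ⟨u, hu, b, hb, hu2, hbo, hub⟩ := exists_parts m
  have hb1 : b = 1 := eq_one_of_odd_of_inverts_of_commute hbo
    (h'.inv hwt hw hwa hbo (commute_of_mem_zpowers_of_commute hmt.symm hb).symm)
    (commute_of_mem_zpowers_of_commute hmw.symm hb)
  rw [hb1, mul_one] at hub
  rw [← hub] at hu2
  by_cases hma : m * a' = a' * m
  · have h1 := h'.inv_two hwt hw hwa hu2 hma
    rw [conj_eq_of_comm hmw.symm] at h1
    rcases hZ m (mul_eq_one_iff_eq_inv.2 h1) hma with h2 | h2
    · exact Or.inl h2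
    · exact Or.inr (Or.inl h2)
  · have h1 := h'.sq_of_not_comm hss hp hmt hu2 hma
    have e : m = w * (w * m) := by rw [← mul_assoc, hw, one_mul]
    rcases hZ (w * m) (sq_mul hw h1 hmw.symm)
      (comm_of_inv_inv (h'.inv_a hwt hw hwa) (h'.inv_a hmt h1 hma)) with h2 | h2
    · right; right; left; rw [e, h2, mul_one]
    · right; right; right; rw [e, h2]

end St

end Cfsg.Agent.H52.NC
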