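import Cfsg.Agent.H58.Q4K

/-! Project Q4, piece K7B. -/

set_option autoImplicit false
set_option linter.unusedSectionVars false

namespace Cfsg.Agent.H52.Q4K7b

open Subgroup Equiv Function Cfsg.Agent.H58.Q4
open scoped Pointwise commutatorElement

universe u

section core
variable {A : Type u} [CommGroup A] [Finite A]

theorem card_rel {H K : Subgroup A} (h : H ≤ K) : Nat.card H * H.relIndex K = Nat.card K := by
  rw [← Nat.card_congr (subgroupOfEquivOfLe h).toEquiv, relIndex, card_mul_index]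

theorem half (a b : A →* A) (Q : Subgroup A) (z : A) (hab : ∀ g, a (b g) = b (a g))
    (ha : a.range = a.ker) (hb : b.range = b.ker) (Qa : Q ≤ a.ker) (Qb : Q ≤ b.ker)
    (hY : ∀ g, a g ∈ Q → b g ∈ Q → g ∈ Q ∨ z⁻¹ * g ∈ Q) (h16 : 16 ≤ Nat.card A) :
    Nat.card A = 16 ∧ Nat.card a.ker = 4 ∧ b z = 1 := by
  have h0 : Nat.card a.ker * Nat.card a.ker = Nat.card A := by
    rw [← card_mul_index a.ker, index_ker, ha]
  have h1 : Nat.card (Q.comap a) * Q.relIndex a.ker = Nat.card A := by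
    rw [← card_mul_index (Q.comap a), index_comap, ha]
  have h2 := card_rel Qa
  have hle : (Q.comap a).map b ≤ Q.comap a ⊓ Q.comap b := by
    rintro _ ⟨g, hg, rfl⟩
    have e : b (b g) = 1 := (hb ▸ ⟨g, rfl⟩ : b g ∈ b.ker)
    exact mem_inf.2 ⟨by rw [mem_comap, hab, show b (a g) = 1 from Qb hg]; exact one_mem _,
      by rw [mem_comap, e]; exact one_mem _⟩
  have hQ : Q ≤ Q.comap a ⊓ Q.comap b := fun g hg =>
    mem_inf.2 ⟨by rw [mem_comap, show a g = 1 from Qa hg]; exact one_mem _,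
      by rw [mem_comap, show b g = 1 from Qb hg]; exact one_mem _⟩
  have h3 := card_rel (inf_le_left : Q.comap a ⊓ Q.comap b ≤ Q.comap a)
  rw [inf_relIndex_left, relIndex_comap] at h3
  have h4 := card_rel hQ
  have h5 : Q.relIndex ((Q.comap a).map b) ≤ Q.relIndex (Q.comap a ⊓ Q.comap b) :=
    relIndex_le_of_le_right hle index_ne_zero_of_finite
  have h6 : Nat.card ↥(Q.comap a ⊓ Q.comap b) ≤ Nat.card Q + Nat.card Q := by
    have : ((Q.comap a ⊓ Q.comap b : Subgroup A) : Set A) ⊆ Q ∪ (fun g => z * g) '' Q := by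
      intro g hg
      exact (hY g hg.1 hg.2).imp id fun h => ⟨_, h, by simp⟩
    have h7 := (Set.ncard_le_ncard this).trans (Set.ncard_union_le _ _)
    rw [Set.ncard_image_of_injective _ (mul_right_injective z)] at h7
    exact h7
  have q0 : 0 < Nat.card Q := Nat.card_pos
  have r0 : 0 < Q.relIndex a.ker := Nat.pos_of_ne_zero index_ne_zero_of_finite
  set q := Nat.card Q
  set u := Nat.card a.ker
  set r1 := Q.relIndex a.ker
  set r := Q.relIndex ((Q.comap a).map b) with hr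
  set s := Q.relIndex (Q.comap a ⊓ Q.comap b)
  have s2 : s ≤ 2 := by nlinarith
  have e1 : Nat.card (Q.comap a) = u * q :=
    Nat.eq_of_mul_eq_mul_right r0 (by rw [h1, ← h0, mul_assoc, h2])
  have e2 : s * r = u := Nat.eq_of_mul_eq_mul_left q0 (by rw [← mul_assoc, h4, h3, e1, mul_comm])
  have u4 : 4 ≤ u := by nlinarith
  have r2 : r = 2 ∧ u = 4 := by
    have : r ≤ 2 := h5.trans s2
    constructor <;> nlinarith
  refine ⟨by rw [← h0, r2.2], r2.2, ?_⟩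
  have : ¬ (Q.comap a).map b ≤ Q := fun h => by
    rw [relIndex_eq_one.2 h] at hr
    omega
  obtain ⟨_, ⟨g, hg, rfl⟩, hg'⟩ := SetLike.not_le_iff_exists.1 this
  have e3 := hle ⟨g, hg, rfl⟩
  have e4 : b (z⁻¹ * b g) = 1 := Qb ((hY _ e3.1 e3.2).resolve_left hg')
  have e : b (b g) = 1 := (hb ▸ ⟨g, rfl⟩ : b g ∈ b.ker)
  rwa [map_mul, e, mul_one, map_inv, inv_eq_one] at e4

theorem core (a b : A →* A) (Q : Subgroup A) (z : A) (hab : ∀ g, a (b g) = b (a g))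
    (ha : a.range = a.ker) (hb : b.range = b.ker) (Qa : Q ≤ a.ker) (Qb : Q ≤ b.ker)
    (hY : ∀ g, a g ∈ Q → b g ∈ Q → g ∈ Q ∨ z⁻¹ * g ∈ Q) (h16 : 16 ≤ Nat.card A) (hz : z ∉ Q)
    (hne : a.ker ≠ b.ker) : Nat.card A = 16 ∧ Q = ⊥ := by
  obtain ⟨h1, h2, h3⟩ := half a b Q z hab ha hb Qa Qb hY h16
  obtain ⟨-, h4, h5⟩ := half b a Q z (fun g => (hab g).symm) hb ha Qb Qa (fun g x y => hY g y x) h16
  refine ⟨h1, ?_⟩
  have e1 := card_rel (le_inf Qa Qb)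
  have e2 := card_rel (inf_le_left : a.ker ⊓ b.ker ≤ a.ker)
  have n1 : Q.relIndex (a.ker ⊓ b.ker) ≠ 1 := fun h => hz (relIndex_eq_one.1 h ⟨h5, h3⟩)
  have n2 : (a.ker ⊓ b.ker).relIndex a.ker ≠ 1 := fun h =>
    hne (eq_of_le_of_card_ge ((relIndex_eq_one.1 h).trans inf_le_right) (by rw [h2, h4]))
  have p1 : Q.relIndex (a.ker ⊓ b.ker) ≠ 0 := index_ne_zero_of_finite
  have p2 : (a.ker ⊓ b.ker).relIndex a.ker ≠ 0 := index_ne_zero_of_finite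
  have q0 : 0 < Nat.card Q := Nat.card_pos
  rw [← card_eq_one]
  rw [← e1, h2] at e2
  have a1 : 2 ≤ Q.relIndex (a.ker ⊓ b.ker) := by omega
  have a2 : 2 ≤ (a.ker ⊓ b.ker).relIndex a.ker := by omega
  have := Nat.mul_le_mul (Nat.mul_le_mul_left (Nat.card Q) a1) a2
  omega

end core

variable {G Ω : Type u} [Group G] [Finite G] [MulAction G Ω] [Finite Ω]

/-- conjugation -/
def cjh {P : Subgroup G} {w : G} (hw : w ∈ Nm P) : P →* P where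
  toFun g := ⟨w * g * w⁻¹, conj_mem_of_Nm hw g.2⟩
  map_one' := Subtype.ext (by simp)
  map_mul' a b := Subtype.ext (by simp)

theorem core' {P Q : Subgroup G} {z v w : G} (hQ : Q ≤ P) (m : ∀ a ∈ P, ∀ b ∈ P, Commute a b)
    (hz : z ∈ P) (hz' : z ∉ Q) (hv : v ∈ Nm P) (hw : w ∈ Nm P) (vw : ⁅v, w⁆ ∈ P)
    (v1 : ∀ a ∈ P, ⁅a, v⁆ ∈ Ce v) (v2 : ∀ b ∈ P ⊓ Ce v, ∃ a ∈ P, ⁅a, v⁆ = b)
    (w1 : ∀ a ∈ P, ⁅a, w⁆ ∈ Ce w) (w2 : ∀ b ∈ P ⊓ Ce w, ∃ a ∈ P, ⁅a, w⁆ = b)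
    (qv : Q ≤ Ce v) (qw : Q ≤ Ce w)
    (hY : ∀ g ∈ P, ⁅g, v⁆ ∈ Q → ⁅g, w⁆ ∈ Q → g ∈ Q ∨ z⁻¹ * g ∈ Q) (h16 : 16 ≤ Nat.card P)
    (hne : P ⊓ Ce v ≠ P ⊓ Ce w) : Nat.card P = 16 ∧ Q = ⊥ := by
  let _ : CommGroup P := { (inferInstance : Group P) with
    mul_comm := fun a b => Subtype.ext (m a a.2 b b.2).eq }
  have e : ∀ {t : G} (ht : t ∈ Nm P) (g : P),
      ((MonoidHom.id P / cjh ht) g : G) = ⁅(g : G), t⁆ := fun {t} ht g => by
    change (g : G) / (t * g * t⁻¹) = _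
    rw [commutatorElement_def, div_eq_mul_inv]
    group
  have k : ∀ {t : G} (ht : t ∈ Nm P) (g : P),
      g ∈ (MonoidHom.id P / cjh ht).ker ↔ (g : G) ∈ Ce t := fun {t} ht g => by
    rw [MonoidHom.mem_ker, Subtype.ext_iff, e, mem_Ce]
    exact commutatorElement_eq_one_iff_commute
  have r : ∀ {t : G} (ht : t ∈ Nm P), (∀ a ∈ P, ⁅a, t⁆ ∈ Ce t) →
      (∀ b ∈ P ⊓ Ce t, ∃ a ∈ P, ⁅a, t⁆ = b) →
      (MonoidHom.id P / cjh ht).range = (MonoidHom.id P / cjh ht).ker := fun {t} ht h1 h2 => by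
    ext g
    rw [k]
    constructor
    · rintro ⟨a, rfl⟩
      rw [e]
      exact h1 a a.2
    · intro hg
      obtain ⟨a, ha, e'⟩ := h2 g ⟨g.2, hg⟩
      exact ⟨⟨a, ha⟩, Subtype.ext (by rw [e, e'])⟩
  have c : ∀ g : P, cjh hv (cjh hw g) = cjh hw (cjh hv g) := fun g => Subtype.ext (by
    have := (m _ vw _ (cjh hw (cjh hv g)).2).eq
    change v * (w * g * w⁻¹) * v⁻¹ = w * (v * g * v⁻¹) * w⁻¹
    change ⁅v, w⁆ * (w * (v * g * v⁻¹) * w⁻¹) = (w * (v * g * v⁻¹) * w⁻¹) * ⁅v, w⁆ at this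
    rw [← mul_inv_eq_iff_eq_mul, commutatorElement_def] at this
    rw [← this]
    group)
  obtain ⟨h1, h2⟩ := core (MonoidHom.id P / cjh hv) (MonoidHom.id P / cjh hw) (Q.subgroupOf P)
    ⟨z, hz⟩ (fun g => by
      simp only [MonoidHom.div_apply, MonoidHom.id_apply, map_div, c]
      exact div_div_div_comm _ _ _ _) (r hv v1 v2) (r hw w1 w2)
    (fun g hg => (k hv g).2 (qv hg)) (fun g hg => (k hw g).2 (qw hg))
    (fun g a b => hY g g.2 (e hv g ▸ a) (e hw g ▸ b)) h16 hz' fun h => hne (by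
      ext g
      exact ⟨fun hg => ⟨hg.1, (k hw ⟨g, hg.1⟩).1 (h ▸ (k hv ⟨g, hg.1⟩).2 hg.2)⟩,
        fun hg => ⟨hg.1, (k hv ⟨g, hg.1⟩).1 (h ▸ (k hw ⟨g, hg.1⟩).2 hg.2)⟩⟩)
  exact ⟨h1, (subgroupOf_eq_bot.1 h2).eq_bot_of_le hQ⟩

theorem sw {Q : Subgroup G} {a w : G} (ha : a ∈ Nm Q) (hw : w ∈ Nm Q) (h : ⁅a, w⁆ ∈ Q) {x : Ω}
    (hx : x ∈ Fx Ω Q) : a • w • x = w • a • x := by
  have := smul_mem_Fx hw (smul_mem_Fx ha hx) _ h
  rw [← this, commutatorElement_def]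
  simp only [mul_smul, inv_smul_smul]

variable {K P : Set Ω → Subgroup G}

theorem blk_eq (blk : BlkStmt.{u}) (h : Ev K P) {F F' : Set Ω} (hF : F.ncard = 4)
    (hF' : F'.ncard = 4) (h4 : 4 ≤ (Fx Ω (P F) ∩ Fx Ω (P F')).ncard) : P F = P F' := by
  obtain ⟨E, e1, e2⟩ := Set.exists_subset_card_eq h4
  obtain ⟨-, -, -, -, -, -, -, -, -, a, -⟩ := blk G Ω K P h F hF
  obtain ⟨-, -, -, -, -, -, -, -, -, b, -⟩ := blk G Ω K P h F' hF'
  rw [← (a E (e1.trans Set.inter_subset_left) e2).1, (b E (e1.trans Set.inter_subset_right) e2).1]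

theorem nm_P (blk : BlkStmt.{u}) (h : Ev K P) {F : Set Ω} (hF : F.ncard = 4) {g : G}
    (hg : ∀ x ∈ F, g • x ∈ F) : g ∈ Nm (P F) := by
  obtain ⟨-, -, -, -, -, -, -, -, a, -⟩ := blk G Ω K P h F hF
  refine mem_Nm_of_finite fun x hx => ?_
  have := ((a g).2 x).1 hx
  rwa [smul_eq_of_mapsTo hg] at this

theorem card4 {a b x y : Ω} (h1 : a ≠ b) (h2 : a ≠ x) (h3 : a ≠ y) (h4 : b ≠ x) (h5 : b ≠ y)
    (h6 : x ≠ y) : ({a, b, x, y} : Set Ω).ncard = 4 := by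
  rw [Set.ncard_insert_of_notMem (by simp [h1, h2, h3]), Set.ncard_insert_of_notMem (by simp [h4, h5]),
    Set.ncard_pair h6]

/-- the data at a base block -/
structure Dt (Ω : Type u) [MulAction G Ω] (Q P0 : Subgroup G) (z : G) (x : Ω) : Prop where
  le : Q ≤ P0
  m7 : M7 Ω P0
  sub : Fx Ω P0 ⊆ Fx Ω Q
  zP : z ∈ P0
  zQ : z ∉ Q
  fix : ∀ g ∈ P0, g ∉ Q → F1 Ω g ∩ Fx Ω Q = Fx Ω P0
  xQ : x ∈ Fx Ω Q
  xP : x ∉ Fx Ω P0

theorem Dt.nm {Q P0 : Subgroup G} {z : G} {x : Ω} (d : Dt Ω Q P0 z x) : P0 ≤ Nm Q :=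
  fun g hg => mem_Nm_of_finite fun a ha => by
    rwa [(d.m7.comm g hg a (d.le ha)).eq, mul_inv_cancel_right]

theorem Dt.mem {Q P0 : Subgroup G} {z : G} {x : Ω} (d : Dt Ω Q P0 z x) {y : Ω} (hy : y ∈ Fx Ω Q)
    (h : z • y = y) : y ∈ Fx Ω P0 := d.fix z d.zP d.zQ ▸ ⟨h, hy⟩

theorem Dt.zz {Q P0 : Subgroup G} {z : G} {x : Ω} (d : Dt Ω Q P0 z x) (y : Ω) : z • z • y = y := by
  rw [← mul_smul, d.m7.sq z d.zP, one_smul]

theorem Dt.zx {Q P0 : Subgroup G} {z : G} {x : Ω} (d : Dt Ω Q P0 z x) : z • x ∉ Fx Ω P0 :=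
  fun h => d.xP (by rw [← d.zz x, h z d.zP]; exact h)

theorem mk (blk : BlkStmt.{u}) (mq : MqStmt.{u}) (k7a : K7aStmt.{u}) (h : Ev K P) (hk : Bk P 7)
    {Q : Subgroup G} (hQ : MQ Ω 7 Q) {F : Set Ω} (hF : F.ncard = 4) {z : G} {x : Ω}
    (d : Dt Ω Q (P F) z x) {a b : Ω} (ha : a ∈ Fx Ω (P F)) (hb : b ∈ Fx Ω (P F)) (hab : a ≠ b)
    {v : G} (v1 : v ∈ Nm (P F)) (v2 : v ∈ Nm Q) (v3 : Tw v)
    (v4 : ∀ y ∈ ({a, b, x, z • x} : Set Ω), v • y ∈ ({a, b, x, z • x} : Set Ω)) :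
    ∃ w : G, ∃ F' : Set Ω, F'.ncard = 4 ∧ w ∈ Nm Q ∧ w ∈ Nm (P F) ∧ w * w = 1 ∧ ⁅z, w⁆ ∈ Q ∧
      ⁅v, w⁆ ∈ Q ∧ Q ≤ Ce w ∧ F1 Ω w ∩ Fx Ω Q = Fx Ω (P F') ∧
      (F1 Ω w ∩ Fx Ω (P F)).ncard = 3 ∧ w • a = a ∧ w • b = b ∧ w • x = x ∧ w • z • x = z • x := by
  have zQ := d.nm d.zP
  have xz : x ≠ z • x := fun e => d.xP (d.mem d.xQ e.symm)
  have c4 : ({a, b, x, z • x} : Set Ω).ncard = 4 :=
    card4 hab (fun e => d.xP (e ▸ ha)) (fun e => d.zx (e ▸ ha)) (fun e => d.xP (e ▸ hb))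
      (fun e => d.zx (e ▸ hb)) xz
  set F' : Set Ω := {a, b, x, z • x} with hF'
  have s1 : F' ⊆ Fx Ω Q := by
    rintro y (rfl | rfl | rfl | rfl)
    exacts [d.sub ha, d.sub hb, d.xQ, smul_mem_Fx zQ d.xQ]
  have zN : z ∈ Nm (P F') := nm_P blk h c4 (by
    rintro y (rfl | rfl | rfl | rfl)
    · rw [ha z d.zP]; simp [hF']
    · rw [hb z d.zP]; simp [hF']
    · simp [hF']
    · rw [d.zz]; simp [hF'])
  obtain ⟨m1, m2, -, -, m5, m6⟩ := mq G Ω K P h 7 hk Q hQ F' s1 c4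
  obtain ⟨b1, -, -, -, -, -, -, b8, -⟩ := blk G Ω K P h F hF
  obtain ⟨-, -, b3, -⟩ := blk G Ω K P h F' c4
  obtain ⟨w, ⟨w1, w2⟩, w3, -, w5⟩ := m6 ((zpowers v ⊔ P F) ⊓ Nm Q ⊓ Nm (P F'))
    (IsPGroup.to_sup_of_normal_right' v3.isPGroup b1 (zpowers_le.2 v1)).to_inf_left.to_inf_left
    (inf_le_left.trans inf_le_right) inf_le_right
  have n7 := k7a G Ω K P h hk F' c4
  have wz := w5 z ⟨⟨mem_sup_right d.zP, zQ⟩, zN⟩
  have e1 := m5 w ⟨w1, w2⟩ w3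
  have e2 : F1 Ω w ∩ Fx Ω (P F) = Fx Ω (P F') ∩ Fx Ω (P F) := by
    rw [← e1, Set.inter_assoc, Set.inter_eq_right.2 d.sub]
  refine ⟨w, F', c4, w1, (b8 w).2 (smul_eq_of_mapsTo fun y hy => ?_), n7.sq w w2, wz,
    w5 v ⟨⟨mem_sup_left (mem_zpowers v), v2⟩, nm_P blk h c4 v4⟩,
    fun g hg => mem_Ce.2 (n7.comm g (m1 hg) w w2), e1, ?_, b3 (by simp [hF']) w w2,
    b3 (by simp [hF']) w w2, b3 (by simp [hF']) w w2, b3 (by simp [hF']) w w2⟩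
  · exact d.mem (smul_mem_Fx w1 (d.sub hy)) (by rw [sw zQ w1 wz (d.sub hy), hy z d.zP])
  · rw [e2]
    have l1 : ¬ 4 ≤ (Fx Ω (P F') ∩ Fx Ω (P F)).ncard := fun l =>
      d.xP (blk_eq blk h c4 hF l ▸ b3 (by simp [hF']))
    have l2 : 2 ≤ (Fx Ω (P F') ∩ Fx Ω (P F)).ncard := by
      rw [← Set.ncard_pair hab]
      refine Set.ncard_le_ncard ?_
      rintro y (rfl | rfl)
      exacts [⟨b3 (by simp [hF']), ha⟩, ⟨b3 (by simp [hF']), hb⟩]
    have l3 := Set.ncard_inter_add_ncard_sdiff_eq_ncard (Fx Ω (P F')) (Fx Ω (P F))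
    rw [hk F' c4] at l3
    have z1 : z ≠ 1 := fun e => d.zQ (e ▸ one_mem Q)
    have o2 : orderOf z = 2 := orderOf_eq_prime (by rw [sq, d.m7.sq z d.zP]) z1
    have l4 := card_dvd_of_semi (R := zpowers z) (S := Fx Ω (P F') \ Fx Ω (P F))
      (fun r hr y hy => ⟨smul_mem_Fx (zpowers_le.2 zN hr) hy.1, fun e => hy.2 (by
        have := e r⁻¹ (inv_mem (zpowers_le.2 d.zP hr))
        rw [inv_smul_smul] at this
        rwa [this])⟩)
      (fun r hr y hy e => by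
        by_contra hne
        have hrQ : r ∉ Q := fun hq => d.zQ (by
          have := Fact.mk Nat.prime_two
          have h2 : Nat.card (zpowers z) = 2 := by rw [Nat.card_zpowers, o2]
          have := mem_zpowers_of_prime_card h2 (g := (⟨r, hr⟩ : zpowers z))
            (fun e => hne (congrArg Subtype.val e)) (g' := ⟨z, mem_zpowers z⟩)
          obtain ⟨n, hn⟩ := this
          have hn : r ^ n = z := by simpa using congrArg Subtype.val hn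
          exact hn ▸ zpow_mem hq n)
        exact hy.2 (d.fix r (zpowers_le.2 d.zP hr) hrQ ▸ ⟨e, m2 hy.1⟩))
    rw [Nat.card_zpowers, o2] at l4
    omega

theorem main (blk : BlkStmt.{u}) (mq : MqStmt.{u}) (k7a : K7aStmt.{u}) (h : Ev K P) (hk : Bk P 7)
    {Q : Subgroup G} (hQ : MQ Ω 7 Q) {F : Set Ω} (hF : F.ncard = 4) {z : G} {x : Ω}
    (d : Dt Ω Q (P F) z x) : Nat.card (P F) = 16 ∧ Q = ⊥ ∧
      ∀ o ∈ K F, Odd (orderOf o) → o • x = x := by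
  have b7 := hk F hF
  obtain ⟨a, ha, b, hb, hab⟩ := (Set.one_lt_ncard (s := Fx Ω (P F))).1 (by omega)
  obtain ⟨v, F1', c1, v1, v2, v3, v4, -, v5, v6, v7, -, -, v8, v9⟩ := mk blk mq k7a h hk hQ hF d
    ha hb hab (v := 1) (one_mem _) (one_mem _) (Tw.of_sq (mul_one 1)) (fun y hy => by rwa [one_smul])
  have vv : ∀ y : Ω, v • v • y = y := fun y => by rw [← mul_smul, v3, one_smul]
  obtain ⟨j, hj, hj'⟩ : ∃ j ∈ Fx Ω (P F), v • j ≠ j := by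
    by_contra hc
    push Not at hc
    rw [Set.inter_eq_right.2 (show Fx Ω (P F) ⊆ F1 Ω v from hc)] at v7
    omega
  have hvj := smul_mem_Fx v2 hj
  obtain ⟨w, F2, c2, w1, w2, w3, w4, vw, w5, w6, w7, wj, wvj, w8, w9⟩ := mk blk mq k7a h hk hQ hF d
    hj hvj hj'.symm v2 v1 (Tw.of_sq v3) (by
      rintro y (rfl | rfl | rfl | rfl)
      · simp
      · rw [vv]; simp
      · rw [v8]; simp
      · rw [v9]; simp)
  have ww : ∀ y : Ω, w • w • y = y := fun y => by rw [← mul_smul, w3, one_smul]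
  have svw : ∀ y ∈ Fx Ω (P F), v • w • y = w • v • y := fun y hy => sw v1 w1 vw (d.sub hy)
  obtain ⟨p, hp⟩ : ∃ p, (F1 Ω w ∩ Fx Ω (P F)) \ {j, v • j} = {p} := by
    rw [← Set.ncard_eq_one, Set.ncard_sdiff (by
      rintro y (rfl | rfl)
      exacts [⟨wj, hj⟩, ⟨wvj, hvj⟩]), w7, Set.ncard_pair hj'.symm]
  have p1 : p ∈ (F1 Ω w ∩ Fx Ω (P F)) \ {j, v • j} := hp ▸ rfl
  have pw : w • p = p := p1.1.1
  have pv : v • p = p := by
    have : v • p ∈ (F1 Ω w ∩ Fx Ω (P F)) \ {j, v • j} := by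
      refine ⟨⟨by rw [mem_F1, ← svw p p1.1.2, pw], smul_mem_Fx v2 p1.1.2⟩, ?_⟩
      rintro (e | e)
      · exact p1.2 (Or.inr (by rw [← e, vv]; rfl))
      · exact p1.2 (Or.inl (smul_left_cancel v e))
    rwa [hp] at this
  have t12 : F1 Ω v ∩ F1 Ω w ∩ Fx Ω (P F) = {p} := by
    refine Set.Subset.antisymm (fun y hy => hp ▸ ⟨⟨hy.1.2, hy.2⟩, ?_⟩) ?_
    · rintro (rfl | rfl)
      · exact hj' hy.1.1
      · exact hj' ((show v • v • j = v • j from hy.1.1).symm.trans (vv j))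
    · rintro y rfl
      exact ⟨⟨pv, pw⟩, p1.1.2⟩
  have zQ := d.nm d.zP
  have xz : x ≠ z • x := fun e => d.xP (d.mem d.xQ e.symm)
  have fq : ∀ g ∈ P F, g • x = x → g ∈ Q := fun g hg e => by
    by_contra hc
    exact d.xP (d.fix g hg hc ▸ ⟨e, d.xQ⟩)
  obtain ⟨i, hi⟩ := d.m7.card
  obtain ⟨r1, r2⟩ := core' d.le d.m7.comm d.zP d.zQ v2 w2 (d.le vw)
    (d.m7.half v v2 (Tw.of_sq v3) v7).2.1 (d.m7.half v v2 (Tw.of_sq v3) v7).2.2
    (d.m7.half w w2 (Tw.of_sq w3) w7).2.1 (d.m7.half w w2 (Tw.of_sq w3) w7).2.2 v5 w5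
    (fun g hg g1 g2 => by
      have gQ := d.nm hg
      by_cases e1 : g • x = x
      · exact Or.inl (fq g hg e1)
      by_cases e2 : g • x = z • x
      · exact Or.inr (fq _ (mul_mem (inv_mem d.zP) hg) (by rw [mul_smul, e2, inv_smul_smul]))
      have e3 : g • x ≠ p := fun e => d.xP (by
        have := p1.1.2 g⁻¹ (inv_mem hg)
        rw [← e, inv_smul_smul] at this
        rw [this, e]
        exact p1.1.2)
      have c4 := card4 e3 e1 e2 (fun e => d.xP (e ▸ p1.1.2)) (fun e => d.zx (e ▸ p1.1.2)) xz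
      have : P F1' = P F2 := blk_eq blk h c1 c2 (c4 ▸ Set.ncard_le_ncard (by
        rw [← v6, ← w6]
        rintro y (rfl | rfl | rfl | rfl)
        · exact ⟨⟨by rw [mem_F1, ← sw gQ v1 g1 d.xQ, v8], smul_mem_Fx gQ d.xQ⟩,
            by rw [mem_F1, ← sw gQ w1 g2 d.xQ, w8], smul_mem_Fx gQ d.xQ⟩
        · exact ⟨⟨pv, d.sub p1.1.2⟩, pw, d.sub p1.1.2⟩
        · exact ⟨⟨v8, d.xQ⟩, w8, d.xQ⟩
        · exact ⟨⟨v9, smul_mem_Fx zQ d.xQ⟩, w9, smul_mem_Fx zQ d.xQ⟩))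
      have e4 : j ∈ F1 Ω v ∩ Fx Ω Q := by
        rw [v6, this, ← w6]
        exact ⟨wj, d.sub hj⟩
      exact (hj' e4.1).elim)
    (by
      rcases i with _ | i
      · exact (h.P_ne F hF (card_eq_one.1 (by rw [hi, pow_zero]))).elim
      · rw [hi, pow_succ]
        exact Nat.le_mul_of_pos_left _ (by positivity))
    (d.m7.ne v v2 w w2 (Tw.of_sq v3) (Tw.of_sq w3) v7 w7 (by rw [t12, Set.ncard_singleton]))
  refine ⟨r1, r2, fun o ho ho' => ?_⟩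
  subst r2
  have cvw : Commute v w := commutatorElement_eq_one_iff_commute.1 (mem_bot.1 vw)
  obtain ⟨-, -, b3, -, b5, -, b6, -, -, b10, -⟩ := blk G Ω K P h F hF
  have nil := (h.fr F hF).nil
  have nK : ∀ t ∈ Nm (P F), t ∈ Nm (oddPart (K F) nil) := fun t ht =>
    Nm_le_Nm_oddPart nil (mem_Nm_of_finite fun k hk => by
      have := h.conj F hF t k hk
      rwa [(b10 (t • F) (by
        rintro _ ⟨y, hy, rfl⟩
        exact smul_mem_Fx ht (b3 hy)) (by rw [Set.ncard_smul_set, hF])).2] at this)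
  have key : ∀ t : G, t * t = 1 → t ≠ 1 → Commute z t → t • x = x →
      3 ≤ (F1 Ω t ∩ Fx Ω (P F)).ncard → oddPart (K F) nil ⊓ Ce t ≤ MulAction.stabilizer G x := by
    rintro t t1 t2 t3 t4 t5 k ⟨hk1, hk2⟩
    obtain ⟨k1, k2⟩ := mem_oddPart.1 hk1
    have l1 : (F1 Ω t).ncard ≤ 7 := by
      by_contra hc
      have := hQ.max _ (Tw.of_sq t1).isPGroup (by rw [Fx_zpowers]; omega)
      rw [card_bot, card_le_one_iff_eq_bot, zpowers_eq_bot] at this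
      exact t2 this
    have l3 := Set.ncard_inter_add_ncard_sdiff_eq_ncard (F1 Ω t) (Fx Ω (P F))
    have nb : ∀ g : G, (∀ y ∈ Fx Ω (P F), g • y = y) → ∀ y, g • y ∈ Fx Ω (P F) → y ∈ Fx Ω (P F) :=
      fun g hg y hy => by rwa [← smul_left_cancel g (hg _ hy)]
    exact odd_fix_of_le_four k2 (b6 k k1 k2 z d.zP) (S := F1 Ω t \ Fx Ω (P F)) (by omega)
      (fun y hy => ⟨smul_mem_F1 (mem_Ce.1 hk2) hy.1, fun e => hy.2 (nb k (mem_St.1 (b5 k1)) y e)⟩)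
      (fun y hy => ⟨smul_mem_F1 t3 hy.1, fun e => hy.2 (nb z (fun y hy => hy z d.zP) y e)⟩)
      (fun y hy e => hy.2 (d.mem (fun g hg => by rw [mem_bot.1 hg, one_smul]) e))
      (fun y _ => d.zz y) ⟨t4, d.xP⟩
  have zv : Commute z v := commutatorElement_eq_one_iff_commute.1 (mem_bot.1 v4)
  have zw : Commute z w := commutatorElement_eq_one_iff_commute.1 (mem_bot.1 w4)
  have v0 : v ≠ 1 := fun e => hj' (by rw [e, one_smul])
  have w0 : w ≠ 1 := fun e => by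
    rw [e, Set.inter_eq_right.2 (show Fx Ω (P F) ⊆ F1 Ω (1 : G) from fun y _ => one_smul G y)] at w7
    omega
  have n0 : v ≠ w := fun e => hj' (by rw [e, wj])
  refine le_of_four (odd_card_of_forall fun k hk => (mem_oddPart.1 hk).2) v3 w3 v0 w0 n0 cvw
    (nK v v2) (nK w w2) (key v v3 v0 zv v8 v7.ge) (key w w3 w0 zw w8 w7.ge)
    (key (v * w) (by rw [mul_assoc, ← mul_assoc w, ← cvw.eq, mul_assoc, w3, mul_one, v3])
      (fun e => n0 (by rw [eq_inv_of_mul_eq_one_left e, inv_eq_of_mul_eq_one_right w3]))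
      (zv.mul_right zw) (by rw [mul_smul, w8, v8]) ?_) (mem_oddPart.2 ⟨ho, ho'⟩)
  have l1 := Set.ncard_union_add_ncard_inter (F1 Ω v ∩ Fx Ω (P F)) (F1 Ω w ∩ Fx Ω (P F))
  rw [← Set.inter_inter_distrib_right, t12, Set.ncard_singleton, v7, w7] at l1
  obtain ⟨c, e, ce, hce⟩ : ∃ c e, c ≠ e ∧
      Fx Ω (P F) \ (F1 Ω v ∩ Fx Ω (P F) ∪ F1 Ω w ∩ Fx Ω (P F)) = {c, e} := by
    rw [← Set.ncard_eq_two, Set.ncard_sdiff (Set.union_subset Set.inter_subset_right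
      Set.inter_subset_right)]
    omega
  have m1 : ∀ y, y ∈ ({c, e} : Set Ω) ↔ y ∈ Fx Ω (P F) ∧ v • y ≠ y ∧ w • y ≠ y := fun y => by
    rw [← hce]
    exact ⟨fun hy => ⟨hy.1, fun a => hy.2 (Or.inl ⟨a, hy.1⟩), fun a => hy.2 (Or.inr ⟨a, hy.1⟩)⟩,
      fun hy => ⟨hy.1, fun a => a.elim (fun a => hy.2.1 a.1) fun a => hy.2.2 a.1⟩⟩
  have m2 : ∀ y ∈ ({c, e} : Set Ω), (v * w) • y = y := fun y hy => by
    obtain ⟨y1, y2, y3⟩ := (m1 y).1 hy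
    have a1 := (m1 (v • y)).2 ⟨smul_mem_Fx v2 y1, by rw [vv]; exact y2.symm,
      by rw [← svw y y1]; exact fun a => y3 (smul_left_cancel v a)⟩
    have a2 := (m1 (w • y)).2 ⟨smul_mem_Fx w2 y1,
      by rw [svw y y1]; exact fun a => y2 (smul_left_cancel w a), by rw [ww]; exact y3.symm⟩
    have a3 : w • y = v • y := by
      rcases hy with rfl | rfl
      · rw [a1.resolve_left y2, a2.resolve_left y3]
      · rw [a1.resolve_right y2, a2.resolve_right y3]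
    rw [mul_smul, a3, vv]
  have pc : p ∉ ({c, e} : Set Ω) := fun a => ((m1 p).1 a).2.1 pv
  have l2 : (insert p {c, e} : Set Ω).ncard = 3 := by
    rw [Set.ncard_insert_of_notMem pc, Set.ncard_pair ce]
  refine l2 ▸ Set.ncard_le_ncard ?_
  rintro y (rfl | hy)
  · exact ⟨by rw [mem_F1, mul_smul, pw, pv], p1.1.2⟩
  · exact ⟨m2 y hy, ((m1 y).1 hy).1⟩

theorem k7b (blk : BlkStmt.{u}) (mq : MqStmt.{u}) (k7a : K7aStmt.{u}) : K7bStmt.{u} := by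
  intro G Ω _ _ _ _ K P h hk Q hQ
  obtain ⟨F, s1, hF⟩ := Set.exists_subset_card_eq (n := 4) (s := Fx Ω Q) (by have := hQ.big; omega)
  obtain ⟨m1, m2, -, -, m5, m6⟩ := mq G Ω K P h 7 hk Q hQ F s1 hF
  obtain ⟨z, ⟨-, z1⟩, z2, -⟩ := m6 ⊥ IsPGroup.of_bot bot_le bot_le
  have n7 := k7a G Ω K P h hk F hF
  have nm : P F ≤ Nm Q := fun g hg => mem_Nm_of_finite fun a ha => by
    rwa [(n7.comm g hg a (m1 ha)).eq, mul_inv_cancel_right]
  have key := fun x (h1 : x ∈ Fx Ω Q) (h2 : x ∉ Fx Ω (P F)) => main blk mq k7a h hk hQ hF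
    (z := z) (x := x) ⟨m1, n7, m2, z1, z2, fun g hg hg' => m5 g ⟨nm hg, hg⟩ hg', h1, h2⟩
  obtain ⟨x, x1, x2⟩ : ∃ x ∈ Fx Ω Q, x ∉ Fx Ω (P F) := by
    by_contra hc
    push Not at hc
    have := Set.ncard_le_ncard (show Fx Ω Q ⊆ Fx Ω (P F) from hc)
    have := hQ.big
    have := hk F hF
    omega
  obtain ⟨r1, r2, -⟩ := key x x1 x2
  obtain ⟨-, -, -, -, b5, -, -, -, -, -, b11, -⟩ := blk G Ω K P h F hF
  have r3 : K F ≤ P F := fun k hk => by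
    obtain ⟨a, b, e, e1, e2⟩ := exists_two_odd k
    have : k ^ b = 1 := h.faith _ fun y => by
      by_cases hy : y ∈ Fx Ω (P F)
      · exact mem_St.1 (b5 (pow_mem hk b)) y hy
      · exact (key y (fun g hg => by rw [r2, mem_bot] at hg; rw [hg, one_smul]) hy).2.2 _
          (pow_mem hk b) e2
    rw [this, mul_one] at e
    exact (h.memP F hF k).2 ⟨(h.fr F hF).le hk, e ▸ e1⟩
  refine ⟨r2, fun F' hF' => ?_⟩
  obtain ⟨-, c1, c2, -⟩ := b11 F' hF'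
  exact ⟨c1.trans r1, (eq_of_le_of_card_ge (h.P_le F' hF') (by
    rw [c1, c2]; exact card_le_of_le r3)).symm⟩

end Cfsg.Agent.H52.Q4K7b
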