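import Cfsg.Agent.H58.Q4K

/-! Project Q4, piece QUO. -/

set_option autoImplicit false
set_option linter.unusedSectionVars false

namespace Cfsg.Agent.H52.Q4Quo

open Subgroup Equiv Function Cfsg.Agent.H58.Q4
open scoped Pointwise commutatorElement

universe u

variable {G Ω : Type u} [Group G] [Finite G] [MulAction G Ω] [Finite Ω]

/-- The group induced on an invariant subset. -/
theorem exists_ind (N : Subgroup G) (Ψ : Set Ω) (hN : ∀ g ∈ N, ∀ x ∈ Ψ, g • x ∈ Ψ) :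
    ∃ (G' : Type u) (_ : Group G') (_ : Finite G') (_ : MulAction G' Ψ) (π : N →* G'),
      Surjective π ∧ (∀ (g : N) (y : Ψ), ((π g • y : Ψ) : Ω) = (g : G) • (y : Ω)) ∧
      ∀ g' : G', (∀ y : Ψ, g' • y = y) → g' = 1 := by
  let Z : SubMulAction N Ω := ⟨Ψ, fun c x hx => hN c c.2 x hx⟩
  let _ : MulAction N Ψ := (inferInstance : MulAction N Z)
  exact ⟨(MulAction.toPermHom N Ψ).range, inferInstance, inferInstance, inferInstance,
    (MulAction.toPermHom N Ψ).rangeRestrict, MonoidHom.rangeRestrict_surjective _, fun _ _ => rfl,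
    fun g' h => Subtype.ext (Equiv.ext h)⟩

/-- the elements of order a power of three of a nilpotent subgroup -/
def thr (K : Subgroup G) (hK : Group.IsNilpotent K) : Subgroup G where
  carrier := {k | k ∈ K ∧ ∃ n : ℕ, k ^ 3 ^ n = 1}
  one_mem' := ⟨one_mem _, 0, one_pow _⟩
  inv_mem' := fun ⟨h, n, e⟩ => ⟨inv_mem h, n, by rw [inv_pow, e, inv_one]⟩
  mul_mem' := fun {a b} ⟨ha, n, ea⟩ ⟨hb, m, eb⟩ => ⟨mul_mem ha hb, by
    have := Fact.mk Nat.prime_three
    obtain ⟨S⟩ : Nonempty (Sylow 3 K) := inferInstance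
    have key : ∀ (x : G) (hx : x ∈ K) (n : ℕ), x ^ 3 ^ n = 1 → (⟨x, hx⟩ : K) ∈ S := fun x hx n e => by
      have h1 : IsPGroup 3 (zpowers (⟨x, hx⟩ : K)) := by
        obtain ⟨k, -, hk⟩ := (Nat.dvd_prime_pow Nat.prime_three).1
          (orderOf_dvd_of_pow_eq_one (x := (⟨x, hx⟩ : K)) (Subtype.ext e))
        exact IsPGroup.of_card (by rw [Nat.card_zpowers, hk])
      obtain ⟨T, hT⟩ := h1.exists_le_sylow
      have := Sylow.unique_of_normal S inferInstance
      rw [Subsingleton.elim S T]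
      exact hT (mem_zpowers _)
    obtain ⟨k, hk⟩ := S.isPGroup' ⟨_, mul_mem (key a ha n ea) (key b hb m eb)⟩
    exact ⟨k, congrArg (fun x : S => ((x : K) : G)) hk⟩⟩

theorem quo (fr : FrStmt.{u}) (witt : WittStmt.{u}) (blk : BlkStmt.{u}) : QuoStmt.{u} := by
  intro G Ω _ _ _ _ K P h F hF h3 Δ hΔ h1 h2 h4
  have f0 := h.fr F hF
  obtain ⟨a1, a2, -⟩ := fr G _ _ f0
  set S := thr (K F) f0.nil with hS
  have memS : ∀ g, g ∈ S ↔ g ∈ St G F ∧ ∃ n : ℕ, g ^ 3 ^ n = 1 := fun g =>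
    ⟨fun hg => ⟨f0.le hg.1, hg.2⟩, fun ⟨hg, n, e⟩ => ⟨by
      by_contra hc
      have c1 : (orderOf g).Coprime 3 := (Nat.Coprime.coprime_dvd_left h3
        (Nat.Coprime.coprime_dvd_right (a2 g hg hc) a1)).symm
      have c2 := (c1.pow_right n).eq_one_of_dvd (orderOf_dvd_of_pow_eq_one e)
      exact hc (orderOf_eq_one_iff.1 c2 ▸ one_mem _), n, e⟩⟩
  have cj3 : ∀ g x : G, (∃ n : ℕ, x ^ 3 ^ n = 1) → ∃ n : ℕ, (g * x * g⁻¹) ^ 3 ^ n = 1 :=
    fun g x ⟨n, e⟩ => ⟨n, by rw [conj_pow, e, mul_one, mul_inv_cancel]⟩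
  have tr : Tr4 (Nm S) (Fx Ω S) := witt G Ω h.tr F hF S (fun g hg => ((memS g).1 hg).1)
    fun g hg => ⟨1, one_mem _, fun x hx => by
      rw [one_mul, inv_one, mul_one]
      exact (memS _).2 ⟨hg x hx, cj3 g x hx.2⟩⟩
  have sΔ : Δ ⊆ Fx Ω S := le_St_iff.1 fun g hg => h4 g hg.1 (by
    obtain ⟨n, e⟩ := hg.2
    exact Odd.of_dvd_nat (Odd.pow (by decide)) (orderOf_dvd_of_pow_eq_one e))
  set Ψ := Fx Ω S with hΨ
  set N := Nm S with hN
  have inv : ∀ g ∈ N, ∀ x ∈ Ψ, g • x ∈ Ψ := fun g hg x hx => smul_mem_Fx hg hx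
  have nD : ∀ g ∈ N, ∀ k ∈ St G Ψ, g * k * g⁻¹ ∈ St G Ψ := fun g hg k hk => by
    have := (conj_mem_St (g := g)).2 hk
    rwa [smul_eq_of_mapsTo (inv g hg)] at this
  -- transport
  have tp : ∀ E ⊆ Ψ, E.ncard = 4 → ∃ g ∈ N, g • F = E := by
    intro E hE h4
    have en : ∀ X : Set Ω, X.ncard = 4 → ∃ a : Fin 4 → Ω, Injective a ∧ Set.range a = X := by
      intro X hX
      have := Fintype.ofFinite X
      let e := (Fintype.equivFinOfCardEq (α := X) (n := 4)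
        (by rw [← Nat.card_eq_fintype_card]; exact hX)).symm
      exact ⟨fun i => e i, Subtype.val_injective.comp e.injective, by
        rw [show (fun i => (e i : Ω)) = Subtype.val ∘ e from rfl, Set.range_comp,
          e.range_eq_univ, Set.image_univ, Subtype.range_coe]⟩
    obtain ⟨a, a1, a2⟩ := en F hF
    obtain ⟨b, b1, b2⟩ := en E h4
    obtain ⟨g, hg, e⟩ := tr a b a1 b1 (fun i => sΔ (hΔ (a2 ▸ ⟨i, rfl⟩))) (fun i => hE (b2 ▸ ⟨i, rfl⟩))
    refine ⟨g, hg, ?_⟩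
    rw [← a2, ← b2, Set.smul_set_range]
    exact congrArg Set.range (funext e)
  have loc : ∀ E ⊆ Ψ, E.ncard = 4 → St G E ≤ N ∧ St G Ψ ≤ K E ∧ ¬ P E ≤ St G Ψ := by
    intro E hE h4
    obtain ⟨g, hg, rfl⟩ := tp E hE h4
    refine ⟨fun x hx => ?_, fun x hx => ?_, fun hx => h2 fun x hx' => ?_⟩
    · have e1 : g⁻¹ * x * g ∈ St G F := (conj_mem_St (g := g)).1 (by simpa [mul_assoc] using hx)
      have e2 : g⁻¹ * x * g ∈ N := mem_Nm_of_finite fun s hs => (memS _).2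
        ⟨mul_mem (mul_mem e1 ((memS s).1 hs).1) (inv_mem e1), cj3 _ s hs.2⟩
      have := mul_mem (mul_mem hg e2) (inv_mem hg)
      simpa [mul_assoc] using this
    · have := h.conj F hF g _ (h1 (St_anti sΔ (nD g⁻¹ (inv_mem hg) x hx)))
      simpa [mul_assoc] using this
    · obtain ⟨-, -, -, -, -, -, -, -, b, -⟩ := blk G Ω K P h F hF
      have := nD g⁻¹ (inv_mem hg) _ (hx (((b g).2 x).1 hx'))
      exact St_anti sΔ (by simpa [mul_assoc] using this)
  obtain ⟨G', _, _, _, π, p1, p2, p3⟩ := exists_ind N Ψ inv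
  let im : Subgroup G → Subgroup G' := fun U => (U.subgroupOf N).map π
  have mim : ∀ (U : Subgroup G) (g : N), (g : G) ∈ U → π g ∈ im U := fun U g hg => ⟨g, hg, rfl⟩
  have ker : ∀ g : N, π g = 1 ↔ (g : G) ∈ St G Ψ := fun g =>
    ⟨fun e => mem_St.2 fun x hx => by rw [← p2 g ⟨x, hx⟩, e, one_smul],
      fun e => p3 _ fun y => Subtype.ext (by rw [p2, mem_St.1 e y y.2])⟩
  have st : ∀ (E : Set Ψ) (g : N), π g ∈ St G' E ↔ (g : G) ∈ St G (Subtype.val '' E) := fun E g => by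
    simp only [mem_St, Set.forall_mem_image, Subtype.ext_iff, p2]
  have ste : ∀ E : Set Ψ, St G' E = im (St G (Subtype.val '' E)) := fun E => by
    ext g'
    obtain ⟨g, rfl⟩ := p1 g'
    refine ⟨fun hg => mim _ g ((st E g).1 hg), ?_⟩
    rintro ⟨k, hk, e⟩
    exact e ▸ (st E k).2 hk
  have nc : ∀ E : Set Ψ, E.ncard = 4 → (Subtype.val '' E : Set Ω).ncard = 4 := fun E hE => by
    rw [Set.ncard_image_of_injective _ Subtype.val_injective, hE]
  have sb : ∀ E : Set Ψ, (Subtype.val '' E : Set Ω) ⊆ Ψ := fun E => Subtype.coe_image_subset _ _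
  have cmp : ∀ U : Subgroup G, St G Ψ ≤ U → ∀ g : N, π g ∈ im U → (g : G) ∈ U := by
    rintro U hU g ⟨k, hk, e⟩
    have : ((k⁻¹ * g : N) : G) ∈ U := hU ((ker _).1 (by rw [map_mul, map_inv, e, inv_mul_cancel]))
    simpa using mul_mem (show (k : G) ∈ U from hk) this
  have pne : ∀ E : Set Ψ, E.ncard = 4 → im (P (Subtype.val '' E)) ≠ ⊥ := fun E hE e => by
    obtain ⟨l1, l2, l3⟩ := loc _ (sb E) (nc E hE)
    refine l3 fun x hx => ?_
    have xN := l1 ((h.memP _ (nc E hE) x).1 hx).1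
    exact (ker ⟨x, xN⟩).1 (mem_bot.1 (e ▸ mim _ ⟨x, xN⟩ hx))
  have ple : ∀ E : Set Ψ, E.ncard = 4 → im (P (Subtype.val '' E)) ≤ im (K (Subtype.val '' E)) :=
    fun E hE => map_mono (comap_mono (h.P_le _ (nc E hE)))
  refine ⟨G', Ψ, inferInstance, inferInstance, inferInstance, inferInstance,
    fun E => im (K (Subtype.val '' E)), fun E => im (P (Subtype.val '' E)), Subtype.val ⁻¹' F,
    ⟨⟨p3, ?_, fun E hE => ?_, fun E hE g' k' hk' => ?_⟩, fun E hE g' => ?_, ple, pne⟩, ?_, ?_, ?_⟩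
  · intro a b ha hb _ _
    obtain ⟨g, hg, e⟩ := tr (fun i => a i) (fun i => b i) (Subtype.val_injective.comp ha)
      (Subtype.val_injective.comp hb) (fun i => (a i).2) (fun i => (b i).2)
    exact ⟨π ⟨g, hg⟩, mem_top _, fun i => Subtype.ext (by rw [p2, e])⟩
  · obtain ⟨l1, l2, l3⟩ := loc _ (sb E) (nc E hE)
    have f1 := h.fr _ (nc E hE)
    refine ⟨ste E ▸ map_mono (comap_mono f1.le), ?_, ?_, fun e => pne E hE (eq_bot_iff.2 (e ▸ ple E hE)),
      fun e => f1.ne_top (le_antisymm f1.le fun x hx => ?_), ?_⟩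
    · rintro g' hg _ ⟨k, hk, rfl⟩
      obtain ⟨g, rfl⟩ := p1 g'
      rw [← map_inv, ← map_mul, ← map_mul]
      exact mim _ _ (f1.nrm g ((st E g).1 hg) k hk)
    · have := f1.nil
      have : Group.IsNilpotent ((K (Subtype.val '' E)).subgroupOf N) :=
        Group.nilpotent_of_mulEquiv (subgroupOfEquivOfLe (f1.le.trans l1)).symm
      exact Group.nilpotent_of_surjective (π.subgroupMap _) (π.subgroupMap_surjective _)
    · exact cmp _ l2 ⟨x, l1 hx⟩ (e ▸ (st E ⟨x, l1 hx⟩).2 hx)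
    · rintro g' hg hg' _ ⟨k, hk, rfl⟩ hc
      obtain ⟨g, rfl⟩ := p1 g'
      have g1 := (st E g).1 hg
      obtain ⟨-, -, -, a4, -⟩ := fr G _ _ f1
      refine (ker k).2 (a4 g g1 (fun e => hg' (mim _ g e)) _ (St G Ψ) le_rfl l2
        (mem_Nm_of_finite (f1.nrm g g1)) (mem_Nm_of_finite (nD g g.2))
        (fun x hx => mem_Nm_of_finite (nD x (l1 (f1.le hx)))) k hk ((ker (g * k * g⁻¹ * k⁻¹)).1 ?_))
      rw [map_mul, map_mul, map_mul, map_inv, map_inv, hc.eq]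
      group
  · obtain ⟨g, rfl⟩ := p1 g'
    obtain ⟨k, hk, rfl⟩ := hk'
    rw [← map_inv, ← map_mul, ← map_mul]
    refine mim _ _ ?_
    have e : (Subtype.val '' (π g • E) : Set Ω) = (g : G) • (Subtype.val '' E : Set Ω) := by
      rw [← Set.image_smul, ← Set.image_smul, Set.image_image, Set.image_image]
      exact Set.image_congr fun y _ => p2 g y
    rw [e]
    exact h.conj _ (nc E hE) g k hk
  · constructor
    · rintro ⟨k, hk, rfl⟩
      obtain ⟨k1, n, k2⟩ := (h.memP _ (nc E hE) k).1 hk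
      exact ⟨(st E k).2 k1, n, by rw [← map_pow, show k ^ 2 ^ n = 1 from Subtype.ext k2, map_one]⟩
    · rintro ⟨hg, ht⟩
      obtain ⟨g, rfl⟩ := p1 g'
      obtain ⟨a, b, e, e1, e2⟩ := exists_two_odd g
      have e3 : π (g ^ b) = 1 := by
        refine Tw.eq_one ?_ (e2.of_dvd_nat (orderOf_map_dvd π _))
        obtain ⟨n, hn⟩ := ht
        exact ⟨n, by rw [map_pow, ← pow_mul, mul_comm, pow_mul, hn, one_pow]⟩
      rw [← e, map_mul, e3, mul_one]
      refine mim _ _ ((h.memP _ (nc E hE) _).2 ⟨pow_mem ((st E g).1 hg) a, ?_⟩)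
      obtain ⟨n, hn⟩ := e1
      exact ⟨n, congrArg Subtype.val hn⟩
  · refine Set.ncard_lt_card fun e => ?_
    have := Fact.mk Nat.prime_three
    obtain ⟨k, hk⟩ := exists_prime_orderOf_dvd_card' 3 h3
    have k1 : (k : G) ∈ S := ⟨k.2, 1, by rw [pow_one, ← hk, ← coe_pow, pow_orderOf_eq_one, coe_one]⟩
    have k2 : k = 1 := Subtype.ext (h.faith k fun x => (e ▸ Set.mem_univ x : x ∈ Ψ) k k1)
    rw [k2, orderOf_one] at hk
    omega
  · rw [Set.ncard_preimage_of_injective_subset_range Subtype.val_injective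
      (by rw [Subtype.range_coe]; exact hΔ.trans sΔ), hF]
  · have e : (Subtype.val '' (Subtype.val ⁻¹' F : Set Ψ) : Set Ω) = F :=
      Set.image_preimage_eq_of_subset (by rw [Subtype.range_coe]; exact hΔ.trans sΔ)
    obtain ⟨l1, l2, -⟩ := loc F (hΔ.trans sΔ) hF
    simp only [ste, e, im]
    rw [← relIndex_comap, ← relIndex_subgroupOf l1]
    congr 1
    exact le_antisymm (fun g hg => cmp _ l2 g hg) (le_comap_map _ _)

end Cfsg.Agent.H52.Q4Quo
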