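import Cfsg.Agent.H52.W6c

/-! The weakening `W6`: the local theorem. -/

set_option autoImplicit false
set_option linter.unusedSectionVars false

namespace Cfsg.Agent.H72.N6

open Cfsg Subgroup Cfsg.Agent.H63 Cfsg.Agent.H67 Cfsg.Agent.H72.SC Cfsg.Agent.H52.Wk
open scoped commutatorElement

variable {G : Type*} [Group G] [Finite G]

namespace Big

section

variable {T Q : Subgroup G} {x t : G} (b : Big T Q x t) (m : Mx Q) (h6 : W6 G)
include b m h6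

theorem exvW : ∃ v ∈ Q, v ∉ Q ⊓ C1[t] := by
  obtain ⟨z, hz, z1⟩ := exists_ne_one_of_ne_bot m.ne
  by_contra! h
  exact b.p.outW h6 m.two hz z1 (mem_centralizer_singleton_iff.1 (h z hz).2)
    (mem_centralizer_singleton_iff.1 (h _ (conj_mem_of_mem_normalizer b.hx hz)).2)

theorem ztW : Z[T] = Q ⊓ C1[t] := by
  refine le_antisymm (fun a ha => ⟨?_, centralizer_le_centralizer_singleton b.ht ha.2⟩)
    (le_inf (inf_le_left.trans b.le) b.cent)
  by_contra h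
  obtain ⟨v, hv, v1⟩ := b.exvW m h6
  exact v1 ⟨hv, mem_centralizer_singleton_iff.2
    ((b.cen a ha.1 h v hv).1 (ha.2 v (b.le hv)).symm).symm⟩

theorem idxW : Q.relIndex T ≤ Nat.card ↥(Q ⊓ C1[t]) := by
  obtain ⟨v, hv, v1⟩ := b.exvW m h6
  let φ : T →* ↥(Q ⊓ C1[t]) := MonoidHom.mk' (fun a => ⟨⁅(a : G), v⁆, b.br a.2 (b.le hv)⟩)
    fun a c => Subtype.ext (by
      have h1 := b.cent (b.br c.2 (b.le hv)) a a.2
      have h2 := b.cent (b.br c.2 (b.le hv)) _ (b.le (b.br a.2 (b.le hv)).1)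
      calc ⁅(a : G) * c, v⁆ = (a * ⁅(c : G), v⁆) * (a : G)⁻¹ * ⁅(a : G), v⁆ := by
            simp only [commutatorElement_def]; group
        _ = ⁅(c : G), v⁆ * ⁅(a : G), v⁆ := by rw [h1]; group
        _ = _ := h2.symm)
  have : φ.ker = Q.subgroupOf T := by
    ext a
    rw [MonoidHom.mem_ker, Subtype.ext_iff]
    refine commutatorElement_eq_one_iff_mul_comm.trans ⟨fun h => ?_, fun h => b.ea.comm h hv⟩
    by_contra h1
    exact v1 ⟨hv, mem_centralizer_singleton_iff.2 ((b.cen a a.2 h1 v hv).1 h).symm⟩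
  rw [relIndex, ← this, index_ker]
  exact card_le_card_group _

theorem utW {s : G} (hs : s ∈ N[T]) (s1 : s ∉ N[Q]) : H82.UT T Q (cj s Q) (Q ⊓ C1[t]) := by
  have hB : cj s Q ≤ T := cj_le_of_mem_normalizer hs b.le
  have eB : H62.EA (cj s Q) := by
    rintro _ ⟨a, ha, rfl⟩
    rw [← map_mul, b.ea a ha, map_one]
  have c1 := b.p.cardW h6 m.two b.hx (b.syl.1 b.ht)
  obtain ⟨c, hc, c2⟩ : ∃ c ∈ cj s Q, c ∉ Q := by
    by_contra! h
    exact s1 (mem_normalizer_of_cj_le h)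
  have l1 : cj s Q ⊓ Q ≤ Q ⊓ C1[t] := fun a ha => ⟨ha.2, mem_centralizer_singleton_iff.2
    ((b.cen c (hB hc) c2 a ha.2).1 (eB.comm hc ha.1)).symm⟩
  have c3 := card_sup_mul_card_inf (hB.trans b.syl.1)
  have c4 := card_le_of_le l1
  have c5 := card_le_of_le (sup_le hB b.le)
  have c6 := card_mul_relIndex b.le
  have c7 := b.idxW m h6
  have c8 := cpos (Q ⊓ C1[t])
  rw [card_cj] at c3
  have e1 : Nat.card T ≤ Nat.card ↥(cj s Q ⊔ Q) := by
    refine Nat.le_of_mul_le_mul_right ?_ c8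
    calc _ ≤ Nat.card Q * Nat.card ↥(Q ⊓ C1[t]) * Nat.card ↥(Q ⊓ C1[t]) := by
          rw [← c6]; gcongr
      _ = _ := by rw [mul_assoc, ← c1, ← c3]
      _ ≤ _ := by gcongr
  have e2 : Nat.card ↥(Q ⊓ C1[t]) ≤ Nat.card ↥(cj s Q ⊓ Q) := by
    refine Nat.le_of_mul_le_mul_left ?_ (mul_pos (cpos Q) c8)
    calc _ = Nat.card ↥(cj s Q ⊔ Q) * Nat.card ↥(cj s Q ⊓ Q) := by rw [mul_assoc, ← c1, c3]
      _ ≤ _ := by
        gcongr
        calc _ ≤ _ := c5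
          _ ≤ _ := by rw [← c6]; gcongr
  have e3 := eq_of_le_of_card_le l1 e2
  refine ⟨b.T2, b.le, hB, fun a ha => ?_, by rw [← e3, inf_comm], b.ea, eB,
    fun a ha c hc => b.br (b.le ha) (hB hc), fun a ha c hc h => ?_, c1, by rw [card_cj, c1], ?_⟩
  · rw [← eq_of_le_of_card_le (sup_le hB b.le) e1, sup_comm] at ha
    obtain ⟨q, hq, c, hc, e⟩ := (mem_sup_of_le_normalizer' (hB.trans b.syl.1)).1 ha
    exact ⟨q, hq, c, hc, e.symm⟩
  · by_cases h1 : c ∈ Q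
    · exact Or.inr (l1 ⟨hc, h1⟩)
    · exact Or.inl ⟨ha, mem_centralizer_singleton_iff.2 ((b.cen c (hB hc) h1 a ha).1 h.symm).symm⟩
  · obtain ⟨f, hf, f1, f2⟩ := b.ex
    have t1 := b.p.notMemW h6 m.two b.hx
    have n0 := relIndex_ne_zero' Q T
    have n1 : Q.relIndex T ≠ 1 := fun e => f1 (relIndex_eq_one.1 e hf)
    have n2 : Q.relIndex T ≠ 2 := fun e => f2 (mul2 b.le (by rw [← c6, e, mul_comm]) hf b.ht f1 t1)
    omega

end

variable {T Q : Subgroup G} {x t : G} (b : Big T Q x t) (m : Mx Q) (h6 : W6 G) {B : Subgroup G}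
  (u : H82.UT T Q B (Q ⊓ C1[t]))
include b m h6 u

theorem moveW {z : G} (hz : z ∈ Q ⊓ C1[t]) (z1 : z ≠ 1) :
    ∃ y ∈ N[T], y ∈ N[Q] ∧ y * z * y⁻¹ ≠ z := by
  obtain ⟨w, hw, w1, w2⟩ : ∃ w ∈ Q ⊓ C1[t], w ≠ 1 ∧ w ≠ z := by
    by_contra! h
    have := card_le_of_le (show Q ⊓ C1[t] ≤ zpowers z from fun w hw => by
      by_cases e : w = 1
      · exact e ▸ one_mem _
      · exact h w hw e ▸ Subgroup.mem_zpowers _)
    rw [Nat.card_zpowers, ord2 (b.ea z hz.1) z1] at this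
    exact absurd u.big (by omega)
  have m1 := conj_mem_of_mem_normalizer b.hx hw.1
  have m2 := conj_mem_of_mem_normalizer (inv_mem b.hx) hz.1
  obtain ⟨c, hc, e1⟩ := u.surj m1 (fun h => b.p.outW h6 m.two hw.1 w1
    (mem_centralizer_singleton_iff.1 hw.2) (mem_centralizer_singleton_iff.1 h.2)) hz
  obtain ⟨d, hd, e2⟩ := u.surj m2 (fun h => b.p.symm.outW h6 m.two hz.1 z1
    (mem_centralizer_singleton_iff.1 hz.2) (mem_centralizer_singleton_iff.1 h.2)) hw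
  have hg : x⁻¹ * c⁻¹ * x * d * x⁻¹ ∈ N[Q] := mul_mem (mul_mem (mul_mem (mul_mem (inv_mem b.hx)
    (inv_mem (b.syl.1 (u.B_le hc)))) b.hx) (b.syl.1 (u.B_le hd))) (inv_mem b.hx)
  have e : x⁻¹ * c⁻¹ * x * d * x⁻¹ * z * (x⁻¹ * c⁻¹ * x * d * x⁻¹)⁻¹ = w := by
    calc _ = x⁻¹ * c⁻¹ * x * (d * (x⁻¹ * z * x⁻¹⁻¹) * d⁻¹) * x⁻¹ * c * x := by group
      _ = x⁻¹ * c⁻¹ * (x * w * x⁻¹ * z) * c * x := by rw [e2]; group
      _ = w := by rw [b.ea.comm m1 hz.1, ← e1]; group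
  generalize x⁻¹ * c⁻¹ * x * d * x⁻¹ = g at hg e
  have s1 : IsSyl 2 T (N[Q] ⊓ C1[w]) :=
    hall_of_le b.syl (le_inf b.syl.1 (mem_centralizer_iff_le.1 (b.cent hw))) inf_le_left
  have s2 : IsSyl 2 (cj g T) (N[Q] ⊓ C1[w]) :=
    hall_of_le (hall_cj_of_mem b.syl hg) (le_inf (cj_le_of_mem hg b.syl.1) (by
      rw [← e, ← cj_centralizer_singleton]
      exact cj_mono (mem_centralizer_iff_le.1 (b.cent hz)))) inf_le_left
  obtain ⟨k, hk, e3⟩ := syl_conj s2 s1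
  refine ⟨k * g, cj_eq_self_iff.1 (by rw [cj_mul, ← e3]), mul_mem hk.1 hg, ?_⟩
  rw [show k * g * z * (k * g)⁻¹ = k * (g * z * g⁻¹) * k⁻¹ by group, e,
    mem_centralizer_singleton_iff.1 hk.2, mul_inv_cancel_right]
  exact w2

/-- no involution of `N(T) ∖ N(Q)` acts as a transvection on `Z(T)`. -/
theorem notvW {a : G} (ha : a ∈ N[T]) (a1 : a ∉ N[Q]) (a2 : a * a = 1)
    (i : ∀ c ∈ Q ⊓ C1[t], ∀ d ∈ Q ⊓ C1[t], c ∉ Q ⊓ C1[t] ⊓ C1[a] → d ∉ Q ⊓ C1[t] ⊓ C1[a] →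
      c * d ∈ Q ⊓ C1[t] ⊓ C1[a]) : a ∈ C[Q ⊓ C1[t]] := by
  have nZ : N[T] ≤ N[Q ⊓ C1[t]] := b.ztW m h6 ▸ normalizer_le_normalizer_center T
  have cZ := le_centralizer_iff.1 b.cent
  have mv := fun {z} => b.moveW m h6 u (z := z)
  have ea := u.eaU
  generalize Q ⊓ C1[t] = Z at *
  by_contra h
  obtain ⟨e, he, e1⟩ : ∃ e ∈ Z, e ∉ Z ⊓ C1[a] := by
    by_contra! h1
    exact h (mem_centralizer_iff_le.2 fun e he => (h1 e he).2)
  have ae := conj_mem_of_mem_normalizer (nZ ha) he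
  obtain ⟨y, hy, hy', y1⟩ := mv (mul_mem ae he) fun h => e1 ⟨he, mem_centralizer_singleton_iff.2 (by
    rw [eq_comm, ← mul_inv_eq_iff_eq_mul, eq_inv_of_mul_eq_one_left h, ea.inv he])⟩
  have ha' : y * a * y⁻¹ ∈ N[T] := mul_mem (mul_mem hy ha) (inv_mem hy)
  have a1' : y * a * y⁻¹ ∉ N[Q] := fun h =>
    a1 (by rwa [mul_mem_cancel_right (inv_mem hy'), mul_mem_cancel_left hy'] at h)
  have hw := swap_mul u ha ha' a1 a1'
  have yc := fun {c} (hc : c ∈ Z) => conj_mem_of_mem_normalizer' (nZ hy) hc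
  have ym : ∀ {c}, c ∈ Z → (c ∈ Z ⊓ C1[y * a * y⁻¹] ↔ y⁻¹ * c * y ∈ Z ⊓ C1[a]) := fun hc => by
    rw [← cj_centralizer_singleton]
    exact ⟨fun h => ⟨yc hc, mem_cj.1 h.2⟩, fun h => ⟨hc, mem_cj.2 h.2⟩⟩
  rcases H52.N6F.tt ea inf_le_left inf_le_left i (H' := Z ⊓ C1[y * a * y⁻¹]) (fun c hc d hd c1 d1 => by
      rw [ym (mul_mem hc hd), show y⁻¹ * (c * d) * y = y⁻¹ * c * y * (y⁻¹ * d * y) by group]
      exact i _ (yc hc) _ (yc hd) (mt (ym hc).2 c1) (mt (ym hd).2 d1)) (nZ ha) (nZ ha')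
    (mem_centralizer_iff_le.2 inf_le_right) (mem_centralizer_iff_le.2 inf_le_right) with h4 | h3
  · obtain ⟨k, o, ho, eo⟩ := Nat.exists_eq_two_pow_mul_odd (orderOf_pos (a * (y * a * y⁻¹))).ne'
    have hw' := mem_of_pows (show Nat.Coprime 4 o from
      Nat.Coprime.pow_left 2 (Nat.coprime_two_left.2 ho)) h4 (cZ (zpowers_le.1
        (le_syl_of_le_normalizer b.syl (zpowers_le.2 (pow_mem hw o)) (H62.Is2.isPGroup_zpowers
          ⟨k, by rw [← pow_mul, mul_comm, ← eo, pow_orderOf_eq_one]⟩)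
          (Or.inr (zpowers_le.2 (pow_mem (mul_mem ha ha') o))))))
    have e2 : y * (a * (y⁻¹ * e * y) * a⁻¹) * y⁻¹ = a * e * a⁻¹ := by
      calc _ = a⁻¹ * (a * (y * a * y⁻¹) * e * (a * (y * a * y⁻¹))⁻¹) * a := by group
        _ = (a * a)⁻¹ * (a * e * a⁻¹) * (a * a) := by
          rw [conj_eq_of_mem_centralizer hw' he]; group
        _ = _ := by rw [a2]; group
    have n1 : y⁻¹ * e * y ∉ Z ⊓ C1[a] := fun h => e1 ⟨he, mem_centralizer_singleton_iff.2 (by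
      rw [← mem_centralizer_singleton_iff.1 h.2] at e2
      calc e * a = y * (y⁻¹ * e * y * a * a⁻¹) * y⁻¹ * a := by group
        _ = _ := by rw [e2]; group)⟩
    have e3 := mem_centralizer_singleton_iff.1 (i _ he _ (yc he) e1 n1).2
    refine y1 ?_
    have e4 : a * e * a⁻¹ * e = a * (y⁻¹ * e * y) * a⁻¹ * (y⁻¹ * e * y) := by
      have m1 := yc he
      have m2 := conj_mem_of_mem_normalizer (nZ ha) m1
      generalize y⁻¹ * e * y = f at e3 m1 m2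
      calc a * e * a⁻¹ * e = a * (e * f) * a⁻¹ * (a * f * a⁻¹)⁻¹ * e := by group
        _ = e * (f * (a * f * a⁻¹)⁻¹) * e := by rw [← e3]; group
        _ = _ := by
          rw [ea.inv m2, ea.comm m1 m2, ea.comm he (mul_mem m2 m1), mul_assoc _ e, ea e he, mul_one]
    nth_rewrite 1 [e4]
    rw [← e2]
    group
  · have c2 : Nat.card N[T] = 2 * Nat.card ↥(N[T] ⊓ N[Q]) := card2 inf_le_left ha
      (fun h => a1 h.2) fun g hg g1 => ⟨mul_mem hg ha, swap_mul u hg ha (fun h => g1 ⟨hg, h⟩) a1⟩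
    obtain ⟨x', t', p', hx', ht'⟩ := (h6.loc T b.T2 (ne_bot_mono m.ne b.le) a ha _ ha'
      ⟨1, by rw [pow_one, pow_two, a2]⟩ (is2_cj ⟨1, by rw [pow_one, pow_two, a2]⟩ y) h3).s3ex
      ⟨inf_le_left, norm2 inf_le_left c2⟩
      (h3.trans (orderOf_dvd_card_of_mem ⟨mul_mem ha ha', hw⟩)) ha (fun h => a1 h.2)
      (a2 ▸ one_mem _)
    exact b.p.notMemW h6 m.two b.hx
      (eq_of_le_of_card_le b.le (m.max T b.T2 x' t' p' hx' ht') ▸ b.ht)

theorem case2W {S U : Subgroup G} {x0 : G} (S2 : IsPGroup 2 S) (hS : S ≤ N[T]) (le : T ≤ S)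
    (c2 : Nat.card S = 2 * Nat.card T) (d : Bad S T U x0) : False := by
  have out : ∀ g ∈ S, g ∈ N[Q] → g ∈ T := fun g hg => b.inf_norm S2 le hg
  have zt := b.ztW m h6
  have US := d.step.1.le
  have ZU := zt ▸ d.cen
  have hZ : Q ⊓ C1[t] ≤ C[S] := by
    rcases d.alt with h | ⟨n, hn, v, hv, h⟩
    · rwa [← zt]
    have aS := US (conj_mem_of_mem_normalizer hn (d.cen hv))
    have k : ∀ c ∈ U, n⁻¹ * c * n ∈ T → c ∈ C1[n * v * n⁻¹] := fun c hc h1 => by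
      rw [← cj_centralizer_singleton, mem_cj]
      exact mem_centralizer_singleton_iff.2 (hv.2 _ h1)
    have nc := fun {c} (hc : c ∈ U) => US (conj_mem_of_mem_normalizer' hn hc)
    refine le_centralizer_iff.1 (le2 le c2 aS h (le_centralizer_iff.1 b.cent)
      (b.notvW m h6 u (hS aS) (fun h1 => h (out _ aS h1)) ?_ fun c hc e he c1 e1 => ?_))
    · rw [show n * v * n⁻¹ * (n * v * n⁻¹) = n * (v * v) * n⁻¹ by group, u.eaU v (zt ▸ hv)]
      group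
    · refine ⟨mul_mem hc he, k _ (ZU (mul_mem hc he)) ?_⟩
      rw [show n⁻¹ * (c * e) * n = n⁻¹ * c * n * (n⁻¹ * e * n) by group]
      exact mul2 le c2 (nc (ZU hc)) (nc (ZU he)) (fun h => c1 ⟨hc, k c (ZU hc) h⟩)
        fun h => e1 ⟨he, k e (ZU he) h⟩
  obtain ⟨s, hs, s1⟩ := d.exu S2
  obtain ⟨r, hr, rn, r1⟩ := d.exr S2 le c2
  have cm : ∀ n ∈ N[U], ∀ z ∈ Q ⊓ C1[t], ∀ c ∈ U, c * (n * z * n⁻¹) = n * z * n⁻¹ * c :=
    fun n hn z hz c hc => by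
      calc _ = n * (n⁻¹ * c * n * z) * n⁻¹ := by group
        _ = _ := by rw [hZ hz _ (US (conj_mem_of_mem_normalizer' hn hc))]; group
  have sq : ∀ n, ∀ z ∈ Q ⊓ C1[t], n * z * n⁻¹ * (n * z * n⁻¹) = 1 := fun n z hz => by
    rw [show n * z * n⁻¹ * (n * z * n⁻¹) = n * (z * z) * n⁻¹ by group, u.eaU z hz]
    group
  by_cases h : ∀ n ∈ N[U], ∀ z ∈ Q ⊓ C1[t], n * z * n⁻¹ ∈ T
  · obtain ⟨g, hg, h3⟩ := d.tv r (le hr) rn r1 fun c hc n hn => h n hn _ (u.brT hr hc.2)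
    obtain ⟨z, hz, z1⟩ := u.exists_U
    have m1 := swap_fix u (hS (US hs)) (fun h => s1 (out s (US hs) h))
      (u.invol (h _ (inv_mem hg) z hz) (sq _ z hz)) (cm _ (inv_mem hg) z hz s hs)
    have i2 := H62.isPGroup_two_iff.1 b.T2 r hr
    refine h6.not3 (S2.to_le US) (ne_bot_of_mem (ZU hz) z1) rn
      (mul_mem (mul_mem hg rn) (inv_mem hg)) i2 (is2_cj i2 g) (k := 1)
      (by rw [pow_one, pow_two, u.eaU z hz]) z1 ?_ h3
    calc r * (g * r * g⁻¹) * z = r * g * (r * (g⁻¹ * z * g⁻¹⁻¹)) * g⁻¹ := by group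
      _ = r * z * g * r * g⁻¹ := by rw [u.cent hr m1]; group
      _ = _ := by rw [u.cent hr hz]; group
  · push Not at h
    obtain ⟨n, hn, z, hz, h⟩ := h
    exact r1 (d.tv0 r (le hr) rn fun c hc => (u.cent hr (ut_cent u hS out hZ
      (US (conj_mem_of_mem_normalizer hn (ZU hz))) h (sq n z hz) hc.2
      (cm n hn z hz c hc.1).symm)).symm)

end Big

theorem Big.mainW {T Q : Subgroup G} {x t : G} (b : Big T Q x t) (m : Mx Q) (h6 : W6 G)
    (hr : ¬ PRankLE 2 2 G) : ∃ S : Sylow 2 G, IsStronglyClosed T (S : Subgroup G) := by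
  obtain ⟨S, hS, le⟩ := exists_syl_ge (le_top : T ≤ ⊤) b.T2
  obtain ⟨S, rfl⟩ := exists_sylow_top hS
  refine ⟨S, ?_⟩
  by_cases e : T = S
  · exact ⟨le, fun _ _ _ h => e ▸ h⟩
  have nil := isNilpotent_of_isPGroup Nat.prime_two S.2
  obtain ⟨s, hs, s1⟩ := SetLike.exists_of_lt (lt_inf_normalizer_of_isNilpotent nil (le.lt_of_ne e))
  have out : ∀ g ∈ (S : Subgroup G), g ∈ N[Q] → g ∈ T := fun g hg => b.inf_norm S.2 le hg
  have u := b.utW m h6 hs.2 fun h => s1 (out s hs.1 h)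
  have hS' : (S : Subgroup G) ≤ N[T] := by
    rw [← eq_of_inf_normalizer_le nil inf_le_left (le_inf inf_le_left (inf_le_right.trans
      (ut_norm u inf_le_right (le_inf le le_normalizer) fun g hg => out g hg.1)))]
    exact inf_le_right
  have c2 : Nat.card S = 2 * Nat.card T :=
    card2 le hs.1 s1 fun a ha a1 => ut_mul u hS' le out ha hs.1 a1 s1
  by_contra h
  obtain ⟨U, x0, d⟩ := H52.N6F.fusW h6 hr S le c2 b.cl2 (ut_norm u hS' le out) h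
  exact b.case2W m h6 u S.2 hS' le c2 d

theorem Mx.smallW {T Q : Subgroup G} {x t : G} (m : Mx Q) (h6 : W6 G) (p : Pair x t)
    (hx : x ∈ N[Q]) (ht : t ∈ T) (hT : IsSyl 2 T N[Q]) (c2 : Nat.card T = 2 * Nat.card Q)
    (hr : ¬ PRankLE 2 2 G) : N[T] ≤ N[Q] := fun g hg => by
  have le : Q ≤ T := le_syl_of_normalIn hT (normalIn_normalizer Q) m.two
  have t1 := p.notMemW h6 m.two hx
  obtain ⟨v, hv, v1⟩ : ∃ v ∈ om Q, v * t ≠ t * v := by
    obtain ⟨z, -, hz, z1⟩ := m.exom le_rfl le_normalizer m.ne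
    by_contra! h
    exact p.outW h6 m.two hz.1 z1 (h z hz) (h _ (conj_mem_of_mem_normalizer (norm_om Q hx) hz))
  have k : ∀ a ∈ T, a * v = v * a → a ∈ Q := fun a ha c => by
    by_contra a1
    have e : Commute (a * t) v := hv.2.1 _ (mul2 le c2 ha ht a1 t1)
    exact v1 (by simpa using ((Commute.inv_left c).mul_left e).symm.eq)
  by_contra g1
  obtain ⟨c, hc, c1⟩ : ∃ c ∈ Q, c ∉ cj g Q := by
    by_contra! h
    exact g1 (cj_eq_self_iff.1 (eq_of_le_of_card_le h (card_cj g Q).le).symm)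
  have lg : cj g Q ≤ T := cj_le_of_mem_normalizer hg le
  have c3 : Nat.card Q = 2 * Nat.card ↥(Q ⊓ cj g Q) := card2 inf_le_left hc (fun h => c1 h.2)
    fun a ha a1 => ⟨mul_mem ha hc, mul2 lg (by rw [card_cj, c2]) (le ha) (le hc)
      (fun h => a1 ⟨ha, h⟩) c1⟩
  have l1 : Q ⊓ cj g Q ≤ Q ⊓ C1[g * v * g⁻¹] := inf_le_inf_left _ (by
    rw [← cj_centralizer_singleton]
    exact cj_mono (mem_centralizer_iff_le.1 hv.2.1))
  by_cases h : g * v * g⁻¹ ∈ Q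
  · refine (p.o3 h6).idx m.two hx h (c3.trans ?_)
    rw [le_antisymm l1 fun a ha => ⟨ha.1, mem_cj.2 (k _ (conj_mem_of_mem_normalizer' hg (le ha.1))
      (mem_centralizer_singleton_iff.1 (mem_cj.1 (cj_centralizer_singleton g v ▸ ha.2))))⟩]
  have e : g * v * g⁻¹ * t * t = g * v * g⁻¹ := by rw [mul_assoc, p.tt, mul_one]
  obtain ⟨d, hd, -, e1⟩ := p.involW h6 m.two hx (hT.1 ht)
    (mul2 le c2 (conj_mem_of_mem_normalizer hg (le hv.1)) ht h t1) (by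
      rw [e, show g * v * g⁻¹ * (g * v * g⁻¹) = g * (v * v) * g⁻¹ by group, hv.2.2]; group)
  have n := fun {y} (hy : y ∈ N[Q]) =>
    mul_mem (mul_mem (le_normalizer hd) hy) (inv_mem (le_normalizer hd))
  have c4 := (p.conj d).cardW h6 m.two (n hx) (n (hT.1 ht))
  rw [← e1, e] at c4
  have c5 := card_le_of_le l1
  have c6 := cpos (Q ⊓ C1[g * v * g⁻¹])
  obtain ⟨S, hS, lS⟩ := exists_syl_ge (le_top : T ≤ ⊤) (syl_isPGroup hT)
  refine hr (H52.N6F.rank_of_small hS (le.trans lS) (fun a ha => k a ?_ (ha.2 v hv.1).symm) (by nlinarith))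
  exact syl_eq_of_le hT ((syl_isPGroup hS).to_le inf_le_left) (le_inf lS hT.1) inf_le_right ▸
    (⟨ha.1, centralizer_le_normalizer _ ha.2⟩ : a ∈ S ⊓ N[Q])

/-- **The local theorem.** -/
theorem locW (h6 : W6 G) (h : Involves (Equiv.Perm (Fin 4)) G) :
    PRankLE 2 2 G ∨ ∃ (S : Sylow 2 G) (A : Subgroup G), A ≠ ⊥ ∧
      IsStronglyClosed A (S : Subgroup G) ∧ ⁅(⊤ : Subgroup A), ⊤⁆ ≤ center A := by
  refine or_iff_not_imp_left.2 fun hr => ?_
  obtain ⟨Q, m, x, t, p, hx, ht⟩ := W6.exMx h6 h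
  obtain ⟨T, hT, ht'⟩ := exists_syl_ge (zpowers_le.2 ht) (pg_zp p.ht)
  rw [zpowers_le] at ht'
  by_cases c2 : Nat.card T = 2 * Nat.card Q
  · have hN := m.smallW h6 p hx ht' hT c2 hr
    have le : Q ≤ T := le_syl_of_normalIn hT (normalIn_normalizer Q) m.two
    obtain ⟨S, rfl⟩ := exists_sylow_top (syl_top_of_normalizer_le hT hN)
    have cl := (p.o3 h6).cl2 m.two hx
    refine ⟨S, Q, m.ne, ?_, cl2_sub cl⟩
    by_contra hs
    obtain ⟨U, x0, d⟩ := H52.N6F.fusW h6 hr S le c2 cl hN hs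
    exact H17.N6.case1W h6 S.2 p hx le m.ne ht' c2 d
  · obtain ⟨y, s, b⟩ := m.bigW h6 p hx ht' hT c2
    obtain ⟨S, hS⟩ := b.mainW m h6 hr
    exact ⟨S, T, ne_bot_mono m.ne b.le, hS, cl2_sub b.cl2⟩

end Cfsg.Agent.H72.N6
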