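import Cfsg.Agent.H46.J2Defs

/-!
# The four-group `E` is a Sylow `2`-subgroup of the centraliser of the component of `C(E)`
-/

set_option autoImplicit false
open scoped Pointwise commutatorElement
open Subgroup

namespace Cfsg.Agent.H46.S94
open Cfsg.Agent.H8

universe u

local notation "C[" A "]" => Subgroup.centralizer (SetLike.coe A)
local notation "N[" A "]" => Subgroup.normalizer (SetLike.coe A)

namespace Sy52

/-- the extension of `K` by an involution normalising it -/
theorem exists_ext {G : Type u} [Group G] (K : Subgroup G) {t : G} (tt : t * t = 1)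
    (hn : ∀ k ∈ K, t * k * t ∈ K) : ∃ H : Subgroup G, ∀ g, g ∈ H ↔ g ∈ K ∨ g * t ∈ K := by
  have ti : t⁻¹ = t := inv_eq_of_mul_eq_one_right tt
  refine ⟨⟨⟨⟨{g | g ∈ K ∨ g * t ∈ K}, ?_⟩, Or.inl K.one_mem⟩, ?_⟩, fun g => Iff.rfl⟩
  · rintro a b (ha | ha) (hb | hb)
    · exact Or.inl (mul_mem ha hb)
    · exact Or.inr (by rw [mul_assoc]; exact mul_mem ha hb)
    · refine Or.inr ?_
      have := mul_mem ha (hn b hb)
      rwa [show a * t * (t * b * t) = a * (t * t) * b * t by group, tt, mul_one] at this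
    · refine Or.inl ?_
      have := mul_mem ha (hn _ hb)
      rwa [show a * t * (t * (b * t) * t) = a * (t * t) * b * (t * t) by group, tt, mul_one,
        mul_one] at this
  · rintro a (ha | ha)
    · exact Or.inl (inv_mem ha)
    · refine Or.inr ?_
      have := hn _ (inv_mem ha)
      rwa [mul_inv_rev, ti, show t * (t * a⁻¹) * t = (t * t) * a⁻¹ * t by group, tt,
        one_mul] at this

end Sy52

open Sy52 in
theorem sy : SYStmt.{u} := by
  intro Γ _ G _ _ φ t O D P M z y σ τ E Λ ja cx ft ys hΛ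
  have : Fact (Nat.Prime 2) := ⟨Nat.prime_two⟩
  have tt := cx.tt
  have ti : t⁻¹ = t := cx.tinv
  have el : ∀ e ∈ E.map φ, e * e = 1 := by
    rintro _ ⟨e, he, rfl⟩
    rw [← map_mul, ja.wf.el e (mem_sup_left he), map_one]
  have ab : ∀ e ∈ E.map φ, ∀ f ∈ E.map φ, e * f = f * e := fun e he f hf => by
    have h1 := el _ (mul_mem he hf)
    have h2 := inv_eq_of_mul_eq_one_right h1
    rw [mul_inv_rev, inv_eq_of_mul_eq_one_right (el e he),
      inv_eq_of_mul_eq_one_right (el f hf)] at h2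
    exact h2.symm
  have tE : ∀ e ∈ E.map φ, e * t = t * e := by
    rintro _ ⟨e, -, rfl⟩
    exact cx.AC e
  have tC : t ∈ C[E.map φ] := mem_centralizer_iff.2 tE
  have tN : t ∈ N[C[M]] :=
    normalizer_le_normalizer_centralizer M (ys.nE (centralizer_le_normalizer _ tC))
  have tK : ∀ k ∈ C[M], t * k * t ∈ C[M] := fun k hk => by
    have := (mem_normalizer_iff.1 tN k).1 hk
    rwa [ti] at this
  obtain ⟨H, hH⟩ := exists_ext C[M] tt tK
  obtain ⟨R, hR⟩ := exists_ext (E.map φ) tt fun k hk => by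
    rwa [← tE k hk, mul_assoc, tt, mul_one]
  have RC : R ≤ C[E.map φ] := fun r hr => by
    rcases (hR r).1 hr with h | h
    · exact mem_centralizer_iff.2 fun e he => ab e he r h
    · have h2 : r * t ∈ C[E.map φ] := mem_centralizer_iff.2 fun e he => ab e he _ h
      have := mul_mem h2 tC
      rwa [mul_assoc, tt, mul_one] at this
  have Rsq : ∀ r ∈ R, r * r = 1 := fun r hr => by
    rcases (hR r).1 hr with h | h
    · exact el r h
    · have h1 := el _ h
      have h2 := tE _ h
      rw [mul_assoc r t t, tt, mul_one] at h2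
      rw [mul_assoc r t (r * t), ← h2] at h1
      exact h1
  have RP : IsPGroup 2 R := fun r => ⟨1, Subtype.ext (by
    have := Rsq r r.2
    simpa [pow_two] using this)⟩
  have RH : R ≤ H := fun r hr => (hH r).2 (((hR r).1 hr).imp (fun h => ys.EM h) fun h => ys.EM h)
  have RK : ∀ r ∈ R, r ∈ C[M] → r ∈ E.map φ := fun r hr hk =>
    ys.two r (RC hr) hk ⟨1, by simpa [pow_two] using Rsq r hr⟩
  have tR : t ∈ R := (hR t).2 (Or.inr (by rw [tt]; exact one_mem _))
  obtain ⟨S, hS, RS⟩ := exists_isSylowIn_ge RP RH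
  have SR : S = R := by
    by_contra hne
    obtain ⟨u, ⟨huS, huN⟩, huR⟩ := SetLike.exists_of_lt
      (lt_inf_normalizer_of_lt hS.isPGroup (lt_of_le_of_ne RS (Ne.symm hne)))
    obtain ⟨x, xS, xN, xR, xK⟩ : ∃ x, x ∈ S ∧ x ∈ N[R] ∧ x ∉ R ∧ x ∈ C[M] := by
      rcases (hH u).1 (hS.le huS) with h | h
      · exact ⟨u, huS, huN, huR, h⟩
      · refine ⟨u * t, mul_mem huS (RS tR), mul_mem huN (le_normalizer tR), fun h2 => huR ?_, h⟩
        have := mul_mem h2 tR
        rwa [mul_assoc, tt, mul_one] at this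
    have h1 : x * t * x⁻¹ * t ∈ R := mul_mem ((mem_normalizer_iff.1 xN t).1 tR) tR
    have h2 : x * t * x⁻¹ * t ∈ C[M] := by
      have := mul_mem xK (tK _ (inv_mem xK))
      rwa [← mul_assoc, ← mul_assoc] at this
    obtain ⟨e, he, hx⟩ := RK _ h1 h2
    have e1 : e = 1 := by
      by_contra e1
      refine ft.te e he e1 (isConj_iff.2 ⟨x, ?_⟩)
      rw [← cx.AC, hx, mul_assoc _ t t, tt, mul_one]
    have xt : x * t = t * x := by
      rw [e1, map_one] at hx
      have h3 : x * t * x⁻¹ = t := by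
        rw [← ti]
        nth_rewrite 1 [ti]
        exact eq_inv_of_mul_eq_one_left hx.symm
      rw [mul_inv_eq_iff_eq_mul] at h3
      exact h3
    obtain ⟨α, hα⟩ := cx.aut xt
    obtain ⟨n, hn⟩ := hS.isPGroup ⟨x, xS⟩
    have hn' : x ^ 2 ^ n = 1 := congrArg Subtype.val hn
    have hp : ∀ (k : ℕ) (a : Γ), φ ((α ^ k) a) = x ^ k * φ a * (x ^ k)⁻¹ := fun k => by
      induction k with
      | zero => intro a; simp
      | succ k ih =>
        intro a
        rw [pow_succ', MulAut.mul_apply, hα, ih, pow_succ']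
        group
    have hE := ja.jf.cL α (fun l hl => cx.inj (by
      rw [hα, ← mem_centralizer_iff.1 xK _ (hΛ ⟨l, hl, rfl⟩), mul_inv_cancel_right]))
      ⟨n, MulEquiv.ext fun a => cx.inj (by rw [hp, hn']; simp)⟩
    refine xR ((hR x).2 (Or.inl (ys.two x (mem_centralizer_iff.2 ?_) xK ⟨n, hn'⟩)))
    rintro _ ⟨a, ha, rfl⟩
    have := hα a
    rw [hE a ha, eq_mul_inv_iff_mul_eq] at this
    exact this
  have HN : H ≤ N[C[M]] := fun h hh => by
    rcases (hH h).1 hh with k | k
    · exact le_normalizer k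
    · have := mul_mem (le_normalizer k) tN
      rwa [mul_assoc, tt, mul_one] at this
  have h := hS.inf_of_le_normalizer HN
  rw [inf_of_le_right (show C[M] ≤ H from fun k hk => (hH k).2 (Or.inl hk)), SR,
    show R ⊓ C[M] = E.map φ from le_antisymm (fun r hr => RK r hr.1 hr.2)
      (le_inf (fun e he => (hR e).2 (Or.inl he)) ys.EM)] at h
  exact h

end Cfsg.Agent.H46.S94
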