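import Mathlib
import Cfsg.Agent.Lead.T3Defs
import Cfsg.Agent.H7.T3Cx

/-!
# One field for the simply laced part of a diagram; simply laced types
-/

set_option autoImplicit false

namespace Cfsg.Agent.H52.T3U

open Cfsg.Agent.H35 Cfsg.Agent.Lead.T3 Cfsg.Agent.H7

universe u

section kit

variable {I W : Type} [Group W] {X : Cox I W} {C C' : Type u}

/-- A chart of the `i`-panel. -/
def Ch (B : Bld X C) (σ : W → C) (i : I) {F : Type} [Zero F] (κ : C → F) : Prop :=
  Set.BijOn κ (B.pan (σ 1) i) Set.univ ∧ κ (σ (X.s i)) = 0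

/-- `g` matches the charts `κ` and `μ` on the `i`-panel. -/
def Mt (B : Bld X C) (B' : Bld X C') (σ : W → C) (σ' : W → C') (i : I) {F : Type} (κ : C → F)
    (μ : C' → F) (g : C → C') : Prop :=
  ∀ x ∈ B.pan (σ 1) i, g x ∈ B'.pan (σ' 1) i ∧ μ (g x) = κ x

/-- `g` is a good panel map. -/
def Pm (B : Bld X C) (B' : Bld X C') (σ : W → C) (σ' : W → C') (i : I) (g : C → C') : Prop :=
  Set.BijOn g (B.pan (σ 1) i) (B'.pan (σ' 1) i) ∧ g (σ (X.s i)) = σ' (X.s i)

theorem apt_pan {B : Bld X C} {σ : W → C} (h : B.Apt σ) (i : I) : σ (X.s i) ∈ B.pan (σ 1) i := by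
  show B.δ _ _ = _
  rw [h, inv_one, one_mul]

theorem Ch.card {B : Bld X C} {σ : W → C} {i : I} {F : Type} [Zero F] {κ : C → F}
    (h : Ch B σ i κ) : B.q (σ 1) i = Nat.card F := by
  unfold Bld.q
  rw [Nat.card_congr (h.1.equiv κ), Nat.card_congr (Equiv.Set.univ F)]

theorem exists_mt {B : Bld X C} {B' : Bld X C'} {σ : W → C} {σ' : W → C'} {i : I} {F : Type}
    [Zero F] (κ : C → F) {μ : C' → F} (h' : Ch B' σ' i μ) : ∃ g, Mt B B' σ σ' i κ μ g := by
  have : ∀ x : C, ∃ y ∈ B'.pan (σ' 1) i, μ y = κ x := fun x => h'.1.surjOn (Set.mem_univ _)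
  choose g hg hg' using this
  exact ⟨g, fun x _ => ⟨hg x, hg' x⟩⟩

theorem Mt.pm {B : Bld X C} {B' : Bld X C'} {σ : W → C} {σ' : W → C'} {i : I} {F : Type}
    [Zero F] {κ : C → F} {μ : C' → F} {g : C → C'} (m : Mt B B' σ σ' i κ μ g) (a : B.Apt σ)
    (a' : B'.Apt σ') (h : Ch B σ i κ) (h' : Ch B' σ' i μ) : Pm B B' σ σ' i g := by
  refine ⟨⟨fun x hx => (m x hx).1, fun x hx y hy e => h.1.injOn hx hy ?_, fun y hy => ?_⟩, ?_⟩
  · rw [← (m x hx).2, ← (m y hy).2, e]
  · obtain ⟨x, hx, e⟩ := h.1.surjOn (Set.mem_univ (μ y))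
    exact ⟨x, hx, h'.1.injOn (m x hx).1 hy ((m x hx).2.trans e)⟩
  · refine h'.1.injOn (m _ (apt_pan a i)).1 (apt_pan a' i) ?_
    rw [(m _ (apt_pan a i)).2, h.2, h'.2]

/-- Panel maps glue to one map. -/
theorem exists_glue (B : Bld X C) (c : C) (d : C') (g : I → C → C') :
    ∃ f : C → C', ∀ i, ∀ x ∈ B.pan c i, f x = g i x := by
  classical
  refine ⟨fun x => if h : ∃ i, x ∈ B.pan c i then g h.choose x else d, fun i x hx => ?_⟩
  have h : ∃ i, x ∈ B.pan c i := ⟨i, hx⟩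
  have e : h.choose = i := X.inj ((h.choose_spec : B.δ c x = _).symm.trans hx)
  simp only [dif_pos h, e]

theorem Mt.congr {B : Bld X C} {B' : Bld X C'} {σ : W → C} {σ' : W → C'} {i : I} {F : Type}
    {κ : C → F} {μ : C' → F} {g f : C → C'} (m : Mt B B' σ σ' i κ μ g)
    (e : ∀ x ∈ B.pan (σ 1) i, f x = g x) : Mt B B' σ σ' i κ μ f := fun x hx => by
  rw [e x hx]; exact m x hx

theorem Pm.congr {B : Bld X C} {B' : Bld X C'} {σ : W → C} {σ' : W → C'} {i : I}
    {g f : C → C'} (m : Pm B B' σ σ' i g) (a : B.Apt σ)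
    (e : ∀ x ∈ B.pan (σ 1) i, f x = g x) : Pm B B' σ σ' i f :=
  ⟨m.1.congr fun x hx => (e x hx).symm, by rw [e _ (apt_pan a i), m.2]⟩

variable [Finite W] [Finite C] [Finite C']

theorem ch_left (pc1 : Pc1Stmt.{u}) {B : Bld X C} {σ : W → C} (a : B.Apt σ) {i j : I} {F : Type}
    [Field F] {κ κ' : C → F} (h : B.PC σ i j F κ κ') : Ch B σ i κ :=
  (pc1 B σ i j F κ κ' a h).2.1

theorem pc_swap (pc1 : Pc1Stmt.{u}) {B : Bld X C} {σ : W → C} (a : B.Apt σ) {i j : I} {F : Type}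
    [Field F] {κ κ' : C → F} (h : B.PC σ i j F κ κ') : B.PC σ j i F κ' κ :=
  (pc1 B σ i j F κ κ' a h).1

theorem ch_right (pc1 : Pc1Stmt.{u}) {B : Bld X C} {σ : W → C} (a : B.Apt σ) {i j : I} {F : Type}
    [Field F] {κ κ' : C → F} (h : B.PC σ i j F κ κ') : Ch B σ j κ' :=
  ch_left pc1 a (pc_swap pc1 a h)

theorem pc_map (pc1 : Pc1Stmt.{u}) {B : Bld X C} {σ : W → C} (a : B.Apt σ) {i j : I} {F E : Type}
    [Field F] [Field E] (θ : F ≃+* E) {κ κ' : C → F} (h : B.PC σ i j F κ κ') :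
    B.PC σ i j E (θ ∘ κ) (θ ∘ κ') :=
  (pc1 B σ i j F κ κ' a h).2.2 E θ 1 1 _ _ one_ne_zero one_ne_zero (fun _ _ => by simp)
    fun _ _ => by simp

/-- Charts in a rank three residue. -/
theorem pc_of_tri (mou : MouStmt.{u}) (res : ResStmt.{u}) (pce : PceStmt.{u}) {B : Bld X C}
    {σ : W → C} (a : B.Apt σ) {i j k : I} (h : X.Tri 3 i j k ∨ X.Tri 4 i j k) {p r : I}
    (hs : ({p, r} : Set I) ⊆ {i, j, k}) (hm : X.m p r = 3) :
    ∃ (F : Type) (_ : Field F) (_ : Finite F) (κ κ' : C → F), B.PC σ p r F κ κ' :=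
  pce B σ p r a hm ((res B).1 _ _ _ hs (mou B i j k h (σ 1)))

theorem equiv_of_card {F E : Type} [Field F] [Field E] [Finite F] [Finite E]
    (h : Nat.card F = Nat.card E) : Nonempty (F ≃+* E) := by
  have := Fintype.ofFinite F
  have := Fintype.ofFinite E
  exact ⟨FiniteField.ringEquivOfCardEq (by simpa [Nat.card_eq_fintype_card] using h)⟩

end kit

theorem linesStmt (mou : MouStmt.{u}) (res : ResStmt.{u}) (pce : PceStmt.{u}) (pc1 : Pc1Stmt.{u})
    (ca : CaStmt.{u}) : LinesStmt.{u} := by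
  intro I W _ _ X C _ B σ n e par a hn h3 h2 h0
  have key : ∀ m, 2 ≤ m → m ≤ n → ∃ (F : Type) (_ : Field F) (_ : Finite F) (κ : ℕ → C → F),
      ∀ k, 0 < k → k < m → B.PC σ (e (par k)) (e k) F (κ (par k)) (κ k) := by
    intro m hm
    induction m, hm using Nat.le_induction with
    | base =>
      intro _
      obtain ⟨F, _, _, κ, κ', h⟩ := h0
      refine ⟨F, inferInstance, inferInstance, fun k => if k = 0 then κ else κ', fun k k0 k2 => ?_⟩
      obtain rfl : k = 1 := by omega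
      have : par 1 = 0 := by have := (h3 1 k0 (by omega)).1; omega
      simpa [this] using h
    | succ m hm ih =>
      intro hmn
      obtain ⟨F, _, _, κ, h⟩ := ih (by omega)
      obtain ⟨hj, hjm⟩ := h3 m (by omega) (by omega)
      have hi : ∃ i, i < m ∧ i ≠ par m ∧ B.PC σ (e i) (e (par m)) F (κ i) (κ (par m)) := by
        rcases Nat.eq_zero_or_pos (par m) with h0 | h0
        · have p1 : par 1 = 0 := by have := (h3 1 one_pos (by omega)).1; omega
          refine ⟨1, by omega, by omega, ?_⟩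
          have := h 1 one_pos (by omega)
          rw [p1] at this
          rw [h0]
          exact pc_swap pc1 a this
        · have := (h3 (par m) h0 (by omega)).1
          exact ⟨par (par m), by omega, by omega, h _ h0 hj⟩
      obtain ⟨i, him, hij, hpc⟩ := hi
      have tri : X.Tri 3 (e i) (e (par m)) (e m) := ⟨hpc.1, hjm, h2 i m him (by omega) hij.symm⟩
      obtain ⟨E, _, _, μ, μ', hE⟩ := pc_of_tri mou res pce a (Or.inl tri)
        (p := e (par m)) (r := e m) (by intro x; simp only [Set.mem_insert_iff]; tauto) hjm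
      obtain ⟨θ, c, hc, hθ⟩ := ca B σ _ _ _ F E _ _ μ μ' a tri hpc hE
      have hn' : B.PC σ (e (par m)) (e m) F (κ (par m)) (θ.symm ∘ μ') :=
        (pc1 B σ _ _ E μ μ' a hE).2.2 F θ.symm (θ.symm c)⁻¹ 1 _ _
          (inv_ne_zero (by simpa using hc)) one_ne_zero
          (fun x hx => by
            rw [hθ x hx, map_mul, RingEquiv.symm_apply_apply, ← mul_assoc, inv_mul_cancel₀
              (by simpa using hc), one_mul])
          fun _ _ => by simp
      refine ⟨F, inferInstance, inferInstance, Function.update κ m (θ.symm ∘ μ'), fun k k0 km => ?_⟩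
      rcases Nat.lt_succ_iff_lt_or_eq.1 km with km | rfl
      · have := (h3 k k0 (by omega)).1
        rw [Function.update_of_ne (by omega), Function.update_of_ne (by omega)]
        exact h k k0 km
      · rw [Function.update_of_ne (by omega), Function.update_self]
        exact hn'
  exact key n hn le_rfl

section tree

theorem tm_adj {n : ℕ} {par : ℕ → ℕ} {sp : ℕ} {a b : Fin n} (hb : b.1 ≠ 0) (hp : par b = a)
    (hab : a.1 < b.1) : tm n par sp a b = if b.1 = sp then 4 else 3 := by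
  have : a ≠ b := fun h => by rw [h] at hab; omega
  unfold tm
  rw [if_neg this, if_pos (Or.inl ⟨hb, hp⟩), max_eq_right hab.le]

theorem tm_non {n : ℕ} {par : ℕ → ℕ} {sp : ℕ} (hpar : ∀ k, 0 < k → k < n → par k < k)
    {a b : Fin n} (hp : par b ≠ a) (hab : a.1 < b.1) : tm n par sp a b = 2 := by
  have : a ≠ b := fun h => by rw [h] at hab; omega
  unfold tm
  rw [if_neg this, if_neg]
  rintro (⟨_, h⟩ | ⟨h0, h⟩)
  · exact hp h
  · have := hpar a (by omega) a.2
    omega

theorem tm_234 {n : ℕ} {par : ℕ → ℕ} {sp : ℕ} {a b : Fin n} (h : a ≠ b) :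
    tm n par sp a b = 2 ∨ tm n par sp a b = 3 ∨ tm n par sp a b = 4 := by
  unfold tm
  rw [if_neg h]
  split_ifs <;> simp

variable {n : ℕ} {W : Type} [Group W] [Finite W] {X : Cox (Fin n) W} {C C' : Type u} [Finite C]
  [Finite C']

/-- Charts on the first `N` nodes. -/
def Chs (B : Bld X C) (σ : W → C) (par : ℕ → ℕ) (N : ℕ) (F : Type) [Field F]
    (κ : Fin n → C → F) : Prop :=
  ∀ a b : Fin n, b.1 ≠ 0 → b.1 < N → par b = a → B.PC σ a b F (κ a) (κ b)

theorem exists_chs (mou : MouStmt.{u}) (res : ResStmt.{u}) (pce : PceStmt.{u})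
    (li : LinesStmt.{u}) (B : Bld X C) {σ : W → C} (a : B.Apt σ) {par : ℕ → ℕ} {sp N : ℕ}
    (hn : 3 ≤ n) (hN : 2 ≤ N) (hNn : N ≤ n) (hpar : ∀ k, 0 < k → k < n → par k < k)
    (h2 : par 2 = 1) (hsp : ∀ k, 0 < k → k < N → k ≠ sp) (hm : ∀ a b, X.m a b = tm n par sp a b) :
    ∃ (F : Type) (_ : Field F) (_ : Finite F) (κ : Fin n → C → F), Chs B σ par N F κ := by
  let e : ℕ → Fin n := fun k => if h : k < n then ⟨k, h⟩ else ⟨0, by omega⟩
  have he : ∀ k, k < n → (e k).1 = k := fun k h => by simp only [e, dif_pos h]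
  have he' : ∀ a : Fin n, e a = a := fun a => Fin.ext (he _ a.2)
  have p1 : par 1 = 0 := by have := hpar 1 one_pos (by omega); omega
  have m01 : X.m (e 0) (e 1) = 3 := by
    rw [hm, tm_adj (by rw [he] <;> omega) (by rw [he, he] <;> omega) (by rw [he, he] <;> omega),
      if_neg]
    rw [he _ (by omega)]
    exact hsp 1 one_pos (by omega)
  have m02 : X.m (e 0) (e 2) = 2 := by
    rw [hm, tm_non hpar (by rw [he, he] <;> omega) (by rw [he, he] <;> omega)]
  have m12 : X.m (e 1) (e 2) = 3 ∨ X.m (e 1) (e 2) = 4 := by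
    rw [hm, tm_adj (by rw [he] <;> omega) (by rw [he, he] <;> omega) (by rw [he, he] <;> omega)]
    split_ifs <;> simp
  obtain ⟨F, _, _, κ, h⟩ := li B σ N e par a hN
    (fun k k0 kN => by
      have := hpar k k0 (by omega)
      refine ⟨this, ?_⟩
      rw [hm, tm_adj (by rw [he] <;> omega) (by rw [he, he] <;> omega) (by rw [he, he] <;> omega),
        if_neg]
      rw [he _ (by omega)]
      exact hsp k k0 kN)
    (fun a b hab hb hp => by
      rw [hm, tm_non hpar (by rw [he, he] <;> omega) (by rw [he, he] <;> omega)])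
    (pc_of_tri mou res pce a (i := e 0) (j := e 1) (k := e 2)
      (m12.imp (fun h => ⟨m01, h, m02⟩) fun h => ⟨m01, h, m02⟩)
      (by intro x; simp only [Set.mem_insert_iff, Set.mem_singleton_iff]; tauto) m01)
  refine ⟨F, inferInstance, inferInstance, fun a => κ a, fun a b hb hbN hp => ?_⟩
  have := h b (by omega) hbN
  rwa [hp, he', he'] at this

omit [Finite C'] in
theorem Chs.ch (pc1 : Pc1Stmt.{u}) {B : Bld X C} {σ : W → C} (a : B.Apt σ) {par : ℕ → ℕ} {N : ℕ}
    {F : Type} [Field F] {κ : Fin n → C → F} (h : Chs B σ par N F κ) (hN : 2 ≤ N) (hNn : N ≤ n)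
    (hpar : ∀ k, 0 < k → k < n → par k < k) (i : Fin n) (hi : i.1 < N) : Ch B σ i (κ i) := by
  rcases Nat.eq_zero_or_pos i.1 with h0 | h0
  · have p1 : par 1 = 0 := by have := hpar 1 one_pos (by omega); omega
    exact ch_left pc1 a (h i ⟨1, by omega⟩ one_ne_zero (by show 1 < N; omega) (by rw [h0]; exact p1))
  · have := hpar i h0 i.2
    exact ch_right pc1 a (h ⟨par i, by omega⟩ i (by omega) hi rfl)

omit [Finite C'] in
theorem Chs.map (pc1 : Pc1Stmt.{u}) {B : Bld X C} {σ : W → C} (a : B.Apt σ) {par : ℕ → ℕ} {N : ℕ}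
    {F E : Type} [Field F] [Field E] (θ : F ≃+* E) {κ : Fin n → C → F} (h : Chs B σ par N F κ) :
    Chs B σ par N E fun i => θ ∘ κ i := fun i j h1 h2 h3 => pc_map pc1 a θ (h i j h1 h2 h3)

theorem isom_of (gl : GlueStmt.{u}) {B : Bld X C} {B' : Bld X C'} {σ : W → C} {σ' : W → C'}
    (a : B.Apt σ) (a' : B'.Apt σ') {par : ℕ → ℕ} {sp : ℕ} (hn : 3 ≤ n)
    (hpar : ∀ k, 0 < k → k < n → par k < k) (hm : ∀ a b, X.m a b = tm n par sp a b) (f : C → C')
    (hp : ∀ i, Pm B B' σ σ' i f)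
    (he : ∀ i j : Fin n, j.1 ≠ 0 → par j = i → B.Ext B' σ σ' {i, j} f) : B.Isom B' := by
  have : Nontrivial (Fin n) := Fin.nontrivial_iff_two_le.2 (by omega)
  have key : ∀ i j : Fin n, i.1 < j.1 → B.Ext B' σ σ' {i, j} f := fun i j hij => by
    by_cases h : par j = i
    · exact he i j (by omega) h
    · exact (gl B B').2 σ σ' f i j a a' (by rw [hm, tm_non hpar h hij]) fun k _ => hp k
  refine (gl B B').1 this (fun i j h => by rw [hm]; exact tm_234 h) σ σ' f a a' fun i j h => ?_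
  rcases lt_or_gt_of_ne (Fin.val_ne_of_ne h) with h | h
  · exact key i j h
  · rw [Set.pair_comm]; exact key j i h

end tree

theorem sl_par {n : ℕ} {par : ℕ → ℕ} (h : SLType n par) :
    3 ≤ n ∧ (∀ k, 0 < k → k < n → par k < k) ∧ par 2 = 1 := by
  rcases h with ⟨h, rfl⟩ | ⟨h, rfl⟩ | ⟨h, rfl⟩
  · exact ⟨h, fun k _ _ => by unfold parA; omega, rfl⟩
  · refine ⟨by omega, fun k _ _ => by unfold parD; split_ifs <;> omega, ?_⟩
    unfold parD; rw [if_neg (by omega)]
  · refine ⟨by omega, fun k _ _ => by unfold parE; split_ifs <;> omega, ?_⟩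
    unfold parE; rw [if_neg (by omega)]

theorem uslStmt (gl : GlueStmt.{u}) (mou : MouStmt.{u}) (res : ResStmt.{u}) (pce : PceStmt.{u})
    (pc1 : Pc1Stmt.{u}) (pc2 : Pc2Stmt.{u}) (ca : CaStmt.{u}) : UslStmt.{u} := by
  have li : LinesStmt.{u} := @linesStmt mou res pce pc1 ca
  refine ⟨?_, ?_⟩
  · intro n W _ _ X C _ B σ a par hs hm
    obtain ⟨hn, hpar, h2⟩ := sl_par hs
    obtain ⟨F, _, _, κ, h⟩ := exists_chs mou res pce li B a (N := n) hn (by omega) le_rfl hpar h2
      (fun k _ _ => by omega) hm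
    exact ⟨F, inferInstance, inferInstance, fun i =>
      (h.ch pc1 a (by omega) le_rfl hpar i i.2).card⟩
  · intro n W _ _ X C C' _ _ B B' σ σ' a a' hq par hs hm
    obtain ⟨hn, hpar, h2⟩ := sl_par hs
    obtain ⟨F, _, _, κ, h⟩ := exists_chs mou res pce li B a (N := n) hn (by omega) le_rfl hpar h2
      (fun k _ _ => by omega) hm
    obtain ⟨E, _, _, μ, h'⟩ := exists_chs mou res pce li B' a' (N := n) hn (by omega) le_rfl hpar h2
      (fun k _ _ => by omega) hm
    have hc := fun i : Fin n => h.ch pc1 a (by omega) le_rfl hpar i i.2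
    obtain ⟨θ⟩ : Nonempty (E ≃+* F) := equiv_of_card (by
      rw [← (hc ⟨0, by omega⟩).card, hq,
        (h'.ch pc1 a' (by omega) le_rfl hpar ⟨0, by omega⟩ (by show 0 < n; omega)).card])
    have h'' := h'.map pc1 a' θ
    have hc' := fun i : Fin n => h''.ch pc1 a' (by omega) le_rfl hpar i i.2
    choose g hg using fun i => exists_mt (B := B) (σ := σ) (κ i) (hc' i)
    obtain ⟨f, hf⟩ := exists_glue B (σ 1) (σ' 1) g
    have hf' := fun i => (hg i).congr (hf i)
    exact isom_of gl a a' hn hpar hm f (fun i => (hf' i).pm a a' (hc i) (hc' i)) fun i j hj hp =>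
      pc2 B B' σ σ' i j F _ _ _ _ f a a' (h i j hj j.2 hp) (h'' i j hj j.2 hp) (hf' i) (hf' j)

end Cfsg.Agent.H52.T3U
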