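import Mathlib
import Cfsg.Agent.H52.T3Lines

/-!
# Types `C_n` and `F₄`
-/

set_option autoImplicit false

namespace Cfsg.Agent.H52.T3U

open Cfsg.Agent.H35 Cfsg.Agent.Lead.T3 Cfsg.Agent.H7

universe u

section quad

variable {I W : Type} [Group W] [Finite W] {X : Cox I W} {C C' : Type u} [Finite C] [Finite C']

/-- The panel map induced by an isomorphism of root groups. -/
theorem exists_pk (qc1 : Qc1Stmt.{u}) {B : Bld X C} {B' : Bld X C'} {σ : W → C} {σ' : W → C'}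
    (a : B.Apt σ) (a' : B'.Apt σ') {j k : I} {F : Type} [Field F] {κ : C → F} {μ : C' → F}
    {d : QD F (B.R σ {j, k} 1 k)} {d' : QD F (B'.R σ' {j, k} 1 k)} (h : QC B σ j k κ d)
    (h' : QC B' σ' j k μ d') (f : B.R σ {j, k} 1 k ≃* B'.R σ' {j, k} 1 k) :
    ∃ g : C → C', Pm B B' σ σ' k g ∧ ∀ y, g (y.1 (σ (X.s k))) = (f y).1 (σ' (X.s k)) := by
  classical
  have b := (qc1 B σ j k F κ d a h).2.2.2.2
  have b' := (qc1 B' σ' j k F μ d' a' h').2.2.2.2
  let ι := Function.invFunOn (fun y : B.R σ {j, k} 1 k => y.1 (σ (X.s k))) Set.univ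
  have hι : ∀ y : B.R σ {j, k} 1 k, ι (y.1 (σ (X.s k))) = y := fun y =>
    b.injOn.leftInvOn_invFunOn (Set.mem_univ y)
  refine ⟨fun x => (f (ι x)).1 (σ' (X.s k)), ⟨⟨fun x _ => b'.mapsTo (Set.mem_univ _),
    fun x hx y hy e => ?_, fun y hy => ?_⟩, ?_⟩, fun y => by simp only [hι]⟩
  · obtain ⟨p, -, rfl⟩ := b.surjOn hx
    obtain ⟨r, -, rfl⟩ := b.surjOn hy
    simp only [hι] at e
    rw [f.injective (b'.injOn (Set.mem_univ _) (Set.mem_univ _) e)]
  · obtain ⟨p, -, rfl⟩ := b'.surjOn hy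
    refine ⟨(f.symm p).1 (σ (X.s k)), b.mapsTo (Set.mem_univ _), ?_⟩
    simp only [hι, MulEquiv.apply_symm_apply]
  · have := hι 1
    simp only [OneMemClass.coe_one, Equiv.Perm.coe_one, id_eq] at this
    simp only [this, map_one, OneMemClass.coe_one, Equiv.Perm.coe_one, id_eq]

omit [Finite C'] in
theorem qpar (qc1 : Qc1Stmt.{u}) (qb1 : Qb1Stmt.{u}) {B : Bld X C} {σ : W → C} (a : B.Apt σ)
    {j k : I} {F : Type} [Field F] [Finite F] {κ : C → F} {d : QD F (B.R σ {j, k} 1 k)}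
    (h : QC B σ j k κ d) : QPar (Nat.card F) (B.q (σ 1) k) (B.Kind σ j k) := by
  obtain ⟨h1, h2, h3, -⟩ := qc1 B σ j k F κ d a h
  have := (qb1 d).1
  rw [h1] at this
  unfold QPar at this ⊢
  rwa [h3]

/-- The quadrangle: a map on the `k`-panel which together with any chart matching map on the
`j`-panel extends. -/
theorem exists_quad (qc1 : Qc1Stmt.{u}) (qb2 : Qb2Stmt.{u}) (qcx : QcxStmt.{u}) {B : Bld X C}
    {B' : Bld X C'} {σ : W → C} {σ' : W → C'} (a : B.Apt σ) (a' : B'.Apt σ') {j k : I} {F : Type}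
    [Field F] [Finite F] {κ : C → F} {μ : C' → F} {d : QD F (B.R σ {j, k} 1 k)}
    {d' : QD F (B'.R σ' {j, k} 1 k)} (h : QC B σ j k κ d) (h' : QC B' σ' j k μ d')
    (hq : B.q (σ 1) k = B'.q (σ' 1) k) (hk : B.Kind σ j k ↔ B'.Kind σ' j k) :
    ∃ (φ : B.R σ {j, k} 1 k ≃* B'.R σ' {j, k} 1 k) (g : C → C'), Pm B B' σ σ' k g ∧
      (∀ y, g (y.1 (σ (X.s k))) = (φ y).1 (σ' (X.s k))) ∧
      (∀ t y, φ (d.sm t y) = d'.sm t (φ y)) ∧
      ∀ f : C → C', (∀ x ∈ B.pan (σ 1) k, f x = g x) → Mt B B' σ σ' j κ μ f →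
        B.Ext B' σ σ' {j, k} f := by
  obtain ⟨h1, h2, h3, -, b⟩ := qc1 B σ j k F κ d a h
  obtain ⟨h1', -, h3', -⟩ := qc1 B' σ' j k F μ d' a' h'
  obtain ⟨φ, c, hc, e1, e2, e3, e4, e5⟩ := qb2 d d' (by rw [h1, h1', hq]) (by rw [← h3, ← h3', hk])
  obtain ⟨g, hg, hg'⟩ := exists_pk qc1 a a' h h' φ
  refine ⟨φ, g, hg, hg', e3, fun f hf hm => ?_⟩
  exact qcx B B' σ σ' j k F κ μ d d' φ c f a a' h h' hc e1 e2 e3 e4 e5 hm fun y => by
    rw [hf _ (b.mapsTo (Set.mem_univ y)), hg']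

end quad

theorem parA_lt {n : ℕ} : ∀ k, 0 < k → k < n → parA k < k := fun k _ _ => by unfold parA; omega

theorem tri_c {n : ℕ} {W : Type} [Group W] {X : Cox (Fin n) W} {i j k : Fin n} (hi : i.1 + 3 = n)
    (hj : j.1 + 2 = n) (hk : k.1 + 1 = n) (hm : ∀ a b, X.m a b = tm n parA (n - 1) a b) :
    X.Tri 4 i j k := by
  refine ⟨?_, ?_, ?_⟩
  · rw [hm, tm_adj (by omega) (by unfold parA; omega) (by omega), if_neg (by omega)]
  · rw [hm, tm_adj (by omega) (by unfold parA; omega) (by omega), if_pos (by omega)]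
  · rw [hm, tm_non parA_lt (by unfold parA; omega) (by omega)]

theorem ucStmt (gl : GlueStmt.{u}) (mou : MouStmt.{u}) (res : ResStmt.{u}) (pce : PceStmt.{u})
    (pc1 : Pc1Stmt.{u}) (pc2 : Pc2Stmt.{u}) (ca : CaStmt.{u}) (qb1 : Qb1Stmt.{u})
    (qb2 : Qb2Stmt.{u}) (qce : QceStmt.{u}) (qc1 : Qc1Stmt.{u}) (qcx : QcxStmt.{u}) :
    UcStmt.{u} := by
  have li : LinesStmt.{u} := @linesStmt mou res pce pc1 ca
  refine ⟨?_, ?_⟩
  · intro n W _ _ X C _ B σ a j k hn hj hk hm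
    obtain ⟨F, _, _, κ, h⟩ := exists_chs mou res pce li B a (N := n - 1) hn (by omega) (by omega)
      parA_lt rfl (fun k _ _ => by omega) hm
    let i : Fin n := ⟨n - 3, by omega⟩
    have hi : i.1 + 3 = n := by show n - 3 + 3 = n; omega
    obtain ⟨d, hd⟩ := qce B σ i j k F _ _ a (tri_c hi hj hk hm)
      (h i j (by omega) (by omega) (by unfold parA; omega))
    refine ⟨F, inferInstance, inferInstance, fun i hik => ?_, qpar qc1 qb1 a hd⟩
    have := Fin.val_ne_of_ne hik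
    exact (h.ch pc1 a (by omega) (by omega) parA_lt i (by omega)).card
  · intro n W _ _ X C C' _ _ B B' σ σ' a a' hq j k hn hj hk hm hkind
    obtain ⟨F, _, _, κ, h⟩ := exists_chs mou res pce li B a (N := n - 1) hn (by omega) (by omega)
      parA_lt rfl (fun k _ _ => by omega) hm
    obtain ⟨E, _, _, μ, h'⟩ := exists_chs mou res pce li B' a' (N := n - 1) hn (by omega) (by omega)
      parA_lt rfl (fun k _ _ => by omega) hm
    have hc := fun (i : Fin n) hi => h.ch pc1 a (by omega) (by omega) parA_lt i hi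
    obtain ⟨θ⟩ : Nonempty (E ≃+* F) := equiv_of_card (by
      rw [← (hc j (by omega)).card, hq,
        (h'.ch pc1 a' (by omega) (by omega) parA_lt j (by omega)).card])
    have h'' := h'.map pc1 a' θ
    have hc' := fun (i : Fin n) hi => h''.ch pc1 a' (by omega) (by omega) parA_lt i hi
    let i : Fin n := ⟨n - 3, by omega⟩
    have hi : i.1 + 3 = n := by show n - 3 + 3 = n; omega
    obtain ⟨d, hd⟩ := qce B σ i j k F _ _ a (tri_c hi hj hk hm)
      (h i j (by omega) (by omega) (by unfold parA; omega))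
    obtain ⟨d', hd'⟩ := qce B' σ' i j k F _ _ a' (tri_c hi hj hk hm)
      (h'' i j (by omega) (by omega) (by unfold parA; omega))
    obtain ⟨φ, gk, hgk, -, -, hx⟩ := exists_quad qc1 qb2 qcx a a' hd hd' (hq k) hkind
    have hg : ∀ i : Fin n, ∃ g : C → C', (i = k → g = gk) ∧
        (i.1 < n - 1 → Mt B B' σ σ' i (κ i) (θ ∘ μ i) g) := fun i => by
      by_cases hi : i.1 < n - 1
      · obtain ⟨g, hg⟩ := exists_mt (B := B) (σ := σ) (κ i) (hc' i hi)
        exact ⟨g, fun e => by rw [e] at hi; omega, fun _ => hg⟩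
      · exact ⟨gk, fun _ => rfl, fun h => absurd h hi⟩
    choose g hg1 hg2 using hg
    obtain ⟨f, hf⟩ := exists_glue B (σ 1) (σ' 1) g
    have hf' := fun i hi => (hg2 i hi).congr (hf i)
    have hfk : ∀ x ∈ B.pan (σ 1) k, f x = gk x := fun x hx => by rw [hf k x hx, hg1 k rfl]
    refine isom_of gl a a' hn parA_lt hm f (fun i => ?_) fun p r hr hp => ?_
    · by_cases hi : i.1 < n - 1
      · exact (hf' i hi).pm a a' (hc i hi) (hc' i hi)
      · obtain rfl : i = k := Fin.ext (by omega)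
        exact hgk.congr a hfk
    · unfold parA at hp
      by_cases hr' : r.1 < n - 1
      · exact pc2 B B' σ σ' p r F _ _ _ _ f a a' (h p r hr hr' hp) (h'' p r hr hr' hp)
          (hf' p (by omega)) (hf' r hr')
      · obtain rfl : r = k := Fin.ext (by omega)
        obtain rfl : p = j := Fin.ext (by omega)
        exact hx f hfk (hf' p (by omega))

theorem uf1Stmt (mou : MouStmt.{u}) (res : ResStmt.{u}) (pce : PceStmt.{u}) (pc1 : Pc1Stmt.{u})
    (qb1 : Qb1Stmt.{u}) (qce : QceStmt.{u}) (qc1 : Qc1Stmt.{u}) : Uf1Stmt.{u} := by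
  intro I W _ _ X C _ B σ i j k l a t1 t2 hq
  obtain ⟨F, _, _, κ, κ', h⟩ := pc_of_tri mou res pce a (Or.inr t1) (p := i) (r := j)
    (by intro x; simp only [Set.mem_insert_iff, Set.mem_singleton_iff]; tauto) t1.1
  obtain ⟨E, _, _, μ, μ', h'⟩ := pc_of_tri mou res pce a (Or.inr t2) (p := l) (r := k)
    (by intro x; simp only [Set.mem_insert_iff, Set.mem_singleton_iff]; tauto) t2.1
  obtain ⟨d, hd⟩ := qce B σ i j k F κ κ' a t1 h
  have hj := (ch_right pc1 a h).card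
  refine ⟨F, inferInstance, inferInstance, (ch_left pc1 a h).card, hj,
    by rw [(ch_left pc1 a h').card, (ch_right pc1 a h').card], ?_⟩
  have hp := qpar qc1 qb1 a hd
  obtain ⟨h1, h2, h3, h4, -⟩ := qc1 B σ j k F κ' d a hd
  have hF : 1 < Nat.card F := Finite.one_lt_card
  rw [hj] at hq
  rcases hp with ⟨hk, e | e⟩ | ⟨hk, ⟨e, -⟩ | ⟨r, e, e' | e'⟩⟩
  · exact Or.inl ⟨e, Or.inl hk⟩
  · exfalso; rw [e] at hq; nlinarith
  · refine Or.inl ⟨e, Or.inr (h4 ?_)⟩
    exact ((qb1 d).2 (by rw [h1, e])).2.resolve_left fun hz => hk (h3.2 hz)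
  · exact Or.inr ⟨by rw [e', e], hk⟩
  · exfalso
    rw [e', e] at hq
    rw [e] at hF
    have hr : 1 < r := by
      by_contra hr
      have : r ≤ 1 := by omega
      interval_cases r <;> simp at hF
    have := Nat.pow_lt_pow_right hr (show 2 < 3 by norm_num)
    omega

/-- An additive bijection which is compatible with enough scalars is semilinear. -/
theorem semilin {Y Y' : Type u} [Group Y] [Group Y'] {E E' : Type} [Field E] [Field E']
    {T : Type} (A : Y → E) (A' : Y' → E') (hA : Function.Bijective A) (hA' : Function.Bijective A')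
    (m : ∀ y y', A (y * y') = A y + A y') (m' : ∀ y y', A' (y * y') = A' y + A' y') (φ : Y ≃* Y')
    (s : T → Y → Y) (s' : T → Y' → Y') (hs : ∀ t, ∃ e, ∀ y, A (s t y) = e * A y)
    (hs' : ∀ t, ∃ e, ∀ y, A' (s' t y) = e * A' y) (hφ : ∀ t y, φ (s t y) = s' t (φ y))
    (gen : ∀ y y' : Y, y ≠ 1 → y' ∈ Subgroup.closure (Set.range fun t => s t y)) :
    ∃ (θ : E ≃+* E') (b : E'), b ≠ 0 ∧ ∀ y, A' (φ y) = b * θ (A y) := by
  have A1 : A 1 = 0 := by simpa using m 1 1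
  have A1' : A' 1 = 0 := by simpa using m' 1 1
  let e := Equiv.ofBijective A hA
  have he : ∀ x, A (e.symm x) = x := fun x => e.apply_symm_apply x
  have he' : ∀ y, e.symm (A y) = y := fun y => e.symm_apply_apply y
  let ψ : E →+ E' := AddMonoidHom.mk' (fun x => A' (φ (e.symm x))) fun x y => by
    rw [← m', ← map_mul]
    congr 2
    apply hA.1
    rw [m, he, he, he]
  have hψ : ∀ y, ψ (A y) = A' (φ y) := fun y => by
    show A' (φ (e.symm (A y))) = _
    rw [he']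
  have bψ : Function.Bijective ψ := hA'.comp (φ.bijective.comp e.symm.bijective)
  have b0 : ψ 1 ≠ 0 := fun h => one_ne_zero (bψ.1 (h.trans (map_zero ψ).symm))
  have y1 : e.symm 1 ≠ 1 := fun h => by
    have := he 1
    rw [h, A1] at this
    exact zero_ne_one this
  have key : ∀ y, ∃ c, ∀ x, ψ (A y * x) = c * ψ x := fun y => by
    refine Subgroup.closure_induction (p := fun y _ => ∃ c, ∀ x, ψ (A y * x) = c * ψ x) ?_ ?_ ?_ ?_
      (gen _ y y1)
    · rintro _ ⟨t, rfl⟩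
      obtain ⟨c, hc⟩ := hs t
      obtain ⟨c', hc'⟩ := hs' t
      refine ⟨c', fun x => ?_⟩
      obtain ⟨z, rfl⟩ := hA.2 x
      simp only
      rw [hc, he, mul_one, ← hc, hψ, hφ, hc', hψ]
    · exact ⟨0, fun x => by rw [A1, zero_mul, map_zero, zero_mul]⟩
    · rintro y z - - ⟨c, hc⟩ ⟨c', hc'⟩
      exact ⟨c + c', fun x => by rw [m, add_mul, map_add, hc, hc', add_mul]⟩
    · rintro y - ⟨c, hc⟩
      have : A y⁻¹ = -A y := by
        have := m y y⁻¹
        rw [mul_inv_cancel, A1] at this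
        linear_combination -this
      exact ⟨-c, fun x => by rw [this, neg_mul, map_neg, hc, neg_mul]⟩
  have key' : ∀ a x, ψ (a * x) * ψ 1 = ψ a * ψ x := fun a x => by
    obtain ⟨y, rfl⟩ := hA.2 a
    obtain ⟨c, hc⟩ := key y
    have := hc 1
    rw [mul_one] at this
    rw [hc, this]; ring
  let θ : E →+* E' :=
    { toFun := fun x => (ψ 1)⁻¹ * ψ x
      map_one' := inv_mul_cancel₀ b0
      map_mul' := fun x y => by
        have := key' x y
        field_simp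
        linear_combination this
      map_zero' := by simp
      map_add' := fun x y => by rw [map_add, mul_add] }
  have bθ : Function.Bijective θ := (mulLeft_bijective₀ _ (inv_ne_zero b0)).comp bψ
  refine ⟨RingEquiv.ofBijective θ bθ, ψ 1, b0, fun y => ?_⟩
  rw [← hψ]
  show _ = ψ 1 * ((ψ 1)⁻¹ * ψ (A y))
  rw [← mul_assoc, mul_inv_cancel₀ b0, one_mul]

theorem uf2Stmt (gl : GlueStmt.{u}) (mou : MouStmt.{u}) (res : ResStmt.{u}) (pce : PceStmt.{u})
    (pc1 : Pc1Stmt.{u}) (pc2 : Pc2Stmt.{u}) (qb1 : Qb1Stmt.{u}) (qb2 : Qb2Stmt.{u})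
    (qce : QceStmt.{u}) (qc1 : Qc1Stmt.{u}) (qcx : QcxStmt.{u}) (qc4 : Qc4Stmt.{u}) :
    Uf2Stmt.{u} := by
  classical
  intro I W _ _ X C C' _ _ B B' σ σ' i j k l a a' t1 t2 mil hall hq hle hkind
  have s1 : ({i, j} : Set I) ⊆ {i, j, k} := by
    intro x; simp only [Set.mem_insert_iff, Set.mem_singleton_iff]; tauto
  have s2 : ({l, k} : Set I) ⊆ {l, k, j} := by
    intro x; simp only [Set.mem_insert_iff, Set.mem_singleton_iff]; tauto
  obtain ⟨F, _, _, κ, κ', h⟩ := pc_of_tri mou res pce a (Or.inr t1) s1 t1.1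
  obtain ⟨F', _, _, ν0, ν0', h0⟩ := pc_of_tri mou res pce a' (Or.inr t1) s1 t1.1
  obtain ⟨E, _, _, μ, μ', g⟩ := pc_of_tri mou res pce a (Or.inr t2) s2 t2.1
  obtain ⟨E', _, _, ρ, ρ', g'⟩ := pc_of_tri mou res pce a' (Or.inr t2) s2 t2.1
  obtain ⟨θ0⟩ : Nonempty (F' ≃+* F) := equiv_of_card (by
    rw [← (ch_left pc1 a h).card, hq, (ch_left pc1 a' h0).card])
  have h' := pc_map pc1 a' θ0 h0
  obtain ⟨d, hd⟩ := qce B σ i j k F _ _ a t1 h
  obtain ⟨d', hd'⟩ := qce B' σ' i j k F _ _ a' t1 h'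
  obtain ⟨φ, gk, hgk, hgφ, hsm, hx⟩ := exists_quad qc1 qb2 qcx a a' hd hd' (hq k) hkind
  obtain ⟨c1, c2, -, -, b⟩ := qc1 B σ j k F _ d a hd
  obtain ⟨-, -, -, -, b'⟩ := qc1 B' σ' j k F _ d' a' hd'
  obtain ⟨m1, m2⟩ := qc4 B σ j k l F E _ μ μ' d a hd t2 g
  obtain ⟨m1', m2'⟩ := qc4 B' σ' j k l F E' _ ρ ρ' d' a' hd' t2 g'
  obtain ⟨θ, c, hc, hθ⟩ := semilin (fun y : B.R σ {j, k} 1 k => μ' (y.1 (σ (X.s k))))
    (fun y : B'.R σ' {j, k} 1 k => ρ' (y.1 (σ' (X.s k))))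
    (Set.bijOn_univ.1 ((ch_right pc1 a g).1.comp b))
    (Set.bijOn_univ.1 ((ch_right pc1 a' g').1.comp b')) m1 m1' φ d.sm d'.sm m2 m2' hsm
    ((qb1 d).2 (by rw [c1, ← (ch_right pc1 a h).card]; exact hle)).1
  have g2 : B.PC σ l k E' (θ ∘ μ) fun x => c * θ (μ' x) :=
    (pc1 B σ l k E μ μ' a g).2.2 E' θ 1 c _ _ one_ne_zero hc (fun _ _ => by simp) fun _ _ => rfl
  have mk : Mt B B' σ σ' k (fun x => c * θ (μ' x)) ρ' gk := fun x hx => by
    refine ⟨hgk.1.mapsTo hx, ?_⟩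
    obtain ⟨y, -, rfl⟩ := b.surjOn hx
    simp only
    rw [hgφ]
    exact hθ y
  obtain ⟨gi, mi⟩ := exists_mt (B := B) (σ := σ) κ (ch_left pc1 a' h')
  obtain ⟨gj, mj⟩ := exists_mt (B := B) (σ := σ) κ' (ch_right pc1 a' h')
  obtain ⟨gl', ml⟩ := exists_mt (B := B) (σ := σ) (θ ∘ μ) (ch_left pc1 a' g')
  have m1 : ∀ p, X.m p p = 1 := fun p => by unfold Cox.m; rw [X.s_mul_s, orderOf_one]
  have ne : ∀ {p r n}, X.m p r = n → n ≠ 1 → p ≠ r := fun e hn hp => hn (by rw [← e, hp, m1])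
  have ij := ne t1.1 (by norm_num)
  have jk := ne t1.2.1 (by norm_num)
  have ik := ne t1.2.2 (by norm_num)
  have lk := ne t2.1 (by norm_num)
  have lj := ne t2.2.2 (by norm_num)
  have il := ne mil (by norm_num)
  obtain ⟨f, hf⟩ := exists_glue B (σ 1) (σ' 1)
    fun p => if p = i then gi else if p = j then gj else if p = k then gk else gl'
  have fi : ∀ x ∈ B.pan (σ 1) i, f x = gi x := fun x hx => by simp [hf i x hx]
  have fj : ∀ x ∈ B.pan (σ 1) j, f x = gj x := fun x hx => by simp [hf j x hx, ij.symm]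
  have fk : ∀ x ∈ B.pan (σ 1) k, f x = gk x := fun x hx => by simp [hf k x hx, jk.symm, ik.symm]
  have fl : ∀ x ∈ B.pan (σ 1) l, f x = gl' x := fun x hx => by simp [hf l x hx, il.symm, lj, lk]
  have pi := (mi.congr fi).pm a a' (ch_left pc1 a h) (ch_left pc1 a' h')
  have pj := (mj.congr fj).pm a a' (ch_right pc1 a h) (ch_right pc1 a' h')
  have pk := hgk.congr a fk
  have pl := (ml.congr fl).pm a a' (ch_left pc1 a g2) (ch_left pc1 a' g')
  have dig : ∀ p r, X.m p r = 2 → Pm B B' σ σ' p f → Pm B B' σ σ' r f → B.Ext B' σ σ' {p, r} f :=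
    fun p r hm hp hr => (gl B B').2 σ σ' f p r a a' hm (by rintro _ (rfl | rfl) <;> assumption)
  have eij := pc2 B B' σ σ' i j F _ _ _ _ f a a' h h' (mi.congr fi) (mj.congr fj)
  have elk := pc2 B B' σ σ' l k E' _ _ _ _ f a a' g2 g' (ml.congr fl) (mk.congr fk)
  have ejk := hx f fk (mj.congr fj)
  have eik := dig i k t1.2.2 pi pk
  have elj := dig l j t2.2.2 pl pj
  have eil := dig i l mil pi pl
  have sw : ∀ {p r}, B.Ext B' σ σ' {p, r} f → B.Ext B' σ σ' {r, p} f := fun h => by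
    rwa [Set.pair_comm]
  have q1 := t1.1
  have q2 := t1.2.1
  have q3 := t1.2.2
  have q4 := t2.1
  have q5 := t2.2.2
  refine (gl B B').1 ⟨i, j, ij⟩ (fun p r hpr => ?_) σ σ' f a a' fun p r hpr => ?_
  · have := T3Cx.m_symm X p r
    rcases hall p with rfl | rfl | rfl | rfl <;> rcases hall r with rfl | rfl | rfl | rfl <;>
      first | exact absurd rfl hpr | omega
  · rcases hall p with rfl | rfl | rfl | rfl <;> rcases hall r with rfl | rfl | rfl | rfl <;>
      first | exact absurd rfl hpr | assumption | (apply sw; assumption)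

end Cfsg.Agent.H52.T3U
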